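/-
The Suzuki group as stabiliser of the ovoid: translations, torus, the inversion, the stabiliser of two points.
-/
import Cfsg.Prelude.Def_LieExceptional
import Mathlib

set_option autoImplicit false

namespace Cfsg.Agent.Suzuki

open scoped Matrix Pointwise
open Matrix (SpecialLinearGroup)

variable {F : Type*} [Field F]

/-- The field data: `θ` is `x ↦ x ^ 2^(m+1)`, `θ∘θ` is squaring. -/
structure Dat (F : Type*) [Field F] (m : ℕ) where
  /-- the endomorphism -/
  θ : F →+* F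
  pow : ∀ x, θ x = x ^ 2 ^ (m + 1)
  sq : ∀ x, θ (θ x) = x ^ 2
  char2 : CharP F 2
  one_le : 1 ≤ m

variable {m : ℕ} (D : Dat F m)

theorem exists_dat [Fintype F] (hm : 1 ≤ m) (hF : Fintype.card F = 2 ^ (2 * m + 1)) : Nonempty (Dat F m) := by
  haveI := Fact.mk Nat.prime_two
  haveI : CharP F 2 := charP_of_card_eq_prime_pow (f := 2 * m + 1) hF
  refine ⟨⟨iterateFrobenius F 2 (m + 1), iterateFrobenius_def 2 (m + 1), fun x => ?_, inferInstance, hm⟩⟩
  rw [iterateFrobenius_def, iterateFrobenius_def, ← pow_mul, ← pow_add,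
    show m + 1 + (m + 1) = (2 * m + 1) + 1 by ring, pow_succ, pow_mul, ← hF, FiniteField.pow_card]

namespace Dat

include D

theorem two : (2 : F) = 0 := haveI := D.char2; CharP.cast_eq_zero F 2

theorem add_self (x : F) : x + x = 0 := by linear_combination x * D.two

theorem eq_of_add {x y : F} (h : x + y = 0) : x = y := by linear_combination h - y * D.two

theorem theta_eq_zero {x : F} : D.θ x = 0 ↔ x = 0 := map_eq_zero D.θ

theorem theta_surj [Fintype F] : Function.Surjective D.θ :=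
  Finite.injective_iff_surjective.1 D.θ.injective

theorem sq_inj {x y : F} (h : x ^ 2 = y ^ 2) : x = y := by
  rw [← D.sq, ← D.sq] at h
  exact D.θ.injective (D.θ.injective h)

theorem theta_fixed {x : F} (h : D.θ x = x) : x = 0 ∨ x = 1 := by
  have h1 := D.sq x
  rw [h, h] at h1
  have h2 : x * (x - 1) = 0 := by linear_combination (-1 : F) * h1
  rcases mul_eq_zero.1 h2 with e | e
  exacts [Or.inl e, Or.inr (sub_eq_zero.1 e)]

theorem card_big [Fintype F] (hF : Fintype.card F = 2 ^ (2 * m + 1)) : 2 ^ (m + 1) + 2 < Fintype.card F := by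
  have hm := D.one_le
  rw [hF]
  have h1 : 2 ^ (m + 1) * 2 ≤ 2 ^ (2 * m + 1) := by
    rw [← pow_succ]; exact Nat.pow_le_pow_right (by norm_num) (by omega)
  have h2 : 2 ^ 2 ≤ 2 ^ (m + 1) := Nat.pow_le_pow_right (by norm_num) (by omega)
  omega

end Dat

/-- The equation of the ovoid. -/
def ov (θ : F →+* F) (x y : F) : F := x * y + θ x * x ^ 2 + θ y

/-- The vector of an affine point. -/
def vP (θ : F →+* F) (x y : F) : Fin 4 → F := ![ov θ x y, y, x, 1]

theorem vP_ne (θ : F →+* F) (x y : F) : vP θ x y ≠ 0 := fun h => by simpa [vP] using congrFun h 3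

/-- An affine point. -/
noncomputable def pP (θ : F →+* F) (x y : F) : Projectivization F (Fin 4 → F) :=
  Projectivization.mk F (vP θ x y) (vP_ne θ x y)

/-- The condition on a vector to span a point of the ovoid. -/
def OnOv (θ : F →+* F) (v : Fin 4 → F) : Prop :=
  (v 1 = 0 ∧ v 2 = 0 ∧ v 3 = 0) ∨ (v 3 ≠ 0 ∧ v 0 = v 3 * ov θ (v 2 / v 3) (v 1 / v 3))

theorem pow_add_two (x : F) : x ^ (2 ^ (m + 1) + 2) = D.θ x * x ^ 2 := by rw [D.pow, pow_add]

include D in
theorem mem_cases {p : Projectivization F (Fin 4 → F)} :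
    p ∈ Cfsg.suzukiOvoid F m ↔ p = Cfsg.suzukiPointInfinity F ∨ ∃ x y, p = pP D.θ x y := by
  constructor
  · rintro ⟨v, hv, rfl, rfl | ⟨x, y, rfl⟩⟩
    · exact Or.inl rfl
    · refine Or.inr ⟨x, y, ?_⟩
      simp only [pP, vP, ov, ← pow_add_two D, D.pow y]
  · rintro (rfl | ⟨x, y, rfl⟩)
    · exact ⟨_, by simp, rfl, Or.inl rfl⟩
    · refine ⟨_, vP_ne D.θ x y, rfl, Or.inr ⟨x, y, ?_⟩⟩
      simp only [vP, ov, ← pow_add_two D, D.pow y]

include D in
theorem mk_mem_iff {v : Fin 4 → F} (hv : v ≠ 0) :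
    Projectivization.mk F v hv ∈ Cfsg.suzukiOvoid F m ↔ OnOv D.θ v := by
  rw [mem_cases D]
  constructor
  · rintro (h | ⟨x, y, h⟩)
    · obtain ⟨c, rfl⟩ := (Projectivization.mk_eq_mk_iff' F _ _ _ _).1 h
      exact Or.inl ⟨by simp, by simp, by simp⟩
    · obtain ⟨c, rfl⟩ := (Projectivization.mk_eq_mk_iff' F _ _ _ _).1 h
      have hc : c ≠ 0 := fun e => hv (by simp [e])
      refine Or.inr ⟨by simpa [vP] using hc, ?_⟩
      simp [vP, hc]
  · rintro (⟨h1, h2, h3⟩ | ⟨h3, h0⟩)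
    · refine Or.inl ((Projectivization.mk_eq_mk_iff' F _ _ _ _).2 ⟨v 0, ?_⟩)
      funext i; fin_cases i <;> simp [h1, h2, h3]
    · refine Or.inr ⟨v 2 / v 3, v 1 / v 3, (Projectivization.mk_eq_mk_iff' F _ _ _ _).2 ⟨v 3, ?_⟩⟩
      funext i; fin_cases i <;> simp [vP, h0, mul_div_cancel₀, h3]

theorem act_mk (g : SpecialLinearGroup (Fin 4) F) {v : Fin 4 → F} (hv : v ≠ 0)
    (hv' : (g : Matrix (Fin 4) (Fin 4) F) *ᵥ v ≠ 0) :
    g • Projectivization.mk F v hv = Projectivization.mk F ((g : Matrix (Fin 4) (Fin 4) F) *ᵥ v) hv' := rfl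

theorem mulVec_ne (g : SpecialLinearGroup (Fin 4) F) {v : Fin 4 → F} (hv : v ≠ 0) :
    (g : Matrix (Fin 4) (Fin 4) F) *ᵥ v ≠ 0 := fun h => hv (by
  have := congrArg ((g⁻¹ : SpecialLinearGroup (Fin 4) F) : Matrix (Fin 4) (Fin 4) F).mulVec h
  rwa [Matrix.mulVec_mulVec, ← Matrix.SpecialLinearGroup.coe_mul, inv_mul_cancel,
    Matrix.SpecialLinearGroup.coe_one, Matrix.one_mulVec, Matrix.mulVec_zero] at this)

variable [Fintype F]

theorem mem_of_maps {g : SpecialLinearGroup (Fin 4) F}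
    (h : ∀ p ∈ Cfsg.suzukiOvoid F m, g • p ∈ Cfsg.suzukiOvoid F m) : g ∈ Cfsg.Sz F m := by
  haveI : Finite (Projectivization F (Fin 4 → F)) := inferInstance
  refine MulAction.mem_stabilizer_iff.2 (Set.eq_of_subset_of_ncard_le ?_ ?_ (Set.toFinite _))
  · rintro _ ⟨p, hp, rfl⟩
    exact h p hp
  · exact le_of_eq (Set.ncard_image_of_injective _ (MulAction.injective g)).symm

theorem smul_mem {g : SpecialLinearGroup (Fin 4) F} (hg : g ∈ Cfsg.Sz F m)
    {p : Projectivization F (Fin 4 → F)} (hp : p ∈ Cfsg.suzukiOvoid F m) : g • p ∈ Cfsg.suzukiOvoid F m := by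
  have h := MulAction.mem_stabilizer_iff.1 hg
  rw [← h]
  exact Set.smul_mem_smul_set hp

/-! ### The generators -/

/-- The matrix of a translation. -/
def tMat (θ : F →+* F) (a b : F) : Matrix (Fin 4) (Fin 4) F :=
  !![1, a, θ a * a + b, ov θ a b; 0, 1, θ a, b; 0, 0, 1, a; 0, 0, 0, 1]

/-- A translation. -/
def T (θ : F →+* F) (a b : F) : SpecialLinearGroup (Fin 4) F :=
  ⟨tMat θ a b, by
    rw [Matrix.det_of_upperTriangular]
    · simp [Fin.prod_univ_four, tMat]
    · intro i j hij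
      fin_cases i <;> fin_cases j <;> first | (exfalso; revert hij; decide) | simp [tMat]⟩

theorem T_val (θ : F →+* F) (a b : F) : (T θ a b : Matrix (Fin 4) (Fin 4) F) = tMat θ a b := rfl

/-- The diagonal of a torus element. -/
def hVec (θ : F →+* F) (u : Fˣ) : Fin 4 → F :=
  ![θ u * (u : F) ^ 2, θ u, (θ u)⁻¹, (θ u * (u : F) ^ 2)⁻¹]

/-- A torus element. -/
def H (θ : F →+* F) (u : Fˣ) : SpecialLinearGroup (Fin 4) F :=
  ⟨Matrix.diagonal (hVec θ u), by
    have h : θ (u : F) ≠ 0 := (map_ne_zero θ).2 u.ne_zero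
    simp [Matrix.det_diagonal, Fin.prod_univ_four, hVec]
    field_simp⟩

theorem H_val (θ : F →+* F) (u : Fˣ) : (H θ u : Matrix (Fin 4) (Fin 4) F) = Matrix.diagonal (hVec θ u) := rfl

/-- The inversion. -/
def w (F : Type*) [Field F] : SpecialLinearGroup (Fin 4) F :=
  ⟨Cfsg.suzukiForm F, by
    simp [Cfsg.suzukiForm, Matrix.det_succ_row_zero, Fin.sum_univ_succ, Fin.succAbove]
    ring⟩

theorem w_val : (w F : Matrix (Fin 4) (Fin 4) F) = Cfsg.suzukiForm F := rfl

theorem w_mulVec (v : Fin 4 → F) : (w F : Matrix (Fin 4) (Fin 4) F) *ᵥ v = ![v 3, v 2, v 1, v 0] := by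
  funext i; fin_cases i <;> simp [w_val, Cfsg.suzukiForm, dotProduct, Fin.sum_univ_four, Matrix.vecHead, Matrix.vecTail]

include D

theorem ov_shift (a b x y : F) :
    ov D.θ (x + a) (y + D.θ a * x + b) = ov D.θ x y + a * y + (D.θ a * a + b) * x + ov D.θ a b := by
  simp only [ov, map_add, map_mul, D.sq]
  linear_combination (x * a * D.θ a + x * a * D.θ x + x ^ 2 * D.θ a + a ^ 2 * D.θ x) * D.two

theorem T_mulVec (a b x y : F) :
    (T D.θ a b : Matrix (Fin 4) (Fin 4) F) *ᵥ vP D.θ x y = vP D.θ (x + a) (y + D.θ a * x + b) := by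
  funext i
  fin_cases i
  · simp [T_val, tMat, vP, dotProduct, Fin.sum_univ_four, ov_shift D]; ring
  all_goals simp [T_val, tMat, vP, dotProduct, Fin.sum_univ_four] <;> ring

theorem T_inf (a b : F) : T D.θ a b • Cfsg.suzukiPointInfinity F = Cfsg.suzukiPointInfinity F := by
  rw [Cfsg.suzukiPointInfinity, act_mk _ _ (mulVec_ne _ (by simp))]
  refine (Projectivization.mk_eq_mk_iff' F _ _ _ _).2 ⟨1, ?_⟩
  funext i
  fin_cases i <;> simp [T_val, tMat, dotProduct, Fin.sum_univ_four, Matrix.vecHead, Matrix.vecTail]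

theorem T_pt (a b x y : F) : T D.θ a b • pP D.θ x y = pP D.θ (x + a) (y + D.θ a * x + b) := by
  rw [pP, act_mk _ _ (mulVec_ne _ (vP_ne _ _ _))]
  simp only [T_mulVec D, pP]

theorem T_mem (a b : F) : T D.θ a b ∈ Cfsg.Sz F m := mem_of_maps fun p hp => by
  rcases (mem_cases D).1 hp with rfl | ⟨x, y, rfl⟩
  · rw [T_inf D]; exact (mem_cases D).2 (Or.inl rfl)
  · rw [T_pt D]; exact (mem_cases D).2 (Or.inr ⟨_, _, rfl⟩)

theorem T_mul (a b c d : F) : T D.θ a b * T D.θ c d = T D.θ (a + c) (b + d + D.θ a * c) := by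
  apply Subtype.ext
  rw [Matrix.SpecialLinearGroup.coe_mul, T_val, T_val, T_val]
  ext i j
  fin_cases i <;> fin_cases j <;> simp [tMat, ov, Matrix.mul_apply, Fin.sum_univ_four, D.sq] <;>
    first
      | ring1
      | (refine D.eq_of_add ?_
         ring_nf
         simp [D.two, show (4 : F) = 0 by linear_combination (2 : F) * D.two,
           show (6 : F) = 0 by linear_combination (3 : F) * D.two])

/-- The scale of a torus element. -/
theorem H_mulVec (u : Fˣ) (x y : F) :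
    (H D.θ u : Matrix (Fin 4) (Fin 4) F) *ᵥ vP D.θ x y =
      (D.θ u * (u : F) ^ 2)⁻¹ • vP D.θ ((u : F) ^ 2 * x) (D.θ u ^ 2 * (u : F) ^ 2 * y) := by
  have h : D.θ (u : F) ≠ 0 := (map_ne_zero D.θ).2 u.ne_zero
  funext i
  fin_cases i <;> simp [H_val, Matrix.mulVec_diagonal, hVec, vP, ov, D.sq] <;> field_simp <;> ring

theorem H_pt (u : Fˣ) (x y : F) :
    H D.θ u • pP D.θ x y = pP D.θ ((u : F) ^ 2 * x) (D.θ u ^ 2 * (u : F) ^ 2 * y) := by
  rw [pP, act_mk _ _ (mulVec_ne _ (vP_ne _ _ _)), pP]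
  exact (Projectivization.mk_eq_mk_iff' F _ _ _ _).2 ⟨_, (H_mulVec D u x y).symm⟩

theorem H_inf (u : Fˣ) : H D.θ u • Cfsg.suzukiPointInfinity F = Cfsg.suzukiPointInfinity F := by
  rw [Cfsg.suzukiPointInfinity, act_mk _ _ (mulVec_ne _ (by simp))]
  refine (Projectivization.mk_eq_mk_iff' F _ _ _ _).2 ⟨D.θ u * (u : F) ^ 2, ?_⟩
  funext i
  fin_cases i <;> simp [H_val, Matrix.mulVec_diagonal, hVec]

theorem H_mem (u : Fˣ) : H D.θ u ∈ Cfsg.Sz F m := mem_of_maps fun p hp => by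
  rcases (mem_cases D).1 hp with rfl | ⟨x, y, rfl⟩
  · rw [H_inf D]; exact (mem_cases D).2 (Or.inl rfl)
  · rw [H_pt D]; exact (mem_cases D).2 (Or.inr ⟨_, _, rfl⟩)

omit [Fintype F] in
theorem ov_ne {x y : F} (h : ov D.θ x y = 0) : x = 0 ∧ y = 0 := by
  by_cases hx : x = 0
  · subst hx
    simp [ov] at h
    exact ⟨rfl, h⟩
  · exfalso
    have hθ : D.θ x ≠ 0 := (map_ne_zero D.θ).2 hx
    set t := y / (x * D.θ x)
    have hy : y = x * D.θ x * t := by simp only [t]; field_simp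
    rw [hy, ov, map_mul, map_mul, D.sq] at h
    have h1 : x ^ 2 * D.θ x * (t + 1 + D.θ t) = 0 := by linear_combination h
    have h2 : t + 1 + D.θ t = 0 := (mul_eq_zero.1 h1).resolve_left (mul_ne_zero (pow_ne_zero 2 hx) hθ)
    have h3 : D.θ t = t + 1 := (D.eq_of_add h2).symm
    have h4 : t * (t - 1) = 0 := by
      have h5 := D.sq t
      rw [h3, map_add, map_one, h3] at h5
      linear_combination (-1 : F) * h5 + D.two
    rcases mul_eq_zero.1 h4 with e | e
    · rw [e, map_zero, zero_add] at h3; exact one_ne_zero h3.symm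
    · rw [sub_eq_zero.1 e, map_one] at h3
      exact one_ne_zero (by linear_combination (-1 : F) * h3)

omit [Fintype F] in
theorem ov_inv {x y : F} (h : ov D.θ x y ≠ 0) :
    ov D.θ (y / ov D.θ x y) (x / ov D.θ x y) = 1 / ov D.θ x y := by
  set f := ov D.θ x y with hf
  have hθf : D.θ f ≠ 0 := (map_ne_zero D.θ).2 h
  have key : x * y * D.θ f + D.θ y * y ^ 2 + D.θ x * f ^ 2 = D.θ f * f := by
    simp only [hf, ov, map_add, map_mul, map_pow, D.sq]
    linear_combination (x * y * D.θ x * D.θ y + x ^ 3 * y * D.θ x ^ 2) * D.two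
  rw [ov, map_div₀, map_div₀]
  field_simp
  linear_combination key

theorem w_mem : w F ∈ Cfsg.Sz F m := mem_of_maps fun p hp => by
  rcases (mem_cases D).1 hp with rfl | ⟨x, y, rfl⟩
  · rw [Cfsg.suzukiPointInfinity, act_mk _ _ (mulVec_ne _ (by simp)), mk_mem_iff D]
    refine Or.inr ⟨by simp [w_mulVec], by simp [w_mulVec, ov]⟩
  · rw [pP, act_mk _ _ (mulVec_ne _ (vP_ne _ _ _)), mk_mem_iff D]
    simp only [w_mulVec, vP]
    by_cases h : ov D.θ x y = 0
    · obtain ⟨rfl, rfl⟩ := ov_ne D h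
      exact Or.inl ⟨by simp, by simp, by simp [h]⟩
    · refine Or.inr ⟨by simpa using h, ?_⟩
      simp only [Matrix.cons_val, ov_inv D h]
      field_simp

end Cfsg.Agent.Suzuki
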