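/-
Normal forms, order, permutation action and simplicity of the Suzuki groups.
-/
import Cfsg.Agent.Lib.Suzuki.Ovoid
import Cfsg.Agent.S0326

set_option autoImplicit false

namespace Cfsg.Agent.Suzuki

open scoped Matrix Pointwise
open Matrix (SpecialLinearGroup)

variable {F : Type*} [Field F] [Fintype F] {m : ℕ} (D : Dat F m)

theorem H_mul (θ : F →+* F) (u v : Fˣ) : H θ u * H θ v = H θ (u * v) := by
  apply Subtype.ext
  rw [Matrix.SpecialLinearGroup.coe_mul, H_val, H_val, H_val, Matrix.diagonal_mul_diagonal]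
  congr 1
  funext i
  fin_cases i <;> simp [hVec] <;> ring

theorem H_one (θ : F →+* F) : H θ (1 : Fˣ) = 1 := by
  apply Subtype.ext
  rw [H_val, Matrix.SpecialLinearGroup.coe_one, ← Matrix.diagonal_one]
  congr 1
  funext i
  fin_cases i <;> simp [hVec]

theorem T_zero (θ : F →+* F) : T θ (0 : F) 0 = 1 := by
  apply Subtype.ext
  rw [T_val, Matrix.SpecialLinearGroup.coe_one]
  ext i j
  fin_cases i <;> fin_cases j <;> simp [tMat, ov]

theorem H_T (θ : F →+* F) (hsq : ∀ x, θ (θ x) = x ^ 2) (u : Fˣ) (a b : F) :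
    H θ u * T θ a b = T θ ((u : F) ^ 2 * a) (θ u ^ 2 * (u : F) ^ 2 * b) * H θ u := by
  have h : θ (u : F) ≠ 0 := (map_ne_zero θ).2 u.ne_zero
  apply Subtype.ext
  rw [Matrix.SpecialLinearGroup.coe_mul, Matrix.SpecialLinearGroup.coe_mul, H_val, T_val, T_val]
  ext i j
  fin_cases i <;> fin_cases j <;>
    simp [tMat, ov, hVec, hsq, Matrix.diagonal_mul, Matrix.mul_diagonal] <;> field_simp <;> ring

theorem w_mul_w : w F * w F = 1 := by
  apply Subtype.ext
  rw [Matrix.SpecialLinearGroup.coe_mul, Matrix.SpecialLinearGroup.coe_one, w_val]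
  ext i j
  fin_cases i <;> fin_cases j <;> simp [Cfsg.suzukiForm, Matrix.mul_apply, Fin.sum_univ_four]

theorem w_H_w (θ : F →+* F) (u : Fˣ) : w F * H θ u * w F = H θ u⁻¹ := by
  apply Subtype.ext
  rw [Matrix.SpecialLinearGroup.coe_mul, Matrix.SpecialLinearGroup.coe_mul, H_val, H_val, w_val]
  ext i j
  fin_cases i <;> fin_cases j <;> simp [Cfsg.suzukiForm, hVec, Matrix.mul_apply, Fin.sum_univ_four, Matrix.vecMul, dotProduct, mul_comm]

include D

theorem T_inv (a b : F) : (T D.θ a b)⁻¹ = T D.θ a (b + D.θ a * a) := by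
  haveI := D.char2
  refine inv_eq_of_mul_eq_one_right ?_
  rw [T_mul D, ← T_zero D.θ]
  congr 1
  · exact D.add_self a
  · linear_combination (b + D.θ a * a) * D.two

theorem w_inf : w F • Cfsg.suzukiPointInfinity F = pP D.θ 0 0 := by
  rw [Cfsg.suzukiPointInfinity, act_mk _ _ (mulVec_ne _ (by simp)), pP]
  refine (Projectivization.mk_eq_mk_iff' F _ _ _ _).2 ⟨1, ?_⟩
  funext i
  fin_cases i <;> simp [w_mulVec, vP, ov]

theorem w_zero : w F • pP D.θ 0 0 = Cfsg.suzukiPointInfinity F := by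
  rw [← w_inf D, ← mul_smul, w_mul_w, one_smul]

theorem pointZero_eq : Cfsg.suzukiPointZero F = pP D.θ 0 0 := by
  rw [Cfsg.suzukiPointZero, pP]
  refine (Projectivization.mk_eq_mk_iff' F _ _ _ _).2 ⟨1, ?_⟩
  funext i
  fin_cases i <;> simp [vP, ov]

theorem pP_ne_inf (x y : F) : pP D.θ x y ≠ Cfsg.suzukiPointInfinity F := fun h => by
  obtain ⟨c, hc⟩ := (Projectivization.mk_eq_mk_iff' F _ _ _ _).1 h
  simpa [vP] using congrFun hc 3

theorem pP_inj {x y x' y' : F} (h : pP D.θ x y = pP D.θ x' y') : x = x' ∧ y = y' := by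
  obtain ⟨c, hc⟩ := (Projectivization.mk_eq_mk_iff' F _ _ _ _).1 h
  have h3 := congrFun hc 3
  have h2 := congrFun hc 2
  have h1 := congrFun hc 1
  simp [vP] at h1 h2 h3
  subst h3
  simp at h1 h2
  exact ⟨h2.symm, h1.symm⟩

/-- A low degree identity. -/
theorem coeff_zero (hF : Fintype.card F = 2 ^ (2 * m + 1)) {a b c : F}
    (h : ∀ x, a * x ^ 2 + b * D.θ x + c * (D.θ x * x ^ 2) = 0) : a = 0 ∧ b = 0 ∧ c = 0 := by
  classical
  have hbig := D.card_big hF
  have hσ : 2 < 2 ^ (m + 1) := by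
    have := D.one_le
    calc 2 < 2 ^ 2 := by norm_num
      _ ≤ _ := Nat.pow_le_pow_right (by norm_num) (by omega)
  set σ := 2 ^ (m + 1)
  let P : Polynomial F := Polynomial.monomial 2 a + Polynomial.monomial σ b + Polynomial.monomial (σ + 2) c
  have hP : P = 0 := by
    refine Polynomial.eq_zero_of_natDegree_lt_card_of_eval_eq_zero P (f := id) Function.injective_id (fun x => ?_) ?_
    · simp only [P, Polynomial.eval_add, Polynomial.eval_monomial, id_eq]
      rw [pow_add, ← D.pow]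
      exact h x
    · refine lt_of_le_of_lt ?_ hbig
      refine (Polynomial.natDegree_add_le _ _).trans (max_le ((Polynomial.natDegree_add_le _ _).trans (max_le ?_ ?_)) ?_)
      all_goals refine (Polynomial.natDegree_monomial_le _).trans ?_; omega
  have h2 := congrArg (fun p => Polynomial.coeff p 2) hP
  have h3 := congrArg (fun p => Polynomial.coeff p σ) hP
  have h4 := congrArg (fun p => Polynomial.coeff p (σ + 2)) hP
  simp only [P, Polynomial.coeff_add, Polynomial.coeff_monomial, Polynomial.coeff_zero] at h2 h3 h4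
  have e1 : σ ≠ 2 := by omega
  have e2 : σ + 2 ≠ 2 := by omega
  have e3 : σ + 2 ≠ σ := by omega
  have e0 : σ ≠ 0 := by omega
  simp [e0, e1, e2, e3, e1.symm, e2.symm, e3.symm] at h2 h3 h4
  exact ⟨h2, h3, h4⟩

theorem fix_two_row (g : SpecialLinearGroup (Fin 4) F) (hg : g ∈ Cfsg.Sz F m)
    (hI : g • Cfsg.suzukiPointInfinity F = Cfsg.suzukiPointInfinity F) (h30 : g.1 3 0 = 0) :
    g.1 3 1 = 0 ∧ g.1 3 2 = 0 := by
  have hne : ∀ x y, g.1 3 1 * y + g.1 3 2 * x + g.1 3 3 ≠ 0 := by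
    intro x y h0
    have hm := smul_mem hg ((mem_cases D).2 (Or.inr ⟨x, y, rfl⟩))
    rw [pP, act_mk _ _ (mulVec_ne _ (vP_ne _ _ _)), mk_mem_iff D] at hm
    have hv3 : (g.1 *ᵥ vP D.θ x y) 3 = 0 := by
      rw [← h0]; simp [vP, Matrix.mulVec, dotProduct, Fin.sum_univ_four, h30]
    rcases hm with ⟨h1, h2, h3⟩ | ⟨h3, -⟩
    · refine pP_ne_inf D x y (MulAction.injective g ?_)
      show g • _ = g • _
      rw [hI, pP, act_mk _ _ (mulVec_ne _ (vP_ne _ _ _)), Cfsg.suzukiPointInfinity]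
      refine (Projectivization.mk_eq_mk_iff' F _ _ _ _).2 ⟨(g.1 *ᵥ vP D.θ x y) 0, ?_⟩
      funext i
      fin_cases i
      · simp
      · simpa using h1.symm
      · simpa using h2.symm
      · simpa using h3.symm
    · exact h3 hv3
  constructor
  · by_contra h
    refine hne 0 (-g.1 3 3 / g.1 3 1) ?_
    field_simp; ring
  · by_contra h
    refine hne (-g.1 3 3 / g.1 3 2) 0 ?_
    field_simp; ring

variable (hF : Fintype.card F = 2 ^ (2 * m + 1))
include hF

theorem fix_two {g : SpecialLinearGroup (Fin 4) F} (hg : g ∈ Cfsg.Sz F m)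
    (hI : g • Cfsg.suzukiPointInfinity F = Cfsg.suzukiPointInfinity F) (h0 : g • pP D.θ 0 0 = pP D.θ 0 0) :
    ∃ u, g = H D.θ u := by
  haveI := D.char2
  set M := g.1 with hM
  obtain ⟨c, hc⟩ := (Projectivization.mk_eq_mk_iff' F _ _ _ _).1 ((act_mk g (by simp) (mulVec_ne g (by simp))).symm.trans hI)
  obtain ⟨c', hc'⟩ := (Projectivization.mk_eq_mk_iff' F _ _ _ _).1 ((act_mk g (vP_ne _ _ _) (mulVec_ne g (vP_ne _ _ _))).symm.trans h0)
  have a1 := congrFun hc 1; have a2 := congrFun hc 2; have a3 := congrFun hc 3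
  have b0 := congrFun hc' 0; have b1 := congrFun hc' 1; have b2 := congrFun hc' 2
  simp [← hM, Matrix.mulVec, dotProduct, Fin.sum_univ_four, vP, ov] at a1 a2 a3 b0 b1 b2
  replace a1 := a1.symm; replace a2 := a2.symm; replace a3 := a3.symm
  replace b0 := b0.symm; replace b1 := b1.symm; replace b2 := b2.symm
  obtain ⟨r1, r2⟩ := fix_two_row D g hg hI a3
  have hw : w F * g * w F ∈ Cfsg.Sz F m := mul_mem (mul_mem (w_mem D) hg) (w_mem D)
  have hwI : (w F * g * w F) • Cfsg.suzukiPointInfinity F = Cfsg.suzukiPointInfinity F := by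
    rw [mul_smul, mul_smul, w_inf D, h0, w_zero D]
  have hval : ∀ i j : Fin 4, (w F * g * w F).1 i j = M (3 - i) (3 - j) := by
    intro i j
    rw [Matrix.SpecialLinearGroup.coe_mul, Matrix.SpecialLinearGroup.coe_mul, w_val]
    fin_cases i <;> fin_cases j <;> simp [Cfsg.suzukiForm, Matrix.mul_apply, Fin.sum_univ_four, Matrix.vecMul, dotProduct, ← hM] <;> rfl
  obtain ⟨s1, s2⟩ := fix_two_row D _ hw hwI (by rw [hval]; exact b0)
  rw [hval] at s1 s2
  change M 0 2 = 0 at s1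
  change M 0 1 = 0 at s2
  rw [← hM] at r1 r2
  have hdet := g.2
  rw [← hM, Matrix.det_succ_row_zero] at hdet
  simp [Fin.sum_univ_succ, Matrix.det_succ_row_zero, Fin.succAbove, s1, s2, b0, a1, a2, a3, b1, b2, r1, r2] at hdet
  have hA : M 0 0 ≠ 0 := fun e => by rw [e] at hdet; simp at hdet
  have hd : M 3 3 ≠ 0 := fun e => by rw [e] at hdet; simp at hdet
  set p := M 2 2 / M 3 3 with hp
  set q := M 2 1 / M 3 3 with hq
  set r := M 1 2 / M 3 3 with hr
  set s := M 1 1 / M 3 3 with hs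
  set α := M 0 0 / M 3 3 with hα
  have key : ∀ x y, α * ov D.θ x y = ov D.θ (p * x + q * y) (r * x + s * y) := by
    intro x y
    have hm := smul_mem hg ((mem_cases D).2 (Or.inr ⟨x, y, rfl⟩))
    rw [pP, act_mk _ _ (mulVec_ne _ (vP_ne _ _ _)), mk_mem_iff D] at hm
    have e : M *ᵥ vP D.θ x y =
        ![M 0 0 * ov D.θ x y, M 1 1 * y + M 1 2 * x, M 2 1 * y + M 2 2 * x, M 3 3] := by
      funext i
      fin_cases i <;> simp [vP, Matrix.mulVec, dotProduct, Fin.sum_univ_four, s1, s2, b0, a1, a2, a3, b1, b2, r1, r2]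
    rw [← hM, e] at hm
    rcases hm with ⟨-, -, h3⟩ | ⟨-, h⟩
    · exact absurd (by simpa using h3) hd
    · simp only [Matrix.cons_val] at h
      rw [hα, div_mul_eq_mul_div, h, mul_div_cancel_left₀ _ hd, hp, hq, hr, hs]
      congr 1 <;> field_simp <;> ring
  have hαne : α ≠ 0 := div_ne_zero hA hd
  obtain ⟨h1, h2, h3⟩ := coeff_zero D hF (a := p * r) (b := D.θ r) (c := D.θ p * p ^ 2 - α) fun x => by
    have := key x 0
    simp [ov, map_mul] at this
    linear_combination (-1 : F) * this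
  obtain ⟨h4, h5, h6⟩ := coeff_zero D hF (a := q * s) (b := D.θ s - α) (c := D.θ q * q ^ 2) fun y => by
    have := key 0 y
    simp [ov, map_mul] at this
    linear_combination (-1 : F) * this
  have hr0 : r = 0 := D.theta_eq_zero.1 h2
  have hq0 : q = 0 := by
    rcases mul_eq_zero.1 h6 with e | e
    exacts [D.theta_eq_zero.1 e, pow_eq_zero_iff two_ne_zero |>.1 e]
  have h7 := key 1 1
  simp [ov, hr0, hq0] at h7
  have hps : p * s = α := by linear_combination (-1 : F) * h7 - h3 - h5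
  have hp0 : p ≠ 0 := fun e => hαne (by rw [← hps, e, zero_mul])
  have hs' : s = D.θ p * p := mul_left_cancel₀ hp0 (by linear_combination hps - h3)
  obtain ⟨u, hu⟩ : ∃ u : F, u ^ 2 = p := by
    obtain ⟨v, hv⟩ := D.theta_surj p
    obtain ⟨u, hu⟩ := D.theta_surj v
    exact ⟨u, by rw [← D.sq, hu, hv]⟩
  have hu0 : u ≠ 0 := fun e => hp0 (by rw [← hu, e]; ring)
  have hθu : D.θ u ≠ 0 := (map_ne_zero D.θ).2 hu0
  refine ⟨Units.mk0 u hu0, ?_⟩
  have m21 : M 2 1 = 0 := (div_eq_zero_iff.1 hq0).resolve_right hd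
  have m12 : M 1 2 = 0 := (div_eq_zero_iff.1 hr0).resolve_right hd
  have m22 : M 2 2 = u ^ 2 * M 3 3 := by rw [hu, hp]; field_simp
  have m11 : M 1 1 = D.θ u ^ 2 * u ^ 2 * M 3 3 := by
    rw [← map_pow, hu, ← hs', hs]; field_simp
  have m00 : M 0 0 = D.θ u ^ 2 * u ^ 4 * M 3 3 := by
    rw [← map_pow, show u ^ 4 = p ^ 2 by rw [← hu]; ring, hu,
      show D.θ p * p ^ 2 = α from sub_eq_zero.1 h3, hα]
    field_simp
  simp [m21, m12, m22, m11, m00] at hdet
  have hd1 : D.θ u * u ^ 2 * M 3 3 = 1 := by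
    have h8 : ((D.θ u * u ^ 2 * M 3 3) ^ 2) ^ 2 = ((1 : F) ^ 2) ^ 2 := by linear_combination hdet
    exact D.sq_inj (D.sq_inj h8)
  have hd2 : M 3 3 = (D.θ u * u ^ 2)⁻¹ := eq_inv_of_mul_eq_one_right hd1
  apply Subtype.ext
  rw [← hM, H_val]
  ext i j
  fin_cases i <;> fin_cases j <;>
    simp [hVec, s1, s2, b0, a1, a2, a3, b1, b2, r1, r2, m21, m12, m22, m11, m00, hd2] <;> (try field_simp) <;> (try ring)

theorem fix_inf {g : SpecialLinearGroup (Fin 4) F} (hg : g ∈ Cfsg.Sz F m)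
    (hI : g • Cfsg.suzukiPointInfinity F = Cfsg.suzukiPointInfinity F) : ∃ a b u, g = T D.θ a b * H D.θ u := by
  rcases (mem_cases D).1 (smul_mem hg ((mem_cases D).2 (Or.inr ⟨0, 0, rfl⟩))) with e | ⟨a, b, e⟩
  · exact absurd (MulAction.injective g (e.trans hI.symm)) (pP_ne_inf D 0 0)
  obtain ⟨u, hu⟩ := fix_two D hF (mul_mem (inv_mem (T_mem D a b)) hg)
    (by rw [mul_smul, hI, inv_smul_eq_iff, T_inf D])
    (by rw [mul_smul, e, inv_smul_eq_iff, T_pt D]; simp)
  exact ⟨a, b, u, by rw [← hu, mul_inv_cancel_left]⟩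

theorem normal_form {g : SpecialLinearGroup (Fin 4) F} (hg : g ∈ Cfsg.Sz F m) :
    (∃ a b u, g = T D.θ a b * H D.θ u) ∨ ∃ a b c d u, g = T D.θ a b * w F * (T D.θ c d * H D.θ u) := by
  rcases (mem_cases D).1 (smul_mem hg ((mem_cases D).2 (Or.inl rfl))) with e | ⟨a, b, e⟩
  · exact Or.inl (fix_inf D hF hg e)
  · obtain ⟨c, d, u, hu⟩ := fix_inf D hF (mul_mem (inv_mem (mul_mem (T_mem D a b) (w_mem D))) hg)
      (by rw [mul_smul, e, inv_smul_eq_iff, mul_smul, w_inf D, T_pt D]; simp)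
    exact Or.inr ⟨a, b, c, d, u, by rw [← hu, mul_inv_cancel_left]⟩

omit hF

/-- The point at infinity on the ovoid. -/
noncomputable def oI : Cfsg.suzukiOvoid F m := ⟨_, (mem_cases D).2 (Or.inl rfl)⟩

/-- An affine point on the ovoid. -/
noncomputable def oP (x y : F) : Cfsg.suzukiOvoid F m := ⟨pP D.θ x y, (mem_cases D).2 (Or.inr ⟨x, y, rfl⟩)⟩

theorem o_cases (p : Cfsg.suzukiOvoid F m) : p = oI D ∨ ∃ x y, p = oP D x y := by
  rcases (mem_cases D).1 p.2 with e | ⟨x, y, e⟩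
  exacts [Or.inl (Subtype.ext e), Or.inr ⟨x, y, Subtype.ext e⟩]

theorem coe_smul_o (g : Cfsg.Sz F m) (p : Cfsg.suzukiOvoid F m) :
    ((g • p : Cfsg.suzukiOvoid F m) : Projectivization F (Fin 4 → F)) =
      (g : SpecialLinearGroup (Fin 4) F) • (p : Projectivization F (Fin 4 → F)) := rfl

/-- A translation in the group. -/
noncomputable def gT (a b : F) : Cfsg.Sz F m := ⟨_, T_mem D a b⟩

/-- A torus element in the group. -/
noncomputable def gH (u : Fˣ) : Cfsg.Sz F m := ⟨_, H_mem D u⟩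

/-- The inversion in the group. -/
noncomputable def gw : Cfsg.Sz F m := ⟨_, w_mem D⟩

theorem gT_oI (a b : F) : gT D a b • oI D = oI D := Subtype.ext (T_inf D a b)

theorem gH_oI (u : Fˣ) : gH D u • oI D = oI D := Subtype.ext (H_inf D u)

theorem gT_oP (a b x y : F) : gT D a b • oP D x y = oP D (x + a) (y + D.θ a * x + b) := Subtype.ext (T_pt D a b x y)

theorem gH_oP (u : Fˣ) (x y : F) :
    gH D u • oP D x y = oP D ((u : F) ^ 2 * x) (D.θ u ^ 2 * (u : F) ^ 2 * y) := Subtype.ext (H_pt D u x y)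

theorem gw_oI : gw D • oI D = oP D 0 0 := Subtype.ext (w_inf D)

theorem transitive (p : Cfsg.suzukiOvoid F m) : ∃ g : Cfsg.Sz F m, g • oI D = p := by
  rcases o_cases D p with rfl | ⟨x, y, rfl⟩
  · exact ⟨1, one_smul _ _⟩
  · refine ⟨gT D x y * gw D, ?_⟩
    rw [mul_smul, gw_oI, gT_oP]; simp

theorem two_transitive : MulAction.IsMultiplyPretransitive (Cfsg.Sz F m) (Cfsg.suzukiOvoid F m) 2 := by
  rw [MulAction.is_two_pretransitive_iff]
  have key : ∀ a b : Cfsg.suzukiOvoid F m, a ≠ b → ∃ g : Cfsg.Sz F m, g • a = oI D ∧ g • b = oP D 0 0 := by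
    intro a b hab
    obtain ⟨g, hg⟩ := transitive D a
    rcases o_cases D (g⁻¹ • b) with e | ⟨x, y, e⟩
    · exfalso
      apply hab
      rw [← hg, ← e, smul_inv_smul]
    · refine ⟨(gT D x y)⁻¹ * g⁻¹, ?_, ?_⟩
      · rw [mul_smul, ← hg, inv_smul_smul, inv_smul_eq_iff, gT_oI]
      · rw [mul_smul, e, inv_smul_eq_iff, gT_oP]; simp
  intro a b c d hab hcd
  obtain ⟨g, g1, g2⟩ := key a b hab
  obtain ⟨k, k1, k2⟩ := key c d hcd
  exact ⟨k⁻¹ * g, by rw [mul_smul, g1, ← k1, inv_smul_smul], by rw [mul_smul, g2, ← k2, inv_smul_smul]⟩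

include hF

theorem scale_eq_one {k : F} (h0 : k ≠ 0) (h : D.θ k * k = 1) : k = 1 := by
  have h1 : D.θ k = k⁻¹ := eq_inv_of_mul_eq_one_left h
  have h2 := D.sq k
  rw [h1, map_inv₀, h1, inv_inv] at h2
  exact ((mul_eq_left₀ h0).1 (by rw [← sq]; exact h2.symm))

theorem H_fix {u : Fˣ} {x y : F} (h : gH D u • oP D x y = oP D x y) (hne : x ≠ 0 ∨ y ≠ 0) : u = 1 := by
  rw [gH_oP] at h
  obtain ⟨hx, hy⟩ := pP_inj D (congrArg Subtype.val h)
  refine Units.ext (D.sq_inj ?_)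
  rw [Units.val_one, one_pow]
  rcases hne with hx0 | hy0
  · exact (mul_eq_right₀ hx0).1 hx
  · refine scale_eq_one D hF (pow_ne_zero 2 u.ne_zero) ?_
    rw [map_pow]
    exact (mul_eq_right₀ hy0).1 hy

theorem three_fixed (g : Cfsg.Sz F m) (a b c : Cfsg.suzukiOvoid F m) (hab : a ≠ b) (hbc : b ≠ c) (hac : a ≠ c)
    (ha : g • a = a) (hb : g • b = b) (hc : g • c = c) : g = 1 := by
  haveI := two_transitive D
  obtain ⟨k, k1, k2⟩ := MulAction.is_two_pretransitive_iff.1 this hab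
    (show oI D ≠ oP D 0 0 from fun e => pP_ne_inf D 0 0 (congrArg Subtype.val e).symm)
  set g' := k * g * k⁻¹ with hg'
  have h1 : g' • oI D = oI D := by rw [hg', ← k1, mul_smul, inv_smul_smul, mul_smul, ha]
  have h2 : g' • oP D 0 0 = oP D 0 0 := by rw [hg', ← k2, mul_smul, inv_smul_smul, mul_smul, hb]
  obtain ⟨u, hu⟩ := fix_two D hF g'.2 (congrArg Subtype.val h1) (congrArg Subtype.val h2)
  have hu' : g' = gH D u := Subtype.ext hu
  rcases o_cases D (k • c) with e | ⟨x, y, e⟩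
  · exact absurd (MulAction.injective k (e.trans k1.symm)).symm hac
  · have h3 : g' • (k • c) = k • c := by rw [hg', mul_smul, inv_smul_smul, mul_smul, hc]
    rw [e, hu'] at h3
    have hne : x ≠ 0 ∨ y ≠ 0 := by
      by_contra hh
      push_neg at hh
      obtain ⟨rfl, rfl⟩ := hh
      exact hbc (MulAction.injective k (e.trans k2.symm)).symm
    have hone : g' = 1 := by rw [hu', H_fix D hF h3 hne]; exact Subtype.ext (H_one D.θ)
    rw [hg', mul_inv_eq_one] at hone
    exact mul_eq_left.1 hone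

theorem card_stab : Nat.card (MulAction.stabilizer (Cfsg.Sz F m) (oI D)) =
    Fintype.card F ^ 2 * (Fintype.card F - 1) := by
  classical
  rw [← Fintype.card_units, ← Nat.card_eq_fintype_card, ← Nat.card_eq_fintype_card, sq, ← Nat.card_prod,
    ← Nat.card_prod]
  symm
  refine Nat.card_eq_of_bijective (fun p => ⟨gT D p.1.1 p.1.2 * gH D p.2, MulAction.mem_stabilizer_iff.2
    (by rw [mul_smul, gH_oI, gT_oI])⟩) ⟨fun p q e => ?_, fun g => ?_⟩
  · have e1 : gT D p.1.1 p.1.2 * gH D p.2 = gT D q.1.1 q.1.2 * gH D q.2 := congrArg Subtype.val e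
    have e2 := congrArg (· • oP D 0 0) e1
    simp only [mul_smul, gH_oP, gT_oP, mul_zero, zero_add] at e2
    obtain ⟨ea, eb⟩ := pP_inj D (congrArg Subtype.val e2)
    rw [ea, eb] at e1
    have e3 := congrArg (fun k : Cfsg.Sz F m => (k : SpecialLinearGroup (Fin 4) F)) (mul_left_cancel e1)
    have e4 := congrArg (fun k : SpecialLinearGroup (Fin 4) F => k.1 1 1) e3
    simp [gH, H_val, hVec] at e4
    exact Prod.ext (Prod.ext ea eb) (Units.ext (D.θ.injective e4))
  · obtain ⟨a, b, u, e⟩ := fix_inf D hF g.1.2 (congrArg Subtype.val (MulAction.mem_stabilizer_iff.1 g.2))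
    exact ⟨((a, b), u), Subtype.ext (Subtype.ext e.symm)⟩

theorem card_sz : Nat.card (Cfsg.Sz F m) =
    Fintype.card F ^ 2 * (Fintype.card F ^ 2 + 1) * (Fintype.card F - 1) := by
  haveI : MulAction.IsPretransitive (Cfsg.Sz F m) (Cfsg.suzukiOvoid F m) := ⟨fun a b => by
    obtain ⟨g, hg⟩ := transitive D a
    obtain ⟨k, hk⟩ := transitive D b
    exact ⟨k * g⁻¹, by rw [mul_smul, ← hg, inv_smul_smul, hk]⟩⟩
  rw [← Subgroup.card_mul_index (MulAction.stabilizer (Cfsg.Sz F m) (oI D)), card_stab D hF,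
    MulAction.index_stabilizer_of_transitive, S0326.result]
  ring

end Cfsg.Agent.Suzuki
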