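/-
Perfectness, simplicity and the Zassenhaus property of the Suzuki groups.
-/
import Cfsg.Agent.Lib.Suzuki.Group

set_option autoImplicit false

namespace Cfsg.Agent.Suzuki

open scoped Matrix Pointwise commutatorElement
open Matrix (SpecialLinearGroup)

variable {F : Type*} [Field F] [Fintype F] {m : ℕ} (D : Dat F m)

theorem T_H_11 (θ : F →+* F) (a b : F) (u : Fˣ) : (T θ a b * H θ u).1 1 1 = θ u := by
  rw [Matrix.SpecialLinearGroup.coe_mul, T_val, H_val]
  simp [tMat, hVec, Matrix.mul_diagonal]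

include D

theorem gT_mul (a b c d : F) : gT D a b * gT D c d = gT D (a + c) (b + d + D.θ a * c) := Subtype.ext (T_mul D a b c d)

theorem gT_zero : gT D 0 0 = 1 := Subtype.ext (T_zero D.θ)

theorem gH_mul (u v : Fˣ) : gH D u * gH D v = gH D (u * v) := Subtype.ext (H_mul D.θ u v)

theorem gH_one : gH D 1 = 1 := Subtype.ext (H_one D.θ)

theorem gH_inv (u : Fˣ) : (gH D u)⁻¹ = gH D u⁻¹ := inv_eq_of_mul_eq_one_right (by rw [gH_mul, mul_inv_cancel, gH_one])

theorem gT_inv (a b : F) : (gT D a b)⁻¹ = gT D a (b + D.θ a * a) := Subtype.ext (T_inv D a b)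

theorem gH_gT (u : Fˣ) (a b : F) :
    gH D u * gT D a b * (gH D u)⁻¹ = gT D ((u : F) ^ 2 * a) (D.θ u ^ 2 * (u : F) ^ 2 * b) := by
  rw [mul_inv_eq_iff_eq_mul]
  exact Subtype.ext (H_T D.θ D.sq u a b)

theorem gw_sq : gw D * gw D = 1 := Subtype.ext w_mul_w

theorem gw_gH (u : Fˣ) : gw D * gH D u * gw D = gH D u⁻¹ := Subtype.ext (w_H_w D.θ u)

theorem gT_center_inj {b b' : F} (h : gT D 0 b = gT D 0 b') : b = b' := by
  have := congrArg (fun g : Cfsg.Sz F m => g.1.1 1 3) h
  simpa [gT, T_val, tMat] using this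

theorem gT_inj {a b a' b' : F} (h : gT D a b = gT D a' b') : a = a' ∧ b = b' := by
  have h1 := congrArg (fun g : Cfsg.Sz F m => g.1.1 0 1) h
  have h2 := congrArg (fun g : Cfsg.Sz F m => g.1.1 1 3) h
  exact ⟨by simpa [gT, T_val, tMat] using h1, by simpa [gT, T_val, tMat] using h2⟩

variable (hF : Fintype.card F = 2 ^ (2 * m + 1))
include hF

theorem exists_u : ∃ u : Fˣ, u ≠ 1 := by
  classical
  have hc : 1 < Fintype.card Fˣ := by
    have := D.card_big hF
    have := Nat.one_le_two_pow (n := m + 1)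
    rw [Fintype.card_units]; omega
  exact Fintype.exists_ne_of_one_lt_card hc 1

theorem gnormal_form (g : Cfsg.Sz F m) :
    (∃ a b u, g = gT D a b * gH D u) ∨ ∃ a b c d u, g = gT D a b * gw D * (gT D c d * gH D u) := by
  rcases normal_form D hF g.2 with ⟨a, b, u, e⟩ | ⟨a, b, c, d, u, e⟩
  exacts [Or.inl ⟨a, b, u, Subtype.ext e⟩, Or.inr ⟨a, b, c, d, u, Subtype.ext e⟩]

theorem gfix_inf {g : Cfsg.Sz F m} (h : g • oI D = oI D) : ∃ a b u, g = gT D a b * gH D u := by
  obtain ⟨a, b, u, e⟩ := fix_inf D hF g.2 (congrArg Subtype.val h)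
  exact ⟨a, b, u, Subtype.ext e⟩

theorem perfect : commutator (Cfsg.Sz F m) = ⊤ := by
  haveI := D.char2
  set G' := commutator (Cfsg.Sz F m)
  have hc : ∀ x y : Cfsg.Sz F m, x * y * x⁻¹ * y⁻¹ ∈ G' := fun x y =>
    Subgroup.commutator_mem_commutator (Subgroup.mem_top x) (Subgroup.mem_top y)
  have hH : ∀ v, gH D v ∈ G' := by
    intro v
    obtain ⟨u, hu⟩ : ∃ u : Fˣ, u * u = v := by
      obtain ⟨a, ha⟩ := D.theta_surj (v : F)
      obtain ⟨b, hb⟩ := D.theta_surj a
      have e : b ^ 2 = v := by rw [← D.sq, hb, ha]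
      refine ⟨Units.mk0 b (fun h => v.ne_zero (by rw [← e, h]; ring)), Units.ext ?_⟩
      simp [← sq, e]
    have h := hc (gH D u) (gw D)
    rw [gH_inv] at h
    convert h using 1
    rw [show (gw D)⁻¹ = gw D from inv_eq_of_mul_eq_one_right (gw_sq D),
      show gH D u * gw D * gH D u⁻¹ * gw D = gH D u * (gw D * gH D u⁻¹ * gw D) by group, gw_gH, inv_inv, gH_mul, hu]
  obtain ⟨u, hu⟩ := exists_u D hF
  have hk : D.θ u ^ 2 * (u : F) ^ 2 + 1 ≠ 0 := by
    intro h
    have h1 := D.eq_of_add h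
    rw [← map_pow] at h1
    exact hu (Units.ext (D.sq_inj (by rw [Units.val_one, one_pow, scale_eq_one D hF (pow_ne_zero 2 u.ne_zero) h1])))
  have h2 : (u : F) ^ 2 + 1 ≠ 0 := fun h =>
    hu (Units.ext (D.sq_inj (by rw [Units.val_one, one_pow, D.eq_of_add h])))
  have hT0 : ∀ b, gT D 0 b ∈ G' := by
    intro b
    have h := hc (gH D u) (gT D 0 (b / (D.θ u ^ 2 * (u : F) ^ 2 + 1)))
    rw [gH_gT, gT_inv, gT_mul] at h
    convert h using 2
    · simp
    · simp; field_simp
  have hT : ∀ a b, gT D a b ∈ G' := by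
    intro a b
    have h := hc (gH D u) (gT D (a / ((u : F) ^ 2 + 1)) 0)
    rw [gH_gT, gT_inv, gT_mul] at h
    set e := D.θ u ^ 2 * (u : F) ^ 2 * 0 + (0 + D.θ (a / ((u : F) ^ 2 + 1)) * (a / ((u : F) ^ 2 + 1))) +
      D.θ ((u : F) ^ 2 * (a / ((u : F) ^ 2 + 1))) * (a / ((u : F) ^ 2 + 1))
    have h' := mul_mem h (hT0 (b + e))
    rw [gT_mul] at h'
    convert h' using 2
    · field_simp; ring
    · linear_combination (-(e : F)) * D.two
  have hw : gw D ∈ G' := by
    have hfix : gw D • oP D 1 1 = oP D 1 1 := by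
      refine Subtype.ext ?_
      show w F • pP D.θ 1 1 = pP D.θ 1 1
      rw [pP, act_mk _ _ (mulVec_ne _ (vP_ne _ _ _))]
      refine (Projectivization.mk_eq_mk_iff' F _ _ _ _).2 ⟨1, ?_⟩
      funext i
      fin_cases i <;> simp [w_mulVec, vP, ov] <;> linear_combination (1 : F) * D.two
    obtain ⟨g, hg⟩ := transitive D (oP D 1 1)
    obtain ⟨a, b, v, e⟩ := gfix_inf D hF (g := g⁻¹ * gw D * g) (by rw [mul_smul, hg, mul_smul, hfix, ← hg, inv_smul_smul])
    have h1 : g⁻¹ * gw D * g ∈ G' := e ▸ mul_mem (hT a b) (hH v)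
    have h2 := (inferInstance : G'.Normal).conj_mem _ h1 g
    convert h2 using 1
    group
  rw [eq_top_iff]
  intro g _
  rcases gnormal_form D hF g with ⟨a, b, v, rfl⟩ | ⟨a, b, c, d, v, rfl⟩
  · exact mul_mem (hT a b) (hH v)
  · exact mul_mem (mul_mem (hT a b) hw) (mul_mem (hT c d) (hH v))

theorem stab_solvable : Group.IsSolvable (MulAction.stabilizer (Cfsg.Sz F m) (oI D)) := by
  set S := MulAction.stabilizer (Cfsg.Sz F m) (oI D)
  have hmem : ∀ a b u, gT D a b * gH D u ∈ S := fun a b u =>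
    MulAction.mem_stabilizer_iff.2 (by rw [mul_smul, gH_oI, gT_oI])
  have hform : ∀ g : S, ∃ a b u, (g : Cfsg.Sz F m) = gT D a b * gH D u := fun g =>
    gfix_inf D hF (MulAction.mem_stabilizer_iff.1 g.2)
  let χ : S →* F := 
    { toFun := fun g => g.1.1.1 1 1
      map_one' := by simp
      map_mul' := fun g k => by
        obtain ⟨a, b, u, e⟩ := hform g
        obtain ⟨c, d, v, e'⟩ := hform k
        have e'' : ((g * k : S) : Cfsg.Sz F m) =
            gT D a b * (gH D u * gT D c d * (gH D u)⁻¹) * (gH D u * gH D v) := by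
          rw [Subgroup.coe_mul, e, e']; group
        rw [gH_gT, gT_mul, gH_mul] at e''
        rw [e'', e, e']
        show (T D.θ _ _ * H D.θ _).1 1 1 = (T D.θ _ _ * H D.θ _).1 1 1 * (T D.θ _ _ * H D.θ _).1 1 1
        simp [T_H_11] }
  let χ' : S →* Fˣ := χ.toHomUnits
  have hker : ∀ g : S, g ∈ χ'.ker → ∃ a b, (g : Cfsg.Sz F m) = gT D a b := by
    intro g hg
    obtain ⟨a, b, u, e⟩ := hform g
    have h1 : g.1.1.1 1 1 = 1 := congrArg Units.val hg
    rw [e] at h1
    change (T D.θ a b * H D.θ u).1 1 1 = 1 at h1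
    rw [T_H_11] at h1
    have hu : u = 1 := Units.ext (D.θ.injective (h1.trans (map_one D.θ).symm))
    exact ⟨a, b, by rw [e, hu, gH_one, mul_one]⟩
  haveI : Group.IsSolvable χ'.ker := by
    let ψ : χ'.ker →* Multiplicative F :=
      { toFun := fun g => Multiplicative.ofAdd (g.1.1.1.1 0 1)
        map_one' := by simp
        map_mul' := fun g k => by
          obtain ⟨a, b, e⟩ := hker g g.2
          obtain ⟨c, d, e'⟩ := hker k k.2
          have e'' : (((g * k : χ'.ker) : S) : Cfsg.Sz F m) = gT D (a + c) (b + d + D.θ a * c) := by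
            rw [Subgroup.coe_mul, Subgroup.coe_mul, e, e', gT_mul]
          show Multiplicative.ofAdd _ = Multiplicative.ofAdd _ * Multiplicative.ofAdd _
          rw [e, e', e'', ← ofAdd_add]
          simp [gT, T_val, tMat] }
    haveI : Group.IsSolvable ψ.ker := Group.isSolvable_of_comm fun g k => by
      obtain ⟨a, b, e⟩ := hker g.1 g.1.2
      obtain ⟨c, d, e'⟩ := hker k.1 k.1.2
      have ha : a = 0 := by
        have := g.2
        simp only [MonoidHom.mem_ker] at this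
        have h1 : g.1.1.1.1.1 0 1 = (0 : F) := ofAdd_eq_one.1 this
        rw [e] at h1
        simpa [gT, T_val, tMat] using h1
      have hc : c = 0 := by
        have := k.2
        simp only [MonoidHom.mem_ker] at this
        have h1 : k.1.1.1.1.1 0 1 = (0 : F) := ofAdd_eq_one.1 this
        rw [e'] at h1
        simpa [gT, T_val, tMat] using h1
      refine Subtype.ext (Subtype.ext (Subtype.ext ?_))
      push_cast
      rw [e, e', ha, hc, gT_mul, gT_mul]
      simp [add_comm]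
    exact Group.isSolvable_of_ker_le_range ψ.ker.subtype ψ (by simp [Subgroup.range_subtype])
  exact Group.isSolvable_of_ker_le_range χ'.ker.subtype χ' (by simp [Subgroup.range_subtype])

theorem ne_bot : ∃ g : Cfsg.Sz F m, g ≠ 1 ∧ g • oI D = oI D ∧ g • oP D 0 0 = oP D 0 0 := by
  obtain ⟨u, hu⟩ := exists_u D hF
  refine ⟨gH D u, fun h => hu ?_, gH_oI D u, by rw [gH_oP]; simp⟩
  have := congrArg (fun g : Cfsg.Sz F m => g.1.1 1 1) h
  simp [gH, H_val, hVec] at this
  exact Units.ext (D.θ.injective (this.trans (map_one D.θ).symm))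

theorem simple : IsSimpleGroup (Cfsg.Sz F m) := by
  haveI : Nontrivial (Cfsg.Sz F m) := by
    obtain ⟨g, hg, -⟩ := ne_bot D hF
    exact ⟨⟨g, 1, hg⟩⟩
  refine ⟨fun N hN => ?_⟩
  by_cases hb : N = ⊥
  · exact Or.inl hb
  refine Or.inr ?_
  haveI := two_transitive D
  haveI : MulAction.IsPreprimitive (Cfsg.Sz F m) (Cfsg.suzukiOvoid F m) :=
    MulAction.isPreprimitive_of_is_two_pretransitive this
  haveI : MulAction.IsPretransitive N (Cfsg.suzukiOvoid F m) := by
    refine MulAction.IsQuasiPreprimitive.isPretransitive_of_normal (G := Cfsg.Sz F m) ?_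
    intro h
    apply hb
    rw [Subgroup.eq_bot_iff_forall]
    intro n hn
    have hfix : ∀ p : Cfsg.suzukiOvoid F m, n • p = p := fun p => by
      have := Set.eq_univ_iff_forall.1 h p
      exact this ⟨n, hn⟩
    have hne : oP D 1 0 ≠ oP D 0 0 := fun e => one_ne_zero (pP_inj D (congrArg Subtype.val e)).1
    exact three_fixed D hF n (oI D) (oP D 0 0) (oP D 1 0) (fun e => pP_ne_inf D 0 0 (congrArg Subtype.val e).symm)
      hne.symm (fun e => pP_ne_inf D 1 0 (congrArg Subtype.val e).symm) (hfix _) (hfix _) (hfix _)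
  let π := (QuotientGroup.mk' N).comp (MulAction.stabilizer (Cfsg.Sz F m) (oI D)).subtype
  have hsurj : Function.Surjective π := by
    intro q
    obtain ⟨g, rfl⟩ := QuotientGroup.mk'_surjective N q
    obtain ⟨n, hn⟩ := MulAction.exists_smul_eq N (oI D) (g • oI D)
    refine ⟨⟨(n : Cfsg.Sz F m)⁻¹ * g, MulAction.mem_stabilizer_iff.2 (by rw [mul_smul, ← hn]; exact inv_smul_smul _ _)⟩, ?_⟩
    show QuotientGroup.mk' N ((n : Cfsg.Sz F m)⁻¹ * g) = _
    rw [map_mul, map_inv, (QuotientGroup.eq_one_iff (n : Cfsg.Sz F m)).2 n.2 |> (show QuotientGroup.mk' N (n : Cfsg.Sz F m) = 1 from ·), inv_one, one_mul]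
  haveI := stab_solvable D hF
  haveI : Group.IsSolvable (Cfsg.Sz F m ⧸ N) := Group.isSolvable_of_surjective hsurj
  by_contra hns
  haveI : Nontrivial (Cfsg.Sz F m ⧸ N) := QuotientGroup.nontrivial_iff.2 hns
  have hlt := Group.IsSolvable.commutator_lt_top_of_nontrivial (Cfsg.Sz F m ⧸ N)
  have : commutator (Cfsg.Sz F m ⧸ N) = ⊤ := by
    rw [commutator_def, ← Subgroup.map_top_of_surjective _ (QuotientGroup.mk'_surjective N), ← Subgroup.map_commutator,
      ← commutator_def, perfect D hF]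
  exact hlt.ne this

theorem zassenhaus : Cfsg.IsZassenhausGroup (Cfsg.Sz F m) (Cfsg.suzukiOvoid F m) := by
  have h01 : oI D ≠ oP D 0 0 := fun e => pP_ne_inf D 0 0 (congrArg Subtype.val e).symm
  have h02 : oI D ≠ oP D 1 0 := fun e => pP_ne_inf D 1 0 (congrArg Subtype.val e).symm
  have h12 : oP D 0 0 ≠ oP D 1 0 := fun e => one_ne_zero (pP_inj D (congrArg Subtype.val e)).1.symm
  refine ⟨⟨fun {g k} h => ?_⟩, two_transitive D, three_fixed D hF, ?_, fun N hN htr => ?_⟩
  · have h1 : ∀ p : Cfsg.suzukiOvoid F m, (k⁻¹ * g) • p = p := fun p => by rw [mul_smul, h p, inv_smul_smul]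
    exact (inv_mul_eq_one.1 (three_fixed D hF _ _ _ _ h01 h12 h02 (h1 _) (h1 _) (h1 _))).symm
  · obtain ⟨g, hg, h1, h2⟩ := ne_bot D hF
    exact ⟨g, hg, _, _, h01, h1, h2⟩
  · rcases (simple D hF).eq_bot_or_eq_top_of_normal N hN with rfl | rfl
    · exfalso
      obtain ⟨⟨n, hn⟩, e⟩ := MulAction.exists_smul_eq (⊥ : Subgroup (Cfsg.Sz F m)) (oI D) (oP D 0 0)
      rw [Subgroup.mem_bot] at hn
      subst hn
      exact h01 ((one_smul _ _).symm.trans e)
    · refine ⟨oI D, fun h => ?_⟩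
      obtain ⟨g, hg, h1, -⟩ := ne_bot D hF
      have : (⟨g, Subgroup.mem_top g⟩ : (⊤ : Subgroup (Cfsg.Sz F m))) ∈
          MulAction.stabilizer (⊤ : Subgroup (Cfsg.Sz F m)) (oI D) := MulAction.mem_stabilizer_iff.2 h1
      rw [h, Subgroup.mem_bot] at this
      exact hg (congrArg Subtype.val this)

end Cfsg.Agent.Suzuki
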