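/-
The Sylow 2-subgroups of the Suzuki groups.
-/
import Cfsg.Agent.Lib.Suzuki.Simple

set_option autoImplicit false

namespace Cfsg.Agent.Suzuki

open scoped Matrix Pointwise commutatorElement
open Matrix (SpecialLinearGroup)

variable {F : Type*} [Field F] [Fintype F] {m : ℕ} (D : Dat F m)

/-- The group of translations. -/
noncomputable def Q : Subgroup (Cfsg.Sz F m) where
  carrier := {g | ∃ a b, g = gT D a b}
  one_mem' := ⟨0, 0, (gT_zero D).symm⟩
  mul_mem' := by rintro _ _ ⟨a, b, rfl⟩ ⟨c, d, rfl⟩; exact ⟨_, _, gT_mul D a b c d⟩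
  inv_mem' := by rintro _ ⟨a, b, rfl⟩; exact ⟨_, _, gT_inv D a b⟩

/-- A translation as an element of `Q`. -/
noncomputable def qT (a b : F) : Q D := ⟨gT D a b, a, b, rfl⟩

theorem qT_surj (x : Q D) : ∃ a b, x = qT D a b := by
  obtain ⟨a, b, e⟩ := x.2
  exact ⟨a, b, Subtype.ext e⟩

include D

theorem mem_Q {g : Cfsg.Sz F m} : g ∈ Q D ↔ ∃ a b, g = gT D a b := Iff.rfl

theorem qT_mul (a b c d : F) : qT D a b * qT D c d = qT D (a + c) (b + d + D.θ a * c) :=
  Subtype.ext (gT_mul D a b c d)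

theorem qT_zero : qT D 0 0 = 1 := Subtype.ext (gT_zero D)

theorem qT_inv (a b : F) : (qT D a b)⁻¹ = qT D a (b + D.θ a * a) := Subtype.ext (gT_inv D a b)

theorem qT_inj {a b a' b' : F} (h : qT D a b = qT D a' b') : a = a' ∧ b = b' :=
  gT_inj D (congrArg Subtype.val h)

theorem qT_commutator (a b c d : F) : ⁅qT D a b, qT D c d⁆ = qT D 0 (D.θ a * c + D.θ c * a) := by
  rw [commutatorElement_def, qT_inv, qT_inv, qT_mul, qT_mul, qT_mul]
  congr 1
  · linear_combination (a + c) * D.two
  · simp only [map_add]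
    grind [D.two]

theorem card_Q : Nat.card (Q D) = Fintype.card F ^ 2 := by
  rw [← Nat.card_eq_fintype_card, sq, ← Nat.card_prod]
  symm
  refine Nat.card_eq_of_bijective (fun p => qT D p.1 p.2) ⟨fun p q e => ?_, fun x => ?_⟩
  · exact Prod.ext (qT_inj D e).1 (qT_inj D e).2
  · obtain ⟨a, b, rfl⟩ := qT_surj D x
    exact ⟨(a, b), rfl⟩

variable (hF : Fintype.card F = 2 ^ (2 * m + 1))
include hF

theorem exists_nonfixed : ∃ k : F, D.θ k + k ≠ 0 := by
  obtain ⟨u, hu⟩ := exists_u D hF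
  refine ⟨u, fun h => ?_⟩
  rcases D.theta_fixed (D.eq_of_add h) with e | e
  · exact u.ne_zero e
  · exact hu (Units.ext e)

theorem mem_center_Q {x : Q D} : x ∈ Subgroup.center (Q D) ↔ ∃ b, x = qT D 0 b := by
  constructor
  · intro hx
    obtain ⟨a, b, rfl⟩ := qT_surj D x
    refine ⟨b, ?_⟩
    have h : ∀ c, D.θ a * c = D.θ c * a := fun c => by
      have := qT_commutator D a b c 0
      rw [commutatorElement_eq_one_iff_mul_comm.2 (Subgroup.mem_center_iff.1 hx (qT D c 0)).symm, ← qT_zero D] at this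
      exact D.eq_of_add (qT_inj D this).2.symm
    have h1 := h 1
    rw [mul_one, map_one, one_mul] at h1
    rcases D.theta_fixed h1 with rfl | rfl
    · rfl
    · obtain ⟨k, hk⟩ := exists_nonfixed D hF
      have h2 := h k
      rw [map_one, one_mul, mul_one] at h2
      exact absurd (by rw [← h2]; exact D.add_self k) hk
  · rintro ⟨b, rfl⟩
    rw [Subgroup.mem_center_iff]
    intro y
    obtain ⟨c, d, rfl⟩ := qT_surj D y
    rw [qT_mul, qT_mul]
    congr 1
    · ring
    · simp
      ring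

theorem commutator_Q : commutator (Q D) = Subgroup.center (Q D) := by
  refine le_antisymm ?_ fun x hx => ?_
  · rw [commutator_def, Subgroup.commutator_le]
    intro x _ y _
    obtain ⟨a, b, rfl⟩ := qT_surj D x
    obtain ⟨c, d, rfl⟩ := qT_surj D y
    exact (mem_center_Q D hF).2 ⟨_, qT_commutator D a b c d⟩
  · obtain ⟨b, rfl⟩ := (mem_center_Q D hF).1 hx
    obtain ⟨k, hk⟩ := exists_nonfixed D hF
    have hsurj : Function.Surjective (fun c : F => D.θ c * c) := by
      refine Finite.injective_iff_surjective.1 fun c d h => ?_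
      change D.θ c * c = D.θ d * d at h
      by_cases hd : d = 0
      · subst hd
        simpa [D.theta_eq_zero] using h
      · refine (div_eq_one_iff_eq hd).1 (scale_eq_one D hF ?_ ?_)
        · refine div_ne_zero (fun hc => hd ?_) hd
          subst hc
          simpa [D.theta_eq_zero, eq_comm] using h
        · rw [map_div₀, div_mul_div_comm, h, div_self (mul_ne_zero ((map_ne_zero D.θ).2 hd) hd)]
    obtain ⟨c, hc⟩ := hsurj (b / (D.θ k + k))
    change D.θ c * c = b / (D.θ k + k) at hc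
    have h := Subgroup.commutator_mem_commutator (Subgroup.mem_top (qT D (k * c) 0)) (Subgroup.mem_top (qT D c 0))
    rw [qT_commutator] at h
    rw [commutator_def]
    convert h using 2
    rw [eq_div_iff hk] at hc
    rw [map_mul]
    linear_combination (-1 : F) * hc

theorem card_center_Q : Nat.card (Subgroup.center (Q D)) = Fintype.card F := by
  rw [← Nat.card_eq_fintype_card]
  symm
  refine Nat.card_eq_of_bijective (fun b => ⟨qT D 0 b, (mem_center_Q D hF).2 ⟨b, rfl⟩⟩) ⟨fun b c e => ?_, fun x => ?_⟩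
  · exact (qT_inj D (congrArg Subtype.val e)).2
  · obtain ⟨b, hb⟩ := (mem_center_Q D hF).1 x.2
    exact ⟨b, Subtype.ext hb.symm⟩

omit hF in
theorem qT_sq (a b : F) : qT D a b * qT D a b = qT D 0 (D.θ a * a) := by
  rw [qT_mul]; congr 1
  · exact D.add_self a
  · linear_combination b * D.two

omit hF in
theorem exponent_Q : Monoid.exponent (Q D) = 4 := by
  have hdvd : Monoid.exponent (Q D) ∣ 2 ^ 2 := Monoid.exponent_dvd_of_forall_pow_eq_one fun x => by
    obtain ⟨a, b, rfl⟩ := qT_surj D x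
    rw [show (2 : ℕ) ^ 2 = 2 * 2 by norm_num, pow_mul, pow_two (qT D a b), qT_sq, pow_two, qT_sq, ← qT_zero D]
    simp
  obtain ⟨j, hj, e⟩ := (Nat.dvd_prime_pow Nat.prime_two).1 hdvd
  rcases Nat.lt_or_ge j 2 with hj2 | hj2
  · exfalso
    have h := Monoid.pow_exponent_eq_one (qT D 1 0)
    rw [e] at h
    interval_cases j
    · rw [pow_zero, pow_one, ← qT_zero D] at h
      exact one_ne_zero (qT_inj D h).1
    · rw [pow_one, pow_two, qT_sq, ← qT_zero D] at h
      simpa using (qT_inj D h).2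
  · rw [e, show j = 2 by omega]; norm_num

omit hF in
theorem isPGroup_Q (hF : Fintype.card F = 2 ^ (2 * m + 1)) : IsPGroup 2 (Q D) :=
  IsPGroup.of_card (n := (2 * m + 1) * 2) (by rw [card_Q D, hF, pow_mul])

theorem index_Q : (Q D).index = (Fintype.card F ^ 2 + 1) * (Fintype.card F - 1) := by
  have h := Subgroup.card_mul_index (Q D)
  rw [card_Q D, card_sz D hF, mul_assoc] at h
  exact Nat.eq_of_mul_eq_mul_left (by rw [hF]; positivity) h

theorem not_dvd_index_Q : ¬ 2 ∣ (Q D).index := by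
  rw [index_Q D hF, hF]
  intro h
  rcases Nat.prime_two.dvd_mul.1 h with h | h
  · have h2 : 2 ∣ (2 ^ (2 * m + 1)) ^ 2 := dvd_pow (dvd_pow_self 2 (by omega)) two_ne_zero
    omega
  · have h2 : 2 ∣ 2 ^ (2 * m + 1) := dvd_pow_self 2 (by omega)
    have := Nat.one_le_two_pow (n := 2 * m + 1)
    omega

/-- `Q` as a Sylow subgroup. -/
noncomputable def QS : Sylow 2 (Cfsg.Sz F m) := (isPGroup_Q D hF).toSylow (not_dvd_index_Q D hF)

theorem sylow_equiv (P : Sylow 2 (Cfsg.Sz F m)) : Nonempty (Q D ≃* P) :=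
  ⟨((MulEquiv.subgroupCongr (show Q D = ((QS D hF : Sylow 2 (Cfsg.Sz F m)) : Subgroup (Cfsg.Sz F m)) from rfl))).trans
    (Sylow.equiv (QS D hF) P)⟩

end Cfsg.Agent.Suzuki
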