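/-
Fixed points of elements of the Suzuki groups on the ovoid.
-/
import Cfsg.Agent.Lib.Suzuki.Sylow

set_option autoImplicit false

namespace Cfsg.Agent.Suzuki

open scoped Matrix Pointwise

variable {F : Type*} [Field F] [Fintype F] {m : ℕ}

/-- `g` has no fixed point on the ovoid. -/
def Fpf (g : Cfsg.Sz F m) : Prop := ∀ p : Cfsg.suzukiOvoid F m, g • p ≠ p

/-- `g` has exactly one fixed point on the ovoid. -/
def OneFix (g : Cfsg.Sz F m) : Prop := ∃ a : Cfsg.suzukiOvoid F m, g • a = a ∧ ∀ p, g • p = p → p = a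

/-- `g` has at least two fixed points on the ovoid. -/
def TwoFix (g : Cfsg.Sz F m) : Prop := ∃ a b : Cfsg.suzukiOvoid F m, a ≠ b ∧ g • a = a ∧ g • b = b

theorem fix_trichotomy (g : Cfsg.Sz F m) : Fpf g ∨ OneFix g ∨ TwoFix g := by
  by_cases h : ∃ a : Cfsg.suzukiOvoid F m, g • a = a
  · obtain ⟨a, ha⟩ := h
    by_cases h2 : ∃ p, g • p = p ∧ p ≠ a
    · obtain ⟨p, hp, hpa⟩ := h2
      exact Or.inr (Or.inr ⟨p, a, hpa, hp, ha⟩)
    · push_neg at h2
      exact Or.inr (Or.inl ⟨a, ha, h2⟩)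
  · push_neg at h
    exact Or.inl h

theorem smul_fix_of_commute {g c : Cfsg.Sz F m} (h : Commute c g) {p : Cfsg.suzukiOvoid F m} (hp : g • p = p) :
    g • c • p = c • p := by
  rw [← mul_smul, ← h.eq, mul_smul, hp]

theorem conj_fix (k g : Cfsg.Sz F m) {p : Cfsg.suzukiOvoid F m} :
    (k * g * k⁻¹) • k • p = k • p ↔ g • p = p := by
  rw [mul_smul, inv_smul_smul, mul_smul, smul_left_cancel_iff]

variable (D : Dat F m)
include D

theorem oI_ne_oP (x y : F) : oI D ≠ oP D x y := fun e => pP_ne_inf D x y (congrArg Subtype.val e).symm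

theorem exists_conj_pair {a b : Cfsg.suzukiOvoid F m} (hab : a ≠ b) :
    ∃ k : Cfsg.Sz F m, k • a = oI D ∧ k • b = oP D 0 0 :=
  MulAction.is_two_pretransitive_iff.1 (two_transitive D) hab (oI_ne_oP D 0 0)

variable (hF : Fintype.card F = 2 ^ (2 * m + 1))
include hF

theorem conj_pair {a b : Cfsg.suzukiOvoid F m} {k g : Cfsg.Sz F m} (hka : k • a = oI D) (hkb : k • b = oP D 0 0)
    (ha : g • a = a) (hb : g • b = b) : ∃ u, k * g * k⁻¹ = gH D u := by
  obtain ⟨u, hu⟩ := fix_two D hF (k * g * k⁻¹).2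
    (congrArg Subtype.val (show (k * g * k⁻¹) • oI D = oI D by rw [← hka]; exact (conj_fix k g).2 ha))
    (congrArg Subtype.val (show (k * g * k⁻¹) • oP D 0 0 = oP D 0 0 by rw [← hkb]; exact (conj_fix k g).2 hb))
  exact ⟨u, Subtype.ext hu⟩

theorem pair_commute {a b : Cfsg.suzukiOvoid F m} (hab : a ≠ b) {g g' : Cfsg.Sz F m}
    (ha : g • a = a) (hb : g • b = b) (ha' : g' • a = a) (hb' : g' • b = b) : Commute g g' := by
  obtain ⟨k, hka, hkb⟩ := exists_conj_pair D hab
  obtain ⟨u, hu⟩ := conj_pair D hF hka hkb ha hb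
  obtain ⟨v, hv⟩ := conj_pair D hF hka hkb ha' hb'
  have : k * g * k⁻¹ * (k * g' * k⁻¹) = k * g' * k⁻¹ * (k * g * k⁻¹) := by
    rw [hu, hv, gH_mul, gH_mul, mul_comm]
  have h2 : k * (g * g') * k⁻¹ = k * (g' * g) * k⁻¹ := by
    rwa [show k * (g * g') * k⁻¹ = k * g * k⁻¹ * (k * g' * k⁻¹) by group,
      show k * (g' * g) * k⁻¹ = k * g' * k⁻¹ * (k * g * k⁻¹) by group]
  exact mul_left_cancel (mul_right_cancel h2)

theorem pow_card_sub_one_of_twoFix {g : Cfsg.Sz F m} (h : TwoFix g) : g ^ (Fintype.card F - 1) = 1 := by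
  classical
  obtain ⟨a, b, hab, ha, hb⟩ := h
  obtain ⟨k, hka, hkb⟩ := exists_conj_pair D hab
  obtain ⟨u, hu⟩ := conj_pair D hF hka hkb ha hb
  have hpow : ∀ n : ℕ, gH D u ^ n = gH D (u ^ n) := by
    intro n
    induction n with
    | zero => rw [pow_zero, pow_zero, gH_one]
    | succ n ih => rw [pow_succ, pow_succ, ih, gH_mul]
  have h1 : (k * g * k⁻¹) ^ (Fintype.card F - 1) = 1 := by
    rw [hu, hpow, ← Fintype.card_units, pow_card_eq_one, gH_one]
  rwa [conj_pow, conj_eq_one_iff] at h1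

theorem odd_orderOf_of_twoFix {g : Cfsg.Sz F m} (h : TwoFix g) : Odd (orderOf g) := by
  refine Odd.of_dvd_nat ?_ (orderOf_dvd_of_pow_eq_one (pow_card_sub_one_of_twoFix D hF h))
  rw [hF, Nat.odd_iff]
  have h2 : 2 ∣ 2 ^ (2 * m + 1) := dvd_pow_self 2 (by omega)
  have := Nat.one_le_two_pow (n := 2 * m + 1)
  omega

theorem pow_four_of_oneFix {g : Cfsg.Sz F m} (h : OneFix g) : g ^ 4 = 1 := by
  obtain ⟨a, ha, huniq⟩ := h
  obtain ⟨k0, hk0⟩ := transitive D a
  set g' := k0⁻¹ * g * k0 with hg'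
  have hI : g' • oI D = oI D := by rw [hg', mul_smul, mul_smul, hk0, ha, ← hk0, inv_smul_smul]
  obtain ⟨x, y, u, e⟩ := gfix_inf D hF hI
  by_cases hu : u = 1
  · subst hu
    rw [gH_one, mul_one] at e
    have h4 : (qT D x y) ^ 4 = 1 := by have := Monoid.pow_exponent_eq_one (qT D x y); rwa [exponent_Q D] at this
    have h4' : g' ^ 4 = 1 := by rw [e]; exact congrArg Subtype.val h4
    rw [hg', show k0⁻¹ * g * k0 = k0⁻¹ * g * k0⁻¹⁻¹ by group, conj_pow, conj_eq_one_iff] at h4'
    exact h4'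
  · exfalso
    have h2 : (u : F) ^ 2 + 1 ≠ 0 := fun h0 =>
      hu (Units.ext (D.sq_inj (by rw [Units.val_one, one_pow, D.eq_of_add h0])))
    have hk : D.θ u ^ 2 * (u : F) ^ 2 + 1 ≠ 0 := by
      intro h0
      have h1 := D.eq_of_add h0
      rw [← map_pow] at h1
      exact hu (Units.ext (D.sq_inj (by rw [Units.val_one, one_pow, scale_eq_one D hF (pow_ne_zero 2 u.ne_zero) h1])))
    set X := x / ((u : F) ^ 2 + 1) with hX
    set Y := (D.θ x * ((u : F) ^ 2 * X) + y) / (D.θ u ^ 2 * (u : F) ^ 2 + 1) with hY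
    have hp : g' • oP D X Y = oP D X Y := by
      rw [e, mul_smul, gH_oP, gT_oP]
      congr 1
      · rw [hX]; field_simp; grind [D.two]
      · rw [hY]; field_simp; grind [D.two]
    have hk0' := huniq (k0 • oP D X Y) (by
      have h5 := (conj_fix k0 g').2 hp
      rwa [hg', show k0 * (k0⁻¹ * g * k0) * k0⁻¹ = g by group] at h5)
    rw [← hk0, smul_left_cancel_iff] at hk0'
    exact oI_ne_oP D X Y hk0'.symm

theorem not_fpf_of_orderOf_two {g : Cfsg.Sz F m} (h : orderOf g = 2) : ¬ Fpf g := by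
  intro hf
  haveI : Fact (Nat.Prime 2) := ⟨Nat.prime_two⟩
  have hp : IsPGroup 2 (Subgroup.zpowers g) := IsPGroup.of_card (n := 1) (by rw [Nat.card_zpowers, h, pow_one])
  obtain ⟨P, hP⟩ := hp.exists_le_sylow
  obtain ⟨k, hk⟩ := MulAction.exists_smul_eq (Cfsg.Sz F m) P (QS D hF)
  have hmem : k * g * k⁻¹ ∈ Q D := by
    have : MulAut.conj k • g ∈ MulAut.conj k • (P : Subgroup (Cfsg.Sz F m)) :=
      Subgroup.smul_mem_pointwise_smul _ _ _ (hP (Subgroup.mem_zpowers g))
    rw [← Sylow.pointwise_smul_def, ← Sylow.smul_def, hk] at this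
    exact this
  obtain ⟨x, y, e⟩ := hmem
  have h1 := gT_oI D x y
  rw [← e, ← smul_inv_smul k (oI D), conj_fix] at h1
  exact hf _ h1

theorem odd_orderOf_of_fpf {g : Cfsg.Sz F m} (h : Fpf g) : Odd (orderOf g) := by
  rw [← Nat.not_even_iff_odd]
  rintro ⟨j, hj⟩
  have hpos := orderOf_pos g
  have hdiv : orderOf g / j = 2 := Nat.div_eq_of_eq_mul_left (by omega) (by omega)
  set i := g ^ j
  have hi : orderOf i = 2 := by
    rw [orderOf_pow' _ (by omega), Nat.gcd_eq_right ⟨2, by omega⟩, hdiv]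
  have hcomm : Commute g i := Commute.self_pow g j
  rcases fix_trichotomy i with h0 | ⟨a, ha, huniq⟩ | h2
  · exact not_fpf_of_orderOf_two D hF hi h0
  · exact h a (huniq _ (smul_fix_of_commute hcomm ha))
  · exact absurd (odd_orderOf_of_twoFix D hF h2) (by rw [hi]; decide)

/-- The centraliser of an element with exactly one fixed point is a 2-group. -/
theorem oneFix_of_commute {g c : Cfsg.Sz F m} (hg : OneFix g) (hc : Commute c g) (hc1 : c ≠ 1) : OneFix c := by
  obtain ⟨a, ha, huniq⟩ := hg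
  have hca : c • a = a := huniq _ (smul_fix_of_commute hc ha)
  refine ⟨a, hca, fun p hp => ?_⟩
  by_contra hpa
  by_cases hgp : g • p = p
  · exact hpa (huniq p hgp)
  · refine hc1 (three_fixed D hF c a p (g • p) (Ne.symm hpa) (Ne.symm hgp) (fun e => hpa ?_) hca hp
      (smul_fix_of_commute hc.symm hp))
    exact (MulAction.injective g (e.symm.trans ha.symm))

/-- The centraliser of an element with two fixed points fixes both. -/
theorem fix_of_commute_twoFix {g c : Cfsg.Sz F m} (hg1 : g ≠ 1) {a b : Cfsg.suzukiOvoid F m} (hab : a ≠ b)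
    (ha : g • a = a) (hb : g • b = b) (hc : Commute c g) : c • a = a ∧ c • b = b := by
  have hcases : ∀ p, g • p = p → p = a ∨ p = b := by
    intro p hp
    by_contra hh
    push_neg at hh
    exact hg1 (three_fixed D hF g a b p hab (Ne.symm hh.2) (Ne.symm hh.1) ha hb hp)
  rcases hcases _ (smul_fix_of_commute hc ha) with h1 | h1
  · rcases hcases _ (smul_fix_of_commute hc hb) with h2 | h2
    · exact absurd (MulAction.injective c (h2.trans h1.symm)) hab.symm
    · exact ⟨h1, h2⟩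
  · exfalso
    have h2 : c • b = a := (hcases _ (smul_fix_of_commute hc hb)).resolve_right
      fun h2 => hab (MulAction.injective c (h1.trans h2.symm))
    have heven : Even (orderOf c) := by
      rw [← Nat.not_odd_iff_even]
      rintro ⟨j, hj⟩
      have h3 : ∀ n : ℕ, c ^ (2 * n) • a = a := by
        intro n
        induction n with
        | zero => simp
        | succ n ih => rw [Nat.mul_succ, pow_add, mul_smul, pow_two, mul_smul, h1, h2, ih]
      have h4 := pow_orderOf_eq_one c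
      rw [hj, pow_succ] at h4
      have h5 : (c ^ (2 * j) * c) • a = a := by rw [h4, one_smul]
      rw [mul_smul, h1] at h5
      exact hab (MulAction.injective (c ^ (2 * j)) ((h3 j).trans h5.symm))
    obtain ⟨j, hj⟩ := heven
    have hpos := orderOf_pos c
    have hdiv : orderOf c / j = 2 := Nat.div_eq_of_eq_mul_left (by omega) (by omega)
    have hi : orderOf (c ^ j) = 2 := by
      rw [orderOf_pow' _ (by omega), Nat.gcd_eq_right ⟨2, by omega⟩, hdiv]
    rcases fix_trichotomy (c ^ j) with h0 | ⟨d, hd, huniq⟩ | ht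
    · exact not_fpf_of_orderOf_two D hF hi h0
    · have hcd : c • d = d := huniq _ (smul_fix_of_commute (Commute.self_pow c j) hd)
      have hgd : g • d = d := huniq _ (smul_fix_of_commute (hc.symm.pow_right j) hd)
      rcases hcases d hgd with rfl | rfl
      · exact hab (hcd.symm.trans h1)
      · exact hab (h2.symm.trans hcd)
    · exact absurd (odd_orderOf_of_twoFix D hF ht) (by rw [hi]; decide)

end Cfsg.Agent.Suzuki
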