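/-
The matrix group `Lie.Sz` is the stabiliser of the Suzuki-Tits ovoid.
-/
import Cfsg.Agent.Lib.Suzuki.Simple
import Cfsg.Agent.Lib.Recog.SuzukiOdd

set_option autoImplicit false

namespace Cfsg.Agent.Suzuki

open scoped Matrix Pointwise MatrixGroups
open Matrix (SpecialLinearGroup)
open Cfsg.Agent.Recog.SuzukiOdd

variable {F : Type*} [Field F] [Fintype F] {m : ℕ} (D : Dat F m)

include D

theorem det_of_szRel {M : Matrix (Fin 4) (Fin 4) F} (h : SzRel D.θ M) : M.det = 1 := by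
  haveI := D.char2
  have h1 := congrArg Matrix.det h.1
  rw [Matrix.det_mul, Matrix.det_mul, Matrix.det_transpose] at h1
  have hJ : (J4 F).det = 1 := (w F).2
  rw [hJ, mul_one, ← sq, ← one_pow 2] at h1
  exact D.sq_inj h1

theorem szRel_T (a b : F) : SzRel D.θ (T D.θ a b : Matrix (Fin 4) (Fin 4) F) := by
  haveI := D.char2
  have e1 : (T D.θ a b : Matrix (Fin 4) (Fin 4) F)ᵀ * J4 F * (T D.θ a b : Matrix (Fin 4) (Fin 4) F) = J4 F := by
    ext i j
    fin_cases i <;> fin_cases j <;>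
      simp [J4, T_val, tMat, ov, Matrix.mul_apply, Fin.sum_univ_four] <;> grind [D.two]
  have h2 : J4 F * (T D.θ a b : Matrix (Fin 4) (Fin 4) F)ᵀ * J4 F * (T D.θ a b : Matrix (Fin 4) (Fin 4) F) = 1 := by
    rw [Matrix.mul_assoc, Matrix.mul_assoc, ← Matrix.mul_assoc _ᵀ, e1, J4_mul_self]
  rw [mul_eq_one_comm] at h2
  refine ⟨e1, ?_, ?_⟩
  · simpa [Matrix.mul_assoc, J4_mul_self] using congrArg (· * J4 F) h2
  · ext p r
    fin_cases p <;> fin_cases r <;>
      simp [Lie.star4, Lie.pairOf, T_val, tMat, ov, D.sq, map_add, map_mul] <;> grind [D.two]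

theorem szRel_H (u : Fˣ) : SzRel D.θ (H D.θ u : Matrix (Fin 4) (Fin 4) F) := by
  haveI := D.char2
  have h : D.θ (u : F) ≠ 0 := (map_ne_zero D.θ).2 u.ne_zero
  refine ⟨?_, ?_, ?_⟩
  · ext i j
    fin_cases i <;> fin_cases j <;>
      simp [J4, H_val, hVec, Matrix.mul_apply, Fin.sum_univ_four, Matrix.diagonal] <;> field_simp
  · ext i j
    fin_cases i <;> fin_cases j <;>
      simp [J4, H_val, hVec, Matrix.mul_apply, Fin.sum_univ_four, Matrix.diagonal] <;> field_simp
  · ext p r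
    fin_cases p <;> fin_cases r <;>
      simp [Lie.star4, Lie.pairOf, H_val, hVec, Matrix.diagonal, D.sq] <;> field_simp <;> ring

theorem szRel_w : SzRel D.θ (w F : Matrix (Fin 4) (Fin 4) F) := by
  haveI := D.char2
  refine ⟨?_, ?_, ?_⟩
  · ext i j
    fin_cases i <;> fin_cases j <;> simp [J4, w_val, Cfsg.suzukiForm, Matrix.mul_apply, Fin.sum_univ_four]
  · ext i j
    fin_cases i <;> fin_cases j <;> simp [J4, w_val, Cfsg.suzukiForm, Matrix.mul_apply, Fin.sum_univ_four]
  · ext p r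
    fin_cases p <;> fin_cases r <;>
      simp [Lie.star4, Lie.pairOf, w_val, Cfsg.suzukiForm, CharTwo.sub_eq_add, CharTwo.add_self_eq_zero]

/-- The first column of a matrix satisfying the relations spans a point of the ovoid. -/
theorem col_onOv {M : Matrix (Fin 4) (Fin 4) F} (h : SzRel D.θ M) : OnOv D.θ (fun i => M i 0) := by
  haveI := D.char2
  have hsub : ∀ {M : Matrix (Fin 4) (Fin 4) F}, SzRel D.θ M → M 3 0 ≠ 0 → M 1 0 = 0 → M 2 0 = 0 → M 0 0 = 0 := by
    intro M h h3 h1 h2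
    have e0 := congrFun (congrFun h.2.2 0) 0
    have e2 := congrFun (congrFun h.2.2 2) 0
    simp [Lie.star4, Lie.pairOf, h1, h2] at e0 e2
    rcases e2 with e2 | e2
    · exact absurd e2 h3
    · rw [e2, mul_zero] at e0
      exact D.theta_eq_zero.1 e0.symm
  by_cases h3 : M 3 0 = 0
  · refine Or.inl ?_
    have e0 := congrFun (congrFun h.2.2 0) 0
    have e1 := congrFun (congrFun h.2.2 1) 0
    have e2 := congrFun (congrFun h.2.2 2) 0
    have e3 := congrFun (congrFun h.2.2 3) 0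
    have iso := congrFun (congrFun h.1 0) 1
    simp [J4, Lie.star4, Lie.pairOf, Matrix.mul_apply, Fin.sum_univ_four, h3] at e0 e1 e2 e3 iso
    have h2 : M 2 0 = 0 := by
      rcases e3 with e | e
      · exact e
      · rw [e, mul_zero] at e2
        exact D.theta_eq_zero.1 e2.symm
    simp [h2] at e1 e2 iso
    have h1 : M 1 0 = 0 := by
      rcases e2 with e | e
      · exact e
      · simp [e] at iso
        rcases iso with e' | e'
        · exact e'
        · rw [e', mul_zero] at e1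
          exact D.theta_eq_zero.1 e1.symm
    exact ⟨h1, h2, h3⟩
  · refine Or.inr ⟨h3, ?_⟩
    set x := M 2 0 / M 3 0 with hx
    set y := M 1 0 / M 3 0 with hy
    have hx' : M 2 0 = M 3 0 * x := by rw [hx]; field_simp
    have hy' : M 1 0 = M 3 0 * y := by rw [hy]; field_simp
    set N := (T D.θ x (y + D.θ x * x) : Matrix (Fin 4) (Fin 4) F) * M with hN
    have hr : SzRel D.θ N := (szRel_T D _ _).mul h
    have n : ∀ i, N i 0 = ∑ j, tMat D.θ x (y + D.θ x * x) i j * M j 0 := fun i => by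
      rw [hN, Matrix.mul_apply, T_val]
    have h0 := hsub hr (by simp [n, tMat, Fin.sum_univ_four, h3])
      (by simp [n, tMat, Fin.sum_univ_four, hx', hy']; grind [D.two])
      (by simp [n, tMat, Fin.sum_univ_four, hx']; grind [D.two])
    simp [n, tMat, Fin.sum_univ_four, hx', hy', ov, map_add, map_mul, D.sq] at h0
    show M 0 0 = M 3 0 * ov D.θ x y
    simp only [ov]
    grind [D.two]

theorem mem_of_szRel {g : SpecialLinearGroup (Fin 4) F} (h : SzRel D.θ g.1) : g ∈ Cfsg.Sz F m := by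
  haveI := D.char2
  refine mem_of_maps fun p hp => ?_
  have key : ∀ g : SpecialLinearGroup (Fin 4) F, SzRel D.θ g.1 →
      g • Cfsg.suzukiPointInfinity F ∈ Cfsg.suzukiOvoid F m := by
    intro g h
    rw [Cfsg.suzukiPointInfinity, act_mk _ _ (mulVec_ne _ (by simp)), mk_mem_iff D]
    convert col_onOv D h using 1
    funext i
    simp [Matrix.mulVec, dotProduct, Fin.sum_univ_four]
  rcases (mem_cases D).1 hp with rfl | ⟨x, y, rfl⟩
  · exact key g h
  · rw [show g • pP D.θ x y = (g * (T D.θ x y * w F)) • Cfsg.suzukiPointInfinity F by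
      rw [mul_smul, mul_smul, w_inf D, T_pt D]; simp]
    exact key _ (by simpa using h.mul ((szRel_T D x y).mul (szRel_w D)))

variable (hF : Fintype.card F = 2 ^ (2 * m + 1))
include hF

theorem szRel_of_ovoid {g : SpecialLinearGroup (Fin 4) F} (hg : g ∈ Cfsg.Sz F m) : SzRel D.θ g.1 := by
  haveI := D.char2
  rcases normal_form D hF hg with ⟨a, b, u, rfl⟩ | ⟨a, b, c, d, u, rfl⟩
  · exact (szRel_T D a b).mul (szRel_H D u)
  · exact ((szRel_T D a b).mul (szRel_w D)).mul ((szRel_T D c d).mul (szRel_H D u))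

theorem mem_lieSz_iff {g : GL (Fin 4) F} :
    g ∈ Cfsg.Lie.Sz F (2 ^ (m + 1)) ↔ SzRel D.θ (g : Matrix (Fin 4) (Fin 4) F) := by
  haveI := D.char2
  refine ⟨fun hg => szRel_of_mem D.θ D.pow hg, fun h => Subgroup.subset_closure ⟨?_, ?_⟩⟩
  · intro u v
    have := congrArg (fun X => u ⬝ᵥ (X *ᵥ v)) h.1
    simp only [← Matrix.mulVec_mulVec, Matrix.dotProduct_mulVec, Matrix.vecMul_transpose] at this
    simp only [← Matrix.dotProduct_mulVec, Units.coeHom_apply] at this ⊢
    convert this using 1 <;>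
      simp [Lie.altForm4, J4, dotProduct, Fin.sum_univ_four, Matrix.mulVec] <;> ring
  · rw [h.2.2]
    ext i j
    simp [D.pow]

/-- The matrix group is the stabiliser of the ovoid. -/
noncomputable def lieEquiv : Cfsg.Sz F m ≃* Cfsg.Lie.Sz F (2 ^ (m + 1)) :=
  MulEquiv.ofBijective
    ({ toFun := fun g => ⟨Matrix.SpecialLinearGroup.toGL g.1, (mem_lieSz_iff D hF).2 (szRel_of_ovoid D hF g.2)⟩
       map_one' := Subtype.ext (map_one _)
       map_mul' := fun g k => Subtype.ext (map_mul _ g.1 k.1) } : Cfsg.Sz F m →* Cfsg.Lie.Sz F (2 ^ (m + 1)))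
    ⟨fun g k h => Subtype.ext (Subtype.ext (congrArg (fun x : Cfsg.Lie.Sz F (2 ^ (m + 1)) => (x.1 : Matrix (Fin 4) (Fin 4) F)) h)),
      fun g => ⟨⟨⟨(g.1 : Matrix (Fin 4) (Fin 4) F), det_of_szRel D ((mem_lieSz_iff D hF).1 g.2)⟩,
        mem_of_szRel D ((mem_lieSz_iff D hF).1 g.2)⟩, Subtype.ext (Units.ext rfl)⟩⟩

omit D in
theorem card_lieSz (hm : 1 ≤ m) : Nat.card (Cfsg.Lie.Sz F (2 ^ (m + 1))) =
    Fintype.card F ^ 2 * (Fintype.card F ^ 2 + 1) * (Fintype.card F - 1) := by
  obtain ⟨D⟩ := exists_dat hm hF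
  rw [← Nat.card_congr (lieEquiv D hF).toEquiv, card_sz D hF]

theorem simple_lieSz : IsSimpleGroup (Cfsg.Lie.Sz F (2 ^ (m + 1))) :=
  haveI := simple D hF
  haveI := (lieEquiv D hF).symm.toEquiv.nontrivial
  IsSimpleGroup.isSimpleGroup_of_surjective (lieEquiv D hF).toMonoidHom (lieEquiv D hF).surjective

end Cfsg.Agent.Suzuki
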