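/-
Matrices of odd prime order in `GL₄(q)` whose order does not divide `q^d - 1` for `d < 4`.
-/
import Mathlib

set_option autoImplicit false

namespace Cfsg.Agent.Suzuki

open Polynomial
open scoped Matrix

variable {F : Type*} [Field F]

/-- Conjugating the argument of a polynomial. -/
theorem aeval_conj_matrix {n : Type*} [Fintype n] [DecidableEq n] {X Y M : Matrix n n F} (hYX : Y * X = 1)
    (g : F[X]) : aeval (X * M * Y) g = X * aeval M g * Y := by
  induction g using Polynomial.induction_on' with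
  | add a b ha hb => rw [map_add, map_add, ha, hb, Matrix.mul_add, Matrix.add_mul]
  | monomial k a =>
    have hXY : X * Y = 1 := mul_eq_one_comm.1 hYX
    have hpow : ∀ j : ℕ, (X * M * Y) ^ j = X * M ^ j * Y := by
      intro j
      induction j with
      | zero => simp [hXY]
      | succ j ih =>
        rw [pow_succ, ih, pow_succ]
        calc X * M ^ j * Y * (X * M * Y) = X * M ^ j * (Y * X) * (M * Y) := by simp only [Matrix.mul_assoc]
          _ = X * (M ^ j * M) * Y := by rw [hYX, Matrix.mul_one]; simp only [Matrix.mul_assoc]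
    rw [aeval_monomial, aeval_monomial, hpow, ← Algebra.smul_def, ← Algebra.smul_def, Matrix.mul_smul, Matrix.smul_mul]

variable [Fintype F] {M : Matrix (Fin 4) (Fin 4) F} {p : ℕ}
  (hp : p.Prime) (hMp : M ^ p = 1) (hfix : ∀ v, M *ᵥ v = v → v = 0)
  (hord : ∀ d, 0 < d → d < 4 → ¬ p ∣ Fintype.card F ^ d - 1)
include hp hMp hfix hord

theorem singer_minpoly : Irreducible (minpoly F M) ∧ (minpoly F M).natDegree = 4 := by
  have hint : IsIntegral F M := Matrix.isIntegral M
  set f := minpoly F M with hf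
  have hf0 : f ≠ 0 := minpoly.ne_zero hint
  have hdeg : f.natDegree ≤ 4 := by
    have h := natDegree_le_of_dvd (Matrix.minpoly_dvd_charpoly M) (Matrix.charpoly_monic M).ne_zero
    rwa [Matrix.charpoly_natDegree_eq_dim, Fintype.card_fin] at h
  have hpos : 0 < f.natDegree := minpoly.natDegree_pos hint
  obtain ⟨g, hg, hgf⟩ := WfDvdMonoid.exists_irreducible_factor (not_isUnit_of_natDegree_pos f hpos) hf0
  have hfp : f ∣ X ^ p - 1 := minpoly.dvd F M (by simp [hMp])
  haveI : Fact (Irreducible g) := ⟨hg⟩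
  let pb := AdjoinRoot.powerBasis hg.ne_zero
  haveI : Finite (AdjoinRoot g) := by
    haveI := pb.finite
    exact Module.finite_of_finite F
  have hcard : Nat.card (AdjoinRoot g) = Fintype.card F ^ g.natDegree := by
    rw [Module.natCard_eq_pow_finrank (K := F), pb.finrank, AdjoinRoot.powerBasis_dim, Nat.card_eq_fintype_card]
  set α := AdjoinRoot.root g
  have hα : α ^ p = 1 := by
    have h1 : AdjoinRoot.mk g (X ^ p - 1) = 0 := AdjoinRoot.mk_eq_zero.2 (hgf.trans hfp)
    rwa [map_sub, map_pow, AdjoinRoot.mk_X, map_one, sub_eq_zero] at h1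
  have hα1 : α ≠ 1 := by
    intro h
    have h1 : AdjoinRoot.mk g (X - 1) = 0 := by rw [map_sub, AdjoinRoot.mk_X, map_one]; exact sub_eq_zero.2 h
    have h2 : g ∣ X - C 1 := by rw [C_1]; exact AdjoinRoot.mk_eq_zero.1 h1
    have h3 : X - C (1 : F) ∣ f := ((hg.associated_of_dvd (irreducible_X_sub_C 1) h2).symm.dvd).trans hgf
    obtain ⟨f', hf'⟩ := h3
    have hf'0 : f' ≠ 0 := fun e => hf0 (by rw [hf', e, mul_zero])
    have hne : aeval M f' ≠ 0 := by
      intro e
      have := natDegree_le_of_dvd (minpoly.dvd F M e) hf'0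
      rw [← hf, hf', natDegree_mul (X_sub_C_ne_zero 1) hf'0, natDegree_X_sub_C] at this
      omega
    obtain ⟨v, hv⟩ : ∃ v, aeval M f' *ᵥ v ≠ 0 := by
      by_contra hh
      push_neg at hh
      exact hne (Matrix.ext_of_mulVec_single fun i => by rw [hh, Matrix.zero_mulVec])
    refine hv (hfix _ ?_)
    have h4 : aeval M f = 0 := minpoly.aeval F M
    rw [hf', map_mul, map_sub, aeval_X, aeval_C, map_one] at h4
    have h5 := congrArg (· *ᵥ v) h4
    simp only [← Matrix.mulVec_mulVec, Matrix.sub_mulVec, Matrix.one_mulVec, Matrix.zero_mulVec] at h5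
    exact sub_eq_zero.1 h5
  have hα0 : α ≠ 0 := fun h => by rw [h, zero_pow hp.ne_zero] at hα; exact zero_ne_one hα
  haveI := Fintype.ofFinite (AdjoinRoot g)
  have hα' : α ^ (Fintype.card F ^ g.natDegree - 1) = 1 := by
    rw [← hcard, Nat.card_eq_fintype_card]
    exact FiniteField.pow_card_sub_one_eq_one α hα0
  haveI := Fact.mk hp
  have hordα : orderOf α = p := orderOf_eq_prime hα hα1
  have hdvd : p ∣ Fintype.card F ^ g.natDegree - 1 := hordα ▸ orderOf_dvd_of_pow_eq_one hα'
  have hg4 : 4 ≤ g.natDegree := by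
    by_contra hlt
    exact hord _ hg.natDegree_pos (by omega) hdvd
  have hgdeg := natDegree_le_of_dvd hgf hf0
  have hass : Associated g f := associated_of_dvd_of_natDegree_le hgf hf0 (by omega)
  exact ⟨hass.irreducible hg, by omega⟩

theorem singer_commute {X' : Matrix (Fin 4) (Fin 4) F} (h : Commute X' M) : ∃ h : F[X], aeval M h = X' := by
  obtain ⟨hirr, hdeg⟩ := singer_minpoly hp hMp hfix hord
  set v : Fin 4 → F := Pi.single 0 1 with hv
  have hv0 : v ≠ 0 := by simp [hv, Pi.single_eq_zero_iff]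
  have hzero : ∀ g : F[X], g.natDegree < 4 → aeval M g *ᵥ v = 0 → g = 0 := by
    intro g hg hgv
    by_contra hg0
    have hcop : IsCoprime (minpoly F M) g := hirr.coprime_iff_not_dvd.2 fun hd => by
      have := natDegree_le_of_dvd hd hg0
      omega
    obtain ⟨a, b, hab⟩ := hcop
    have h1 := congrArg (fun q => aeval M q *ᵥ v) hab
    simp only [map_add, map_mul, minpoly.aeval, mul_zero, zero_add, map_one, Matrix.one_mulVec,
      ← Matrix.mulVec_mulVec, hgv, Matrix.mulVec_zero] at h1
    exact hv0 h1.symm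
  let b : Fin 4 → (Fin 4 → F) := fun i => (M ^ (i : ℕ)) *ᵥ v
  have hsum : ∀ c : Fin 4 → F, aeval M (∑ i : Fin 4, C (c i) * X ^ (i : ℕ)) *ᵥ v = ∑ i, c i • b i := by
    intro c
    simp only [map_sum, map_mul, aeval_C, map_pow, aeval_X, Matrix.sum_mulVec, b, Algebra.algebraMap_eq_smul_one,
      smul_one_mul, Matrix.smul_mulVec]
  have hli : LinearIndependent F b := by
    rw [Fintype.linearIndependent_iff]
    intro c hc i
    rw [← hsum] at hc
    have h0 := hzero _ (lt_of_le_of_lt (natDegree_sum_le_of_forall_le _ _ fun j _ =>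
      (natDegree_C_mul_X_pow_le _ _).trans (Nat.lt_succ_iff.1 j.2)) (by norm_num : (3 : ℕ) < 4)) hc
    have := congrArg (fun q : F[X] => q.coeff (i : ℕ)) h0
    simpa [finset_sum_coeff, coeff_C_mul, coeff_X_pow, Fin.val_inj] using this
  have hspan : Submodule.span F (Set.range b) = ⊤ :=
    hli.span_eq_top_of_card_eq_finrank (by simp)
  obtain ⟨c, hc⟩ := (Submodule.mem_span_range_iff_exists_fun F).1 (hspan ▸ Submodule.mem_top (x := X' *ᵥ v))
  set g : F[X] := ∑ i : Fin 4, C (c i) * X ^ (i : ℕ) with hg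
  refine ⟨g, ?_⟩
  have hgv : aeval M g *ᵥ v = X' *ᵥ v := by rw [hg, hsum, hc]
  have hcg : Commute (aeval M g) M := by
    show aeval M g * M = M * aeval M g
    nth_rewrite 2 [← aeval_X (R := F) M]
    nth_rewrite 3 [← aeval_X (R := F) M]
    rw [← map_mul, ← map_mul, mul_comm]
  refine Matrix.toLin'.injective (LinearMap.ext_on_range hspan fun i => ?_)
  simp only [Matrix.toLin'_apply, b, Matrix.mulVec_mulVec]
  rw [(hcg.pow_right _).eq, (h.pow_right _).eq, ← Matrix.mulVec_mulVec, hgv, Matrix.mulVec_mulVec]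

end Cfsg.Agent.Suzuki
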