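/-
The cyclic subgroups of the Suzuki groups acting freely on the ovoid.
-/
import Cfsg.Agent.Lib.Suzuki.Fixed
import Cfsg.Agent.Lib.Suzuki.Singer
import Cfsg.Agent.Lib.Suzuki.LieIso

set_option autoImplicit false

namespace Cfsg.Agent.Suzuki

open scoped Matrix Pointwise
open Polynomial

variable {F : Type*} [Field F] [Fintype F] {m : ℕ}

/-- A torus: the centraliser of an element of prime order without fixed points. -/
def IsTorus (U : Subgroup (Cfsg.Sz F m)) : Prop :=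
  ∃ h : Cfsg.Sz F m, (orderOf h).Prime ∧ Fpf h ∧ U = Subgroup.centralizer {h}

theorem card_dvd_of_free {G X : Type*} [Group G] [MulAction G X] [Finite X]
    (h : ∀ x : X, MulAction.stabilizer G x = ⊥) : Nat.card G ∣ Nat.card X := by
  rw [Nat.card_congr (MulAction.selfEquivOrbitsQuotientProd h), Nat.card_prod]
  exact dvd_mul_left _ _

theorem mem_cent {g h : Cfsg.Sz F m} : g ∈ Subgroup.centralizer {h} ↔ Commute g h := by
  rw [Subgroup.mem_centralizer_singleton_iff]
  exact Iff.rfl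

variable (D : Dat F m) (hF : Fintype.card F = 2 ^ (2 * m + 1))
include D hF

theorem card_ovoid : Nat.card (Cfsg.suzukiOvoid F m) = Fintype.card F ^ 2 + 1 := by
  exact S0326.result m

theorem orderOf_dvd_of_free {h : Cfsg.Sz F m} (hp : (orderOf h).Prime) (hf : Fpf h) :
    orderOf h ∣ Fintype.card F ^ 2 + 1 := by
  haveI := Fact.mk hp
  rw [← card_ovoid D hF, ← Nat.card_zpowers]
  refine card_dvd_of_free fun x => ?_
  rw [Subgroup.eq_bot_iff_forall]
  rintro ⟨y, hy⟩ hyx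
  by_contra hne
  have hy1 : y ≠ 1 := fun e => hne (Subtype.ext e)
  have hmem : h ∈ Subgroup.zpowers y := by
    have hle : Subgroup.zpowers y ≤ Subgroup.zpowers h := Subgroup.zpowers_le.2 hy
    have hcard : Nat.card (Subgroup.zpowers h) ≤ Nat.card (Subgroup.zpowers y) := by
      rw [Nat.card_zpowers, Nat.card_zpowers]
      have hd : orderOf y ∣ orderOf h := orderOf_dvd_of_mem_zpowers hy
      rcases hp.eq_one_or_self_of_dvd _ hd with e | e
      · exact absurd (orderOf_eq_one_iff.1 e) hy1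
      · exact e.ge
    rw [Subgroup.eq_of_le_of_card_ge hle hcard]
    exact Subgroup.mem_zpowers h
  obtain ⟨k, hk⟩ := hmem
  have hst : y ∈ MulAction.stabilizer (Cfsg.Sz F m) x := MulAction.mem_stabilizer_iff.2
    (MulAction.mem_stabilizer_iff.1 hyx)
  have h2 := zpow_mem hst k
  exact hf x (by rw [← hk]; exact MulAction.mem_stabilizer_iff.1 h2)

/-- Arithmetic of a prime divisor of `q² + 1`. -/
theorem not_dvd_pow_sub_one {p : ℕ} (hp : p.Prime) (hd : p ∣ Fintype.card F ^ 2 + 1) :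
    p ≠ 2 ∧ p ≠ 3 ∧ ¬ p ∣ Fintype.card F ∧ ∀ d, 0 < d → d < 4 → ¬ p ∣ Fintype.card F ^ d - 1 := by
  have h3' : ∀ x : ZMod 3, x ^ 2 ≠ -1 := by decide
  set q := Fintype.card F with hq
  have hq2 : 2 ∣ q := by rw [hF]; exact dvd_pow_self 2 (by omega)
  have hpq : ¬ p ∣ q := fun h => hp.one_lt.ne' (Nat.dvd_one.1 ((Nat.dvd_add_right (dvd_pow h two_ne_zero)).1 hd))
  have hp2 : p ≠ 2 := fun h => hpq (h ▸ hq2)
  haveI := Fact.mk hp
  have h2 : (2 : ZMod p) ≠ 0 := by
    intro h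
    have h' : ((2 : ℕ) : ZMod p) = 0 := by exact_mod_cast h
    exact hp2 ((Nat.prime_dvd_prime_iff_eq hp Nat.prime_two).1 ((ZMod.natCast_eq_zero_iff _ _).1 h'))
  have hq1 : (q : ZMod p) ^ 2 = -1 := by
    have : ((q ^ 2 + 1 : ℕ) : ZMod p) = 0 := (ZMod.natCast_eq_zero_iff _ _).2 hd
    push_cast at this
    linear_combination this
  refine ⟨hp2, ?_, hpq, fun d hd0 hd4 hdd => ?_⟩
  · intro h3
    subst h3
    exact h3' _ hq1
  · have hqd : (q : ZMod p) ^ d = 1 := by
      have h1 : ((q ^ d - 1 : ℕ) : ZMod p) = 0 := (ZMod.natCast_eq_zero_iff _ _).2 hdd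
      rw [Nat.cast_sub (Nat.one_le_pow _ _ Fintype.card_pos)] at h1
      push_cast at h1
      linear_combination h1
    interval_cases d
    · rw [pow_one] at hqd
      rw [hqd] at hq1
      exact h2 (by linear_combination hq1)
    · exact h2 (by rw [hqd] at hq1; linear_combination hq1)
    · rw [pow_succ, hq1] at hqd
      exact h2 (by linear_combination ((q : ZMod p) - 1) * hqd + hq1)

section
variable {h : Cfsg.Sz F m} (hp : (orderOf h).Prime) (hf : Fpf h)
include hp hf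

theorem mat_pow : h.1.1 ^ orderOf h = 1 := by
  have := congrArg (fun g : Cfsg.Sz F m => g.1.1) (pow_orderOf_eq_one h)
  simpa [Matrix.SpecialLinearGroup.coe_pow, -pow_orderOf_eq_one] using this

theorem mat_fix (v : Fin 4 → F) (hv : h.1.1 *ᵥ v = v) : v = 0 := by
  haveI := D.char2
  by_contra hv0
  have h4 := Recog.SuzukiOdd.pow_four_eq_one (szRel_of_ovoid D hF h.2) hv0 hv
  have h4' : h ^ 4 = 1 := Subtype.ext (Subtype.ext (by simpa [Matrix.SpecialLinearGroup.coe_pow] using h4))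
  have := (not_dvd_pow_sub_one D hF hp (orderOf_dvd_of_free D hF hp hf)).1
  exact this ((Nat.prime_dvd_prime_iff_eq hp Nat.prime_two).1
    (hp.dvd_of_dvd_pow (show orderOf h ∣ 2 ^ 2 from orderOf_dvd_of_pow_eq_one h4')))

theorem torus_minpoly : Irreducible (minpoly F h.1.1) ∧ (minpoly F h.1.1).natDegree = 4 :=
  singer_minpoly hp (mat_pow D hF hp hf) (mat_fix D hF hp hf)
    (not_dvd_pow_sub_one D hF hp (orderOf_dvd_of_free D hF hp hf)).2.2.2

theorem torus_rep (c : Subgroup.centralizer {h}) : ∃ g : F[X], aeval h.1.1 g = c.1.1.1 := by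
  refine singer_commute hp (mat_pow D hF hp hf) (mat_fix D hF hp hf)
    (not_dvd_pow_sub_one D hF hp (orderOf_dvd_of_free D hF hp hf)).2.2.2 ?_
  exact congrArg (fun g : Cfsg.Sz F m => g.1.1) (mem_cent.1 c.2).eq

theorem torus_field_inj {g g' : F[X]} :
    AdjoinRoot.mk (minpoly F h.1.1) g = AdjoinRoot.mk (minpoly F h.1.1) g' ↔ aeval h.1.1 g = aeval h.1.1 g' := by
  rw [AdjoinRoot.mk_eq_mk, minpoly.dvd_iff, map_sub, sub_eq_zero]

theorem exists_torus_hom : ∃ ψ : Subgroup.centralizer {h} →* AdjoinRoot (minpoly F h.1.1),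
    Function.Injective ψ ∧ ∀ c g, aeval h.1.1 g = c.1.1.1 → ψ c = AdjoinRoot.mk _ g := by
  choose f hf' using torus_rep D hF hp hf
  refine ⟨⟨⟨fun c => AdjoinRoot.mk _ (f c), ?_⟩, ?_⟩, ?_, ?_⟩
  · rw [← map_one (AdjoinRoot.mk (minpoly F h.1.1)), torus_field_inj D hF hp hf, hf', map_one]
    rfl
  · intro a b
    show AdjoinRoot.mk _ (f (a * b)) = AdjoinRoot.mk _ (f a) * AdjoinRoot.mk _ (f b)
    rw [← map_mul, torus_field_inj D hF hp hf, map_mul, hf', hf', hf']
    rfl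
  · intro a b e
    have e' : aeval h.1.1 (f a) = aeval h.1.1 (f b) := (torus_field_inj D hF hp hf).1 e
    rw [hf', hf'] at e'
    exact Subtype.ext (Subtype.ext (Subtype.ext e'))
  · intro c g hg
    show AdjoinRoot.mk _ (f c) = _
    rw [torus_field_inj D hF hp hf, hf', hg]

theorem torus_cyclic : IsCyclic (Subgroup.centralizer {h}) := by
  obtain ⟨ψ, hψ, -⟩ := exists_torus_hom D hF hp hf
  haveI : Fact (Irreducible (minpoly F h.1.1)) := ⟨(torus_minpoly D hF hp hf).1⟩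
  exact isCyclic_of_subgroup_isDomain ψ hψ

theorem torus_commute {a b : Cfsg.Sz F m} (ha : a ∈ Subgroup.centralizer {h}) (hb : b ∈ Subgroup.centralizer {h}) :
    Commute a b := by
  haveI := torus_cyclic D hF hp hf
  exact congrArg Subtype.val (mul_comm' (⟨a, ha⟩ : Subgroup.centralizer {h}) ⟨b, hb⟩)

theorem torus_fpf {u : Cfsg.Sz F m} (hu : u ∈ Subgroup.centralizer {h}) (hu1 : u ≠ 1) : Fpf u := by
  intro a ha
  have hc : Commute h u := (mem_cent.1 hu).symm
  have h1 : u • h • a = h • a := smul_fix_of_commute hc ha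
  have h2 : u • h • h • a = h • h • a := smul_fix_of_commute hc h1
  refine hu1 (three_fixed D hF u a (h • a) (h • h • a) (Ne.symm (hf a)) (Ne.symm (hf _)) (fun e => ?_) ha h1 h2)
  have h3 : h ^ 2 • a = a := by rw [pow_two, mul_smul]; exact e.symm
  have hodd : Odd (orderOf h) := hp.odd_of_ne_two (not_dvd_pow_sub_one D hF hp (orderOf_dvd_of_free D hF hp hf)).1
  obtain ⟨j, hj⟩ := hodd
  have h4 : ∀ n : ℕ, (h ^ 2) ^ n • a = a := by
    intro n
    induction n with
    | zero => simp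
    | succ n ih => rw [pow_succ, mul_smul, h3, ih]
  have h5 : h ^ orderOf h • a = h • a := by rw [hj, pow_succ', mul_smul, pow_mul, h4]
  rw [pow_orderOf_eq_one, one_smul] at h5
  exact hf a h5.symm

end

theorem fpf_prime_pow {x : Cfsg.Sz F m} (hx : Fpf x) {n : ℕ} (hn : (orderOf (x ^ n)).Prime) : Fpf (x ^ n) := by
  rcases fix_trichotomy (x ^ n) with h0 | h1 | ⟨a, b, hab, ha, hb⟩
  · exact h0
  · exfalso
    have h4 := orderOf_dvd_of_pow_eq_one (pow_four_of_oneFix D hF h1)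
    have h2 := (Nat.prime_dvd_prime_iff_eq hn Nat.prime_two).1
      (hn.dvd_of_dvd_pow (show orderOf (x ^ n) ∣ 2 ^ 2 from h4))
    have hodd := Odd.of_dvd_nat (odd_orderOf_of_fpf D hF hx) (orderOf_pow_dvd n)
    rw [h2] at hodd
    exact absurd hodd (by decide)
  · exfalso
    have hne : x ^ n ≠ 1 := fun e => hn.ne_one (by rw [e, orderOf_one])
    exact hx a (fix_of_commute_twoFix D hF hne hab ha hb (Commute.self_pow x n)).1

theorem exists_prime_pow {x : Cfsg.Sz F m} (hx : x ≠ 1) : ∃ n, (orderOf (x ^ n)).Prime := by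
  obtain ⟨p, hp, hd⟩ := Nat.exists_prime_and_dvd (fun e => hx (orderOf_eq_one_iff.1 e))
  refine ⟨orderOf x / p, ?_⟩
  obtain ⟨j, hj⟩ := hd
  have hpos := orderOf_pos x
  have hjpos : 0 < j := by rcases Nat.eq_zero_or_pos j with rfl | h <;> simp_all
  have hdiv : orderOf x / p = j := by rw [hj, Nat.mul_div_cancel_left j hp.pos]
  rw [hdiv, orderOf_pow' _ hjpos.ne', Nat.gcd_eq_right ⟨p, by rw [hj, mul_comm]⟩, hj,
    Nat.mul_div_cancel _ hjpos]
  exact hp

theorem exists_torus_mem {x : Cfsg.Sz F m} (hx1 : x ≠ 1) (hx : Fpf x) : ∃ U, IsTorus U ∧ x ∈ U := by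
  obtain ⟨n, hn⟩ := exists_prime_pow D hF hx1
  exact ⟨_, ⟨_, hn, fpf_prime_pow D hF hx hn, rfl⟩, mem_cent.2 (Commute.self_pow x n)⟩

theorem IsTorus.centralizer_eq {U : Subgroup (Cfsg.Sz F m)} (hU : IsTorus U) {u : Cfsg.Sz F m} (hu : u ∈ U)
    (hu1 : u ≠ 1) : Subgroup.centralizer {u} = U := by
  obtain ⟨h, hp, hf, rfl⟩ := hU
  refine le_antisymm (fun c hc => ?_) fun c hc => mem_cent.2 (torus_commute D hF hp hf hc hu)
  obtain ⟨n, hn⟩ := exists_prime_pow D hF hu1
  have hk := fpf_prime_pow D hF (torus_fpf D hF hp hf hu hu1) hn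
  have hmem : u ^ n ∈ Subgroup.centralizer {h} := pow_mem hu n
  have h1 : c ∈ Subgroup.centralizer {u ^ n} := mem_cent.2 ((mem_cent.1 hc).pow_right n)
  have h2 : h ∈ Subgroup.centralizer {u ^ n} := mem_cent.2 (mem_cent.1 hmem).symm
  exact mem_cent.2 (torus_commute D hF hn hk h1 h2)

theorem IsTorus.eq_of_mem {U V : Subgroup (Cfsg.Sz F m)} (hU : IsTorus U) (hV : IsTorus V) {x : Cfsg.Sz F m}
    (hxU : x ∈ U) (hxV : x ∈ V) (hx : x ≠ 1) : U = V := by
  rw [← hU.centralizer_eq D hF hxU hx, ← hV.centralizer_eq D hF hxV hx]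

theorem IsTorus.isCyclic {U : Subgroup (Cfsg.Sz F m)} (hU : IsTorus U) : IsCyclic U := by
  obtain ⟨h, hp, hf, rfl⟩ := hU
  exact torus_cyclic D hF hp hf

theorem IsTorus.fpf {U : Subgroup (Cfsg.Sz F m)} (hU : IsTorus U) {x : Cfsg.Sz F m} (hx : x ∈ U) (hx1 : x ≠ 1) :
    Fpf x := by
  obtain ⟨h, hp, hf, rfl⟩ := hU
  exact torus_fpf D hF hp hf hx hx1

theorem IsTorus.card_dvd {U : Subgroup (Cfsg.Sz F m)} (hU : IsTorus U) : Nat.card U ∣ Fintype.card F ^ 2 + 1 := by
  rw [← card_ovoid D hF]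
  refine card_dvd_of_free fun a => ?_
  rw [Subgroup.eq_bot_iff_forall]
  rintro ⟨x, hx⟩ hxa
  by_contra hne
  exact hU.fpf D hF hx (fun e => hne (Subtype.ext e)) a (MulAction.mem_stabilizer_iff.1 hxa)

omit D hF in
theorem IsTorus.one_lt {U : Subgroup (Cfsg.Sz F m)} (hU : IsTorus U) : 1 < Nat.card U := by
  obtain ⟨h, hp, hf, rfl⟩ := hU
  refine Finite.one_lt_card_iff_nontrivial.2 ⟨⟨⟨h, mem_cent.2 rfl⟩, 1, fun e => ?_⟩⟩
  have : h = 1 := congrArg Subtype.val e
  exact hp.ne_one (by rw [this, orderOf_one])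

omit D hF in
theorem fpf_conj {x : Cfsg.Sz F m} (hx : Fpf x) (k : Cfsg.Sz F m) : Fpf (k * x * k⁻¹) := fun a ha => by
  rw [← smul_inv_smul k a, conj_fix] at ha
  exact hx _ ha

omit D hF in
theorem IsTorus.smul {U : Subgroup (Cfsg.Sz F m)} (hU : IsTorus U) (k : Cfsg.Sz F m) :
    IsTorus (MulAut.conj k • U) := by
  obtain ⟨h, hp, hf, rfl⟩ := hU
  refine ⟨k * h * k⁻¹, ?_, fpf_conj hf k, ?_⟩
  · rwa [show k * h * k⁻¹ = MulAut.conj k h from rfl, MulEquiv.orderOf_eq]
  · ext c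
    rw [Subgroup.mem_pointwise_smul_iff_inv_smul_mem, mem_cent, mem_cent, ← map_inv, MulAut.smul_def,
      MulAut.conj_apply, inv_inv]
    constructor
    · intro hc
      have := hc.map (MulAut.conj k).toMonoidHom
      simpa [show k * (k⁻¹ * c * k) * k⁻¹ = c by group] using this
    · intro hc
      have := hc.map (MulAut.conj k⁻¹).toMonoidHom
      simpa [show k⁻¹ * (k * h * k⁻¹) * k = h by group] using this

theorem IsTorus.exists_index_eq {U : Subgroup (Cfsg.Sz F m)} (hU : IsTorus U) :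
    ∃ w, w ∣ 4 ∧ Nat.card (Subgroup.normalizer (U : Set (Cfsg.Sz F m))) = w * Nat.card U := by
  obtain ⟨h, hp, hf, rfl⟩ := hU
  set U := Subgroup.centralizer {h} with hUdef
  set q := Fintype.card F with hq
  set p := orderOf h with hpdef
  haveI := Fact.mk hp
  have hn := not_dvd_pow_sub_one D hF hp (orderOf_dvd_of_free D hF hp hf)
  set f := minpoly F h.1.1 with hfdef
  obtain ⟨hirr, hdeg⟩ := torus_minpoly D hF hp hf
  haveI : Fact (Irreducible f) := ⟨hirr⟩
  obtain ⟨ψ, hψ, hψ'⟩ := exists_torus_hom D hF hp hf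
  have hh : h ∈ U := mem_cent.2 rfl
  have hqpow : ∀ i j : ℕ, h ^ q ^ i = h ^ q ^ j ↔ (q : ZMod p) ^ i = (q : ZMod p) ^ j := by
    intro i j
    rw [pow_eq_pow_iff_modEq, ← ZMod.natCast_eq_natCast_iff]
    push_cast
    rfl
  have hq0 : (q : ZMod p) ≠ 0 := fun e => hn.2.2.1 ((ZMod.natCast_eq_zero_iff _ _).1 e)
  have hq4 : (q : ZMod p) ^ 4 = 1 := by
    have : ((q ^ 2 + 1 : ℕ) : ZMod p) = 0 := (ZMod.natCast_eq_zero_iff _ _).2 (orderOf_dvd_of_free D hF hp hf)
    push_cast at this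
    linear_combination ((q : ZMod p) ^ 2 - 1) * this
  have hinj : ∀ i j : ℕ, i < 4 → j < 4 → (q : ZMod p) ^ i = (q : ZMod p) ^ j → i = j := by
    have : ∀ i j : ℕ, i < j → j < 4 → (q : ZMod p) ^ i ≠ (q : ZMod p) ^ j := by
      intro i j hij hj e
      have e' : (q : ZMod p) ^ (j - i) = 1 := by
        refine mul_left_cancel₀ (pow_ne_zero i hq0) ?_
        rw [← pow_add, mul_one, Nat.add_sub_cancel' hij.le, e]
      refine hn.2.2.2 (j - i) (by omega) (by omega) ?_
      rw [← ZMod.natCast_eq_zero_iff, Nat.cast_sub (Nat.one_le_pow _ _ Fintype.card_pos)]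
      push_cast
      rw [e', sub_self]
    intro i j hi hj e
    rcases lt_trichotomy i j with hl | hl | hl
    exacts [absurd e (this i j hl hj), hl, absurd e.symm (this j i hl hi)]
  have hψh : ψ ⟨h, hh⟩ = AdjoinRoot.root f := by
    rw [hψ' _ X (aeval_X _), AdjoinRoot.mk_X]
  have hroot : ∀ i : ℕ, aeval (AdjoinRoot.root f ^ q ^ i) f = 0 := by
    intro i
    induction i with
    | zero => simp [AdjoinRoot.aeval_eq]
    | succ i ih =>
      rw [pow_succ q i, pow_mul, ← expand_aeval, FiniteField.expand_card, map_pow, ih, zero_pow Fintype.card_ne_zero]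
  have hf0 : f ≠ 0 := hirr.ne_zero
  have key : ∀ x ∈ Subgroup.normalizer (U : Set (Cfsg.Sz F m)), ∃ i : ℕ, x * h * x⁻¹ = h ^ q ^ i := by
    intro x hx
    have hxh : x * h * x⁻¹ ∈ U := (Subgroup.mem_normalizer_iff.1 hx h).1 hh
    obtain ⟨g, hg⟩ := torus_rep D hF hp hf ⟨_, hxh⟩
    have hr : aeval (ψ ⟨_, hxh⟩) f = 0 := by
      rw [hψ' _ g hg, ← AdjoinRoot.aeval_eq, ← aeval_comp, AdjoinRoot.aeval_eq, AdjoinRoot.mk_eq_zero,
        minpoly.dvd_iff, aeval_comp, hg]
      show aeval (x.1.1 * h.1.1 * (x⁻¹).1.1) f = 0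
      rw [aeval_conj_matrix (by
        have := congrArg (fun g : Cfsg.Sz F m => g.1.1) (inv_mul_cancel x)
        exact (Matrix.SpecialLinearGroup.coe_mul (x⁻¹).1 x.1).symm.trans this), minpoly.aeval, Matrix.mul_zero, Matrix.zero_mul]
    classical
    set S : Finset (AdjoinRoot f) := (Finset.range 4).image fun i => AdjoinRoot.root f ^ q ^ i with hS
    have hScard : S.card = 4 := by
      rw [hS, Finset.card_image_of_injOn, Finset.card_range]
      intro i hi j hj e
      simp only [Finset.coe_range, Set.mem_Iio] at hi hj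
      refine hinj i j hi hj ((hqpow i j).1 ?_)
      have e2 : ψ (⟨h, hh⟩ ^ q ^ i) = ψ (⟨h, hh⟩ ^ q ^ j) := by rw [map_pow, map_pow, hψh]; exact e
      exact congrArg Subtype.val (hψ e2)
    have hfm : (f.map (algebraMap F (AdjoinRoot f))) ≠ 0 := map_ne_zero hf0
    have hsub : S ⊆ (f.map (algebraMap F (AdjoinRoot f))).roots.toFinset := by
      intro y hy
      obtain ⟨i, -, rfl⟩ := Finset.mem_image.1 hy
      rw [Multiset.mem_toFinset, mem_roots hfm, IsRoot.def, eval_map_algebraMap, hroot]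
    have heq := Finset.eq_of_subset_of_card_le hsub (by
      refine (Multiset.toFinset_card_le _).trans ((card_roots' _).trans ?_)
      rw [natDegree_map, hdeg, hScard])
    have hmem : ψ ⟨_, hxh⟩ ∈ S := by
      rw [heq, Multiset.mem_toFinset, mem_roots hfm, IsRoot.def, eval_map_algebraMap, hr]
    obtain ⟨i, -, hi⟩ := Finset.mem_image.1 hmem
    refine ⟨i, ?_⟩
    have e2 : ψ ⟨_, hxh⟩ = ψ (⟨h, hh⟩ ^ q ^ i) := by rw [map_pow, hψh, hi]
    exact congrArg Subtype.val (hψ e2)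
  set N := Subgroup.normalizer (U : Set (Cfsg.Sz F m)) with hN
  let Qu : (ZMod p)ˣ := Units.mk0 (q : ZMod p) hq0
  have hval : ∀ i, ((Qu ^ i : (ZMod p)ˣ) : ZMod p) = (q : ZMod p) ^ i := fun i => by simp [Qu]
  choose i hi using key
  let χ : N →* (ZMod p)ˣ :=
    { toFun := fun x => Qu ^ i x.1 x.2
      map_one' := Units.ext (by
        rw [hval, Units.val_one, ← pow_zero (q : ZMod p), ← hqpow, pow_zero, pow_one, ← hi]
        simp)
      map_mul' := fun x y => Units.ext (by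
        rw [← pow_add, hval, hval, ← hqpow, ← hi]
        show x.1 * y.1 * h * (x.1 * y.1)⁻¹ = _
        rw [show x.1 * y.1 * h * (x.1 * y.1)⁻¹ = x.1 * (y.1 * h * y.1⁻¹) * x.1⁻¹ by group, hi y.1 y.2,
          ← conj_pow, hi x.1 x.2, ← pow_mul, pow_add]) }
  have hker : χ.ker = U.subgroupOf N := by
    ext x
    rw [MonoidHom.mem_ker, Subgroup.mem_subgroupOf, hUdef, mem_cent]
    show Qu ^ i x.1 x.2 = 1 ↔ _
    rw [Units.ext_iff, hval, Units.val_one, ← pow_zero (q : ZMod p), ← hqpow, pow_zero, pow_one, ← hi,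
      mul_inv_eq_iff_eq_mul]
    exact Iff.rfl
  have hQu : Qu ^ 4 = 1 := Units.ext (by rw [hval, hq4, Units.val_one])
  have hrange : χ.range ≤ Subgroup.zpowers Qu := by
    rintro _ ⟨x, rfl⟩
    exact pow_mem (Subgroup.mem_zpowers Qu) _
  refine ⟨Nat.card χ.range, (Subgroup.card_dvd_of_le hrange).trans (by rw [Nat.card_zpowers]; exact orderOf_dvd_of_pow_eq_one hQu), ?_⟩
  have h1 := Subgroup.card_mul_index χ.ker
  rw [Subgroup.index_ker, hker] at h1
  rw [← h1, mul_comm, Nat.card_congr (Subgroup.subgroupOfEquivOfLe (Subgroup.le_normalizer)).toEquiv]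

end Cfsg.Agent.Suzuki
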