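/-
The orders of the cyclic subgroups of the Suzuki groups acting freely on the ovoid.
-/
import Cfsg.Agent.Lib.Suzuki.Torus

set_option autoImplicit false

namespace Cfsg.Agent.Suzuki

open scoped Matrix Pointwise

variable {F : Type*} [Field F] [Fintype F] {m : ℕ} (D : Dat F m) (hF : Fintype.card F = 2 ^ (2 * m + 1))
include D hF

theorem card_sz' : Nat.card (Cfsg.Sz F m) =
    (Fintype.card F ^ 2 + 1) * (Fintype.card F ^ 2 * (Fintype.card F - 1)) := by
  rw [card_sz D hF]; ring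

theorem card_stab_point (a : Cfsg.suzukiOvoid F m) :
    Nat.card (MulAction.stabilizer (Cfsg.Sz F m) a) = Fintype.card F ^ 2 * (Fintype.card F - 1) := by
  haveI : MulAction.IsPretransitive (Cfsg.Sz F m) (Cfsg.suzukiOvoid F m) := ⟨fun a b => by
    obtain ⟨g, hg⟩ := transitive D a
    obtain ⟨k, hk⟩ := transitive D b
    exact ⟨k * g⁻¹, by rw [mul_smul, ← hg, inv_smul_smul, hk]⟩⟩
  have h := Subgroup.card_mul_index (MulAction.stabilizer (Cfsg.Sz F m) a)
  rw [MulAction.index_stabilizer_of_transitive, card_ovoid D hF, card_sz' D hF, mul_comm] at h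
  exact Nat.eq_of_mul_eq_mul_left (Nat.succ_pos _) h

theorem card_stab_pair {a b : Cfsg.suzukiOvoid F m} (hab : a ≠ b) :
    Nat.card {g : Cfsg.Sz F m // g • a = a ∧ g • b = b} = Fintype.card F - 1 := by
  classical
  obtain ⟨k, hka, hkb⟩ := exists_conj_pair D hab
  have h0 : ∀ u, gH D u • oP D 0 0 = oP D 0 0 := fun u => by rw [gH_oP]; simp
  rw [← Fintype.card_units, ← Nat.card_eq_fintype_card]
  symm
  refine Nat.card_eq_of_bijective (fun u => ⟨k⁻¹ * gH D u * k, ?_, ?_⟩) ⟨fun u v e => ?_, fun g => ?_⟩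
  · rw [mul_smul, mul_smul, hka, gH_oI, ← hka, inv_smul_smul]
  · rw [mul_smul, mul_smul, hkb, h0, ← hkb, inv_smul_smul]
  · have e1 := mul_left_cancel (mul_right_cancel (congrArg Subtype.val e))
    have e2 := congrArg (fun g : Cfsg.Sz F m => g.1.1 1 1) e1
    simp [gH, H_val, hVec] at e2
    exact Units.ext (D.θ.injective e2)
  · obtain ⟨u, hu⟩ := conj_pair D hF hka hkb g.2.1 g.2.2
    exact ⟨u, Subtype.ext (by
      show k⁻¹ * gH D u * k = g.1
      rw [← hu]; group)⟩

theorem two_mul_card_fpf :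
    2 * Nat.card {g : Cfsg.Sz F m // g ≠ 1 ∧ Fpf g} = Fintype.card F ^ 3 * (Fintype.card F - 1) ^ 2 := by
  classical
  haveI := Fintype.ofFinite (Cfsg.Sz F m)
  haveI := Fintype.ofFinite (Cfsg.suzukiOvoid F m)
  set q := Fintype.card F with hq
  let fx : Cfsg.Sz F m → Finset (Cfsg.suzukiOvoid F m) := fun g => Finset.univ.filter fun a => g • a = a
  have hN : (Finset.univ : Finset (Cfsg.suzukiOvoid F m)).card = q ^ 2 + 1 := by
    rw [Finset.card_univ, ← Nat.card_eq_fintype_card, card_ovoid D hF]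
  have h1 : ∑ g, (fx g).card = (q ^ 2 + 1) * (q ^ 2 * (q - 1)) := by
    simp only [fx, Finset.card_filter]
    rw [Finset.sum_comm, ← hN, ← smul_eq_mul, ← Finset.sum_const]
    refine Finset.sum_congr rfl fun a _ => ?_
    rw [← Finset.card_filter, ← Fintype.card_subtype, ← Nat.card_eq_fintype_card, ← card_stab_point D hF a]
    exact Nat.card_congr (Equiv.subtypeEquivRight fun g => MulAction.mem_stabilizer_iff.symm)
  have h2 : ∑ g, (fx g).offDiag.card = (q ^ 2 + 1) * q ^ 2 * (q - 1) := by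
    have e : ∀ g, (fx g).offDiag =
        (Finset.univ : Finset (Cfsg.suzukiOvoid F m)).offDiag.filter fun p => g • p.1 = p.1 ∧ g • p.2 = p.2 := by
      intro g
      ext ⟨a, b⟩
      simp [fx, Finset.mem_offDiag]
      tauto
    simp only [e, Finset.card_filter]
    rw [Finset.sum_comm]
    have hc : (Finset.univ : Finset (Cfsg.suzukiOvoid F m)).offDiag.card = (q ^ 2 + 1) * q ^ 2 := by
      rw [Finset.offDiag_card, hN, show (q ^ 2 + 1) * (q ^ 2 + 1) = (q ^ 2 + 1) * q ^ 2 + (q ^ 2 + 1) by ring,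
        Nat.add_sub_cancel]
    rw [← hc, ← smul_eq_mul, ← Finset.sum_const]
    refine Finset.sum_congr rfl fun p hp => ?_
    rw [← Finset.card_filter, ← Fintype.card_subtype, ← Nat.card_eq_fintype_card,
      ← card_stab_pair D hF (Finset.mem_offDiag.1 hp).2.2]
  have hle : ∀ g, g ≠ 1 → (fx g).card ≤ 2 := by
    intro g hg
    by_contra hlt
    obtain ⟨a, ha, b, hb, c, hc, hab, hac, hbc⟩ := Finset.two_lt_card.1 (Nat.not_le.1 hlt)
    simp only [fx, Finset.mem_filter, Finset.mem_univ, true_and] at ha hb hc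
    exact hg (three_fixed D hF g a b c hab hbc hac ha hb hc)
  have hone : (fx 1).card = q ^ 2 + 1 := by
    rw [← hN]; congr 1; ext; simp [fx]
  have key : ∀ g ∈ (Finset.univ : Finset (Cfsg.Sz F m)).erase 1,
      2 * (if Fpf g then 1 else 0 : ℤ) = 2 - 2 * ((fx g).card : ℤ) + ((fx g).offDiag.card : ℤ) := by
    intro g hg
    have hiff : Fpf g ↔ (fx g).card = 0 := by
      simp [Fpf, fx, Finset.card_eq_zero, Finset.filter_eq_empty_iff]
    have := hle g (Finset.ne_of_mem_erase hg)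
    rw [Finset.offDiag_card]
    interval_cases hc : (fx g).card <;> simp [hiff]
  have hsum := Finset.sum_congr rfl key
  rw [← Finset.mul_sum, Finset.sum_boole, Finset.sum_add_distrib, Finset.sum_sub_distrib, ← Finset.mul_sum,
    Finset.sum_erase_eq_sub (Finset.mem_univ _), Finset.sum_erase_eq_sub (Finset.mem_univ _),
    Finset.sum_erase_eq_sub (Finset.mem_univ _), ← Nat.cast_sum, ← Nat.cast_sum, h1, h2, hone, Finset.offDiag_card,
    hone, show (q ^ 2 + 1) * (q ^ 2 + 1) = (q ^ 2 + 1) * q ^ 2 + (q ^ 2 + 1) by ring, Nat.add_sub_cancel,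
    Finset.sum_const, Finset.card_univ, ← Nat.card_eq_fintype_card, card_sz' D hF, ← hq] at hsum
  have hset : ((Finset.univ : Finset (Cfsg.Sz F m)).erase 1).filter (fun g => Fpf g) =
      Finset.univ.filter (fun g => g ≠ 1 ∧ Fpf g) := by
    ext; simp
  rw [hset, ← Fintype.card_subtype, ← Nat.card_eq_fintype_card] at hsum
  have hq1 : 1 ≤ q := Fintype.card_pos
  have hgoal : (2 * Nat.card {g : Cfsg.Sz F m // g ≠ 1 ∧ Fpf g} : ℤ) = (q : ℤ) ^ 3 * ((q : ℤ) - 1) ^ 2 := by
    rw [nsmul_eq_mul] at hsum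
    push_cast [Nat.cast_sub hq1] at hsum ⊢
    rw [hsum]
    ring
  zify [hq1]
  exact_mod_cast hgoal

theorem fpf_of_orderOf {x : Cfsg.Sz F m} {p k : ℕ} (hp : p.Prime) (hd : p ∣ Fintype.card F ^ 2 + 1)
    (hx : orderOf x = p ^ k) (hx1 : x ≠ 1) : Fpf x := by
  have hk : k ≠ 0 := fun e => hx1 (orderOf_eq_one_iff.1 (by rw [hx, e, pow_zero]))
  have hn := not_dvd_pow_sub_one D hF hp hd
  have hpd : p ∣ orderOf x := by rw [hx]; exact dvd_pow_self p hk
  rcases fix_trichotomy x with h0 | h1 | h2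
  · exact h0
  · exact absurd ((Nat.prime_dvd_prime_iff_eq hp Nat.prime_two).1 (hp.dvd_of_dvd_pow
      (show p ∣ 2 ^ 2 from hpd.trans (orderOf_dvd_of_pow_eq_one (pow_four_of_oneFix D hF h1))))) hn.1
  · refine absurd (hpd.trans (orderOf_dvd_of_pow_eq_one (pow_card_sub_one_of_twoFix D hF h2))) ?_
    simpa using hn.2.2.2 1 one_pos (by norm_num)

/-- A Sylow subgroup for a prime divisor of `q² + 1` lies in a torus. -/
theorem sylow_le_torus {p : ℕ} [Fact p.Prime] (hd : p ∣ Fintype.card F ^ 2 + 1) (P : Sylow p (Cfsg.Sz F m)) :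
    ∃ U, IsTorus U ∧ (P : Subgroup (Cfsg.Sz F m)) ≤ U := by
  haveI : Nontrivial P := by
    refine (Subgroup.nontrivial_iff_ne_bot _).2 (Sylow.ne_bot_of_dvd_card P ?_)
    rw [card_sz' D hF]; exact hd.mul_right _
  haveI := P.2.center_nontrivial
  obtain ⟨⟨z, hz⟩, hz1⟩ := exists_ne (1 : Subgroup.center P)
  obtain ⟨k, hk⟩ := IsPGroup.iff_orderOf.1 P.2 z
  have hz1' : (z : Cfsg.Sz F m) ≠ 1 := fun e => hz1 (Subtype.ext (Subtype.ext e))
  obtain ⟨U, hU, hzU⟩ := exists_torus_mem D hF hz1'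
    (fpf_of_orderOf D hF Fact.out hd (by rw [orderOf_submonoid z, hk]) hz1')
  refine ⟨U, hU, fun c hc => ?_⟩
  rw [← hU.centralizer_eq D hF hzU hz1']
  exact mem_cent.2 (congrArg Subtype.val (Subgroup.mem_center_iff.1 hz ⟨c, hc⟩))

theorem IsTorus.prime_dvd {U : Subgroup (Cfsg.Sz F m)} (hU : IsTorus U) {p : ℕ} [Fact p.Prime] (hpU : p ∣ Nat.card U) :
    ∃ P : Sylow p (Cfsg.Sz F m), (P : Subgroup (Cfsg.Sz F m)) ≤ U := by
  obtain ⟨⟨x, hx⟩, hxo⟩ := exists_prime_orderOf_dvd_card' p hpU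
  rw [Subgroup.orderOf_mk] at hxo
  have hx1 : x ≠ 1 := fun e => (Fact.out : p.Prime).ne_one (by rw [← hxo, e, orderOf_one])
  have hp2 : IsPGroup p (Subgroup.zpowers x) := IsPGroup.of_card (n := 1) (by rw [Nat.card_zpowers, hxo, pow_one])
  obtain ⟨P, hP⟩ := hp2.exists_le_sylow
  obtain ⟨V, hV, hPV⟩ := sylow_le_torus D hF (hpU.trans (hU.card_dvd D hF)) P
  exact ⟨P, (hU.eq_of_mem D hF hV hx (hPV (hP (Subgroup.mem_zpowers x))) hx1) ▸ hPV⟩

theorem IsTorus.conj_of_dvd {U V : Subgroup (Cfsg.Sz F m)} (hU : IsTorus U) (hV : IsTorus V) {p : ℕ} [Fact p.Prime]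
    (hpU : p ∣ Nat.card U) (hpV : p ∣ Nat.card V) : ∃ k : Cfsg.Sz F m, MulAut.conj k • U = V := by
  obtain ⟨P, hP⟩ := hU.prime_dvd D hF hpU
  obtain ⟨R, hR⟩ := hV.prime_dvd D hF hpV
  obtain ⟨k, hk⟩ := MulAction.exists_smul_eq (Cfsg.Sz F m) P R
  refine ⟨k, ?_⟩
  haveI : Nontrivial R := (Subgroup.nontrivial_iff_ne_bot _).2 (Sylow.ne_bot_of_dvd_card R (by
    exact hpV.trans (Subgroup.card_subgroup_dvd_card V)))
  obtain ⟨⟨x, hx⟩, hx1⟩ := exists_ne (1 : R)
  refine (hU.smul k).eq_of_mem D hF hV ?_ (hR hx) (fun e => hx1 (Subtype.ext e))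
  have hle : (R : Subgroup (Cfsg.Sz F m)) ≤ MulAut.conj k • U := by
    rw [← hk]
    intro y hy
    rw [Sylow.smul_def, Sylow.pointwise_smul_def, Subgroup.mem_pointwise_smul_iff_inv_smul_mem] at hy
    rw [Subgroup.mem_pointwise_smul_iff_inv_smul_mem]
    exact hP hy
  exact hle hx

omit D hF in
theorem card_conj_smul (U : Subgroup (Cfsg.Sz F m)) (k : Cfsg.Sz F m) :
    Nat.card (MulAut.conj k • U : Subgroup (Cfsg.Sz F m)) = Nat.card U :=
  (Nat.card_congr (Subgroup.equivSMul (MulAut.conj k) U).toEquiv).symm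

omit D hF in
theorem card_conjugates (U : Subgroup (Cfsg.Sz F m)) :
    Nat.card {V : Subgroup (Cfsg.Sz F m) // ∃ k : Cfsg.Sz F m, MulAut.conj k • U = V} =
      (Subgroup.normalizer (U : Set (Cfsg.Sz F m))).index := by
  letI : MulAction (Cfsg.Sz F m) (Subgroup (Cfsg.Sz F m)) := MulAction.compHom _ MulAut.conj
  have h1 : MulAction.stabilizer (Cfsg.Sz F m) U = Subgroup.normalizer (U : Set (Cfsg.Sz F m)) := by
    ext k
    rw [MulAction.mem_stabilizer_iff, Subgroup.mem_normalizer_iff]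
    show MulAut.conj k • U = U ↔ _
    constructor
    · intro h n
      conv_rhs => rw [← h, Subgroup.mem_pointwise_smul_iff_inv_smul_mem, ← map_inv, MulAut.smul_def, MulAut.conj_apply]
      simp [mul_assoc]
    · intro h
      ext n
      rw [Subgroup.mem_pointwise_smul_iff_inv_smul_mem, ← map_inv, MulAut.smul_def, MulAut.conj_apply, inv_inv,
        h (k⁻¹ * n * k)]
      simp [mul_assoc]
  rw [← h1, MulAction.index_stabilizer]
  exact (Nat.card_coe_set_eq _)

/-- The counting: exactly two classes, with the expected orders. -/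
theorem exists_tori : ∀ k : ℕ, k = Fintype.card F + 2 ^ (m + 1) + 1 ∨ k = Fintype.card F - 2 ^ (m + 1) + 1 →
    ∃ U : Subgroup (Cfsg.Sz F m), IsTorus U ∧ Nat.card U = k ∧
      Nat.card (Subgroup.normalizer (U : Set (Cfsg.Sz F m))) = 4 * k := by
  classical
  haveI := Fintype.ofFinite (Cfsg.Sz F m)
  haveI := Fintype.ofFinite (Subgroup (Cfsg.Sz F m))
  set q := Fintype.card F with hq
  set G := Nat.card (Cfsg.Sz F m) with hG
  set n0 := Nat.card {g : Cfsg.Sz F m // g ≠ 1 ∧ Fpf g} with hn0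
  have hn0' : 2 * n0 = q ^ 3 * (q - 1) ^ 2 := two_mul_card_fpf D hF
  let T : Finset (Subgroup (Cfsg.Sz F m)) := Finset.univ.filter fun U => IsTorus U
  have hT : ∀ {U}, U ∈ T ↔ IsTorus U := fun {U} => by simp [T]
  let S : Finset ℕ := T.image fun U : Subgroup (Cfsg.Sz F m) => Nat.card U
  let a : ℕ → ℕ := fun n => (T.filter fun U : Subgroup (Cfsg.Sz F m) => Nat.card U = n).card
  have hsum : n0 = ∑ n ∈ S, a n * (n - 1) := by
    have e : (Finset.univ.filter fun g : Cfsg.Sz F m => g ≠ 1 ∧ Fpf g) =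
        T.biUnion fun U => Finset.univ.filter fun g => g ∈ U ∧ g ≠ 1 := by
      ext g
      simp only [Finset.mem_filter, Finset.mem_univ, true_and, Finset.mem_biUnion, hT]
      exact ⟨fun ⟨h1, h2⟩ => (exists_torus_mem D hF h1 h2).imp fun U hU => ⟨hU.1, hU.2, h1⟩,
        fun ⟨U, hU, hg, h1⟩ => ⟨h1, hU.fpf D hF hg h1⟩⟩
    rw [hn0, Nat.card_eq_fintype_card, Fintype.card_subtype, e, Finset.card_biUnion]
    · have e2 : ∀ U ∈ T, (Finset.univ.filter fun g : Cfsg.Sz F m => g ∈ U ∧ g ≠ 1).card = Nat.card U - 1 := by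
        intro U _
        rw [Nat.card_eq_fintype_card, Fintype.card_subtype, show (Finset.univ.filter fun g : Cfsg.Sz F m => g ∈ U ∧ g ≠ 1) =
          (Finset.univ.filter fun g => g ∈ U).erase 1 by ext; simp [and_comm], Finset.card_erase_of_mem (by simp)]
      rw [Finset.sum_congr rfl e2, ← Finset.sum_fiberwise_of_maps_to (t := S) (g := fun U : Subgroup (Cfsg.Sz F m) => Nat.card U)
        (fun U hU => Finset.mem_image_of_mem _ hU)]
      refine Finset.sum_congr rfl fun n _ => ?_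
      rw [Finset.sum_congr rfl (g := fun _ => n - 1) (fun U hU => by rw [(Finset.mem_filter.1 hU).2]),
        Finset.sum_const, smul_eq_mul]
    · intro U hU V hV hne
      simp only [Function.onFun, Finset.disjoint_left, Finset.mem_filter, Finset.mem_univ, true_and]
      exact fun g hg hg' => hne ((hT.1 hU).eq_of_mem D hF (hT.1 hV) hg.1 hg'.1 hg.2)
  have hconj : ∀ U V : Subgroup (Cfsg.Sz F m), IsTorus U → IsTorus V → ¬ Nat.Coprime (Nat.card U) (Nat.card V) →
      ∃ k : Cfsg.Sz F m, MulAut.conj k • U = V := by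
    intro U V hU hV h
    obtain ⟨p, hp, h1, h2⟩ := Nat.Prime.not_coprime_iff_dvd.1 h
    haveI := Fact.mk hp
    exact hU.conj_of_dvd D hF hV h1 h2
  have hdvd : ∀ n ∈ S, n ∣ q ^ 2 + 1 ∧ 5 ≤ n := by
    intro n hn
    obtain ⟨U, hU, rfl⟩ := Finset.mem_image.1 hn
    have hd := (hT.1 hU).card_dvd D hF
    refine ⟨hd, ?_⟩
    have h1 := (hT.1 hU).one_lt
    obtain ⟨p, hp, hpd⟩ := Nat.exists_prime_and_dvd (show Nat.card U ≠ 1 by omega)
    have hn3 := not_dvd_pow_sub_one D hF hp (hpd.trans hd)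
    have := Nat.le_of_dvd (by omega) hpd
    have h4 : p ≠ 4 := fun e => by rw [e] at hp; exact absurd hp (by norm_num)
    have := hp.two_le
    omega
  have ha : ∀ n ∈ S, ∃ w, w ∣ 4 ∧ w * n * a n = G ∧
      ∀ U : Subgroup (Cfsg.Sz F m), IsTorus U → Nat.card U = n → Nat.card (Subgroup.normalizer (U : Set (Cfsg.Sz F m))) = w * n := by
    intro n hn
    obtain ⟨U, hU, rfl⟩ := Finset.mem_image.1 hn
    obtain ⟨w, hw, hN⟩ := (hT.1 hU).exists_index_eq D hF
    have hcl : ∀ V : Subgroup (Cfsg.Sz F m), IsTorus V ∧ Nat.card V = Nat.card U ↔ ∃ k : Cfsg.Sz F m, MulAut.conj k • U = V := by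
      intro V
      refine ⟨fun ⟨hV, e⟩ => hconj U V (hT.1 hU) hV ?_, ?_⟩
      · rw [e, Nat.coprime_self]; exact (hT.1 hU).one_lt.ne'
      · rintro ⟨k, rfl⟩
        exact ⟨(hT.1 hU).smul k, card_conj_smul U k⟩
    have hidx : a (Nat.card U) = (Subgroup.normalizer (U : Set (Cfsg.Sz F m))).index := by
      rw [← card_conjugates]
      simp only [a, T, Finset.filter_filter, hcl]
      rw [Nat.card_eq_fintype_card, Fintype.card_subtype]
    refine ⟨w, hw, ?_, fun V hV e => ?_⟩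
    · rw [hidx, ← hN, hG, Subgroup.card_mul_index]
    · obtain ⟨k, rfl⟩ := (hcl V).1 ⟨hV, e⟩
      rw [← hN]
      refine Nat.eq_of_mul_eq_mul_right (Nat.pos_of_ne_zero Subgroup.index_ne_zero_of_finite :
        0 < (Subgroup.normalizer (U : Set (Cfsg.Sz F m))).index) ?_
      have e2 : (Subgroup.normalizer ((MulAut.conj k • U : Subgroup (Cfsg.Sz F m)) : Set (Cfsg.Sz F m))).index =
          (Subgroup.normalizer (U : Set (Cfsg.Sz F m))).index := by
        rw [← card_conjugates, ← card_conjugates]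
        refine Nat.card_congr (Equiv.subtypeEquivRight fun W => ⟨?_, ?_⟩)
        · rintro ⟨l, rfl⟩
          exact ⟨l * k, by rw [map_mul, mul_smul]⟩
        · rintro ⟨l, rfl⟩
          exact ⟨l * k⁻¹, by rw [map_mul, mul_smul, map_inv, inv_smul_smul]⟩
      rw [Subgroup.card_mul_index, ← e2, Subgroup.card_mul_index]
  have hpair : (S : Set ℕ).Pairwise Nat.Coprime := by
    intro n hn n' hn' hne
    obtain ⟨U, hU, rfl⟩ := Finset.mem_image.1 hn
    obtain ⟨V, hV, rfl⟩ := Finset.mem_image.1 hn'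
    by_contra h
    obtain ⟨k, rfl⟩ := hconj U V (hT.1 hU) (hT.1 hV) h
    exact hne (card_conj_smul U k).symm
  have hprod : ∏ n ∈ S, n = q ^ 2 + 1 := by
    refine Nat.dvd_antisymm (Finset.prod_dvd_of_isRelPrime (fun x hx y hy hne =>
      Nat.coprime_iff_isRelPrime.1 (hpair hx hy hne)) fun n hn => (hdvd n hn).1) ?_
    rw [Nat.dvd_iff_prime_pow_dvd_dvd]
    intro p e hp hpe
    rcases Nat.eq_zero_or_pos e with rfl | he
    · simp
    haveI := Fact.mk hp
    obtain ⟨P⟩ := (inferInstance : Nonempty (Sylow p (Cfsg.Sz F m)))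
    obtain ⟨U, hU, hPU⟩ := sylow_le_torus D hF ((dvd_pow_self p he.ne').trans hpe) P
    have hpP : p ^ e ∣ Nat.card P := by
      rw [P.card_eq_multiplicity]
      refine pow_dvd_pow p ((hp.pow_dvd_iff_le_factorization Nat.card_pos.ne').1 ?_)
      rw [card_sz' D hF]; exact hpe.mul_right _
    exact (hpP.trans (Subgroup.card_dvd_of_le hPU)).trans
      (Finset.dvd_prod_of_mem (fun n => n) (Finset.mem_image_of_mem _ (hT.2 hU)))
  have hq8 : 8 ≤ q := by
    rw [hF]
    calc 8 = 2 ^ 3 := rfl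
      _ ≤ _ := Nat.pow_le_pow_right (by norm_num) (by have := D.one_le; omega)
  have hG' : G = (q ^ 2 + 1) * (q ^ 2 * (q - 1)) := card_sz' D hF
  have hlt : 2 * n0 < G := by
    rw [hn0', hG', show q ^ 3 * (q - 1) ^ 2 = q * (q - 1) * (q ^ 2 * (q - 1)) by ring]
    refine Nat.mul_lt_mul_of_pos_right ?_ (Nat.mul_pos (by positivity) (by omega))
    calc q * (q - 1) ≤ q * q := Nat.mul_le_mul_left q (Nat.sub_le _ _)
      _ < q ^ 2 + 1 := by rw [sq]; omega
  choose w hw4 hwG hwN using ha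
  have hterm : ∀ n (hn : n ∈ S), G ≤ 5 * (a n * (n - 1)) ∧ (w n hn ≠ 4 → 2 * G ≤ 5 * (a n * (n - 1))) := by
    intro n hn
    have h5 := (hdvd n hn).2
    have e : 4 * (a n * n) ≤ 5 * (a n * (n - 1)) := by
      calc 4 * (a n * n) = a n * (4 * n) := by ring
        _ ≤ a n * (5 * (n - 1)) := Nat.mul_le_mul_left _ (by omega)
        _ = _ := by ring
    have hw : w n hn ≤ 4 := Nat.le_of_dvd (by norm_num) (hw4 n hn)
    have eG : G = w n hn * (a n * n) := by rw [← hwG n hn]; ring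
    refine ⟨le_trans ?_ e, fun h4 => le_trans ?_ e⟩
    · rw [eG]; exact Nat.mul_le_mul_right _ hw
    · rw [eG, ← mul_assoc]
      refine Nat.mul_le_mul_right _ ?_
      obtain ⟨j, hj⟩ := hw4 n hn
      rcases Nat.lt_or_ge (w n hn) 3 with h | h
      · omega
      · interval_cases h' : w n hn
        · omega
        · exact absurd rfl h4
  have hS : S.card ≤ 2 := by
    by_contra h
    have : 3 * G ≤ 5 * n0 := by
      rw [hsum, Finset.mul_sum]
      refine le_trans ?_ (Finset.card_nsmul_le_sum S _ G fun n hn => (hterm n hn).1)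
      rw [smul_eq_mul]
      exact Nat.mul_le_mul_right _ (by omega)
    omega
  have hq2 : 2 * q = (2 ^ (m + 1)) ^ 2 := by rw [hF]; ring
  rcases Nat.lt_or_ge S.card 1 with h0 | h1
  · rw [Finset.card_eq_zero.1 (by omega : S.card = 0), Finset.prod_empty] at hprod
    nlinarith
  rcases Nat.lt_or_ge S.card 2 with h1' | h2
  · exfalso
    obtain ⟨n, hn⟩ := Finset.card_eq_one.1 (by omega : S.card = 1)
    rw [hn, Finset.prod_singleton] at hprod
    rw [hn, Finset.sum_singleton] at hsum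
    have hnS : n ∈ S := by rw [hn]; exact Finset.mem_singleton_self n
    have e := hwG n hnS
    set ww := w n hnS with hww
    rw [hsum] at hn0'
    subst hprod
    rw [Nat.add_sub_cancel] at hn0'
    rw [hG', mul_comm ww, mul_assoc] at e
    have e' : ww * a (q ^ 2 + 1) = q ^ 2 * (q - 1) := Nat.eq_of_mul_eq_mul_left (Nat.succ_pos (q ^ 2)) e
    have e2 : 2 * q * (q ^ 3 * (q - 1)) = ww * (q - 1) * (q ^ 3 * (q - 1)) := by
      calc 2 * q * (q ^ 3 * (q - 1)) = 2 * (q ^ 2 * (q - 1)) * q ^ 2 := by ring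
        _ = ww * (2 * (a (q ^ 2 + 1) * q ^ 2)) := by rw [← e']; ring
        _ = _ := by rw [hn0']; ring
    have e3 := Nat.eq_of_mul_eq_mul_right (Nat.mul_pos (by positivity) (by omega)) e2
    have hw : ww ≤ 4 := Nat.le_of_dvd (by norm_num) (hw4 _ hnS)
    interval_cases ww <;> omega
  obtain ⟨A, B, hAB, hn⟩ := Finset.card_eq_two.1 (by omega : S.card = 2)
  rw [hn, Finset.prod_pair hAB] at hprod
  rw [hn, Finset.sum_pair hAB] at hsum
  have hA : A ∈ S := by rw [hn]; simp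
  have hB : B ∈ S := by rw [hn]; simp
  have hwA : w A hA = 4 := by
    by_contra h
    have := (hterm A hA).2 h
    have := (hterm B hB).1
    omega
  have hwB : w B hB = 4 := by
    by_contra h
    have := (hterm B hB).2 h
    have := (hterm A hA).1
    omega
  have eA := hwG A hA
  have eB := hwG B hB
  rw [hwA, hG'] at eA
  rw [hwB, hG'] at eB
  have h5A := (hdvd A hA).2
  have h5B := (hdvd B hB).2
  have hr : 2 ^ (m + 1) ≤ q := by
    have := D.card_big hF
    omega
  have key : (A = q + 2 ^ (m + 1) + 1 ∧ B = q - 2 ^ (m + 1) + 1) ∨ (B = q + 2 ^ (m + 1) + 1 ∧ A = q - 2 ^ (m + 1) + 1) := by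
    rw [← hprod] at eA eB
    have eA' : (4 * a A : ℤ) = B * (q ^ 2 * ((q : ℤ) - 1)) := by
      have e : 4 * a A = B * (q ^ 2 * (q - 1)) := Nat.eq_of_mul_eq_mul_left (by omega : 0 < A) (by linarith)
      zify [show 1 ≤ q by omega] at e
      exact e
    have eB' : (4 * a B : ℤ) = A * (q ^ 2 * ((q : ℤ) - 1)) := by
      have e : 4 * a B = A * (q ^ 2 * (q - 1)) := Nat.eq_of_mul_eq_mul_left (by omega : 0 < B) (by linarith)
      zify [show 1 ≤ q by omega] at e
      exact e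
    rw [hsum] at hn0'
    zify [show 1 ≤ q by omega, show 1 ≤ A by omega, show 1 ≤ B by omega] at hn0' hprod
    have hsumAB : (A : ℤ) + B = 2 * q + 2 := by
      have h9 : ((A : ℤ) + B - 2 * q - 2) * ((q : ℤ) ^ 2 * ((q : ℤ) - 1)) = 0 := by
        linear_combination (-2 : ℤ) * hn0' + ((A : ℤ) - 1) * eA' + ((B : ℤ) - 1) * eB' +
          2 * ((q : ℤ) ^ 2 * ((q : ℤ) - 1)) * hprod
      rcases mul_eq_zero.1 h9 with h | h
      · linarith
      · exfalso
        rcases mul_eq_zero.1 h with h' | h'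
        · have := pow_eq_zero_iff two_ne_zero |>.1 h'
          omega
        · omega
    have hr2 : ((A : ℤ) - q - 1 - (2 ^ (m + 1) : ℕ)) * ((A : ℤ) - q - 1 + (2 ^ (m + 1) : ℕ)) = 0 := by
      have : ((2 * q : ℕ) : ℤ) = (((2 ^ (m + 1)) ^ 2 : ℕ) : ℤ) := by rw [hq2]
      simp only [Nat.cast_mul, Nat.cast_pow] at this ⊢
      push_cast at this ⊢
      linear_combination (A : ℤ) * hsumAB - hprod + this
    generalize 2 ^ (m + 1) = r at hr hr2 ⊢
    rcases mul_eq_zero.1 hr2 with h | h <;> [left; right] <;> omega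
  intro k hk
  have : k = A ∨ k = B := by omega
  rcases this with rfl | rfl
  · obtain ⟨U, hU, hc⟩ := Finset.mem_image.1 hA
    exact ⟨U, hT.1 hU, hc, by rw [hwN k hA U (hT.1 hU) hc, hwA]⟩
  · obtain ⟨U, hU, hc⟩ := Finset.mem_image.1 hB
    exact ⟨U, hT.1 hU, hc, by rw [hwN k hB U (hT.1 hU) hc, hwB]⟩

end Cfsg.Agent.Suzuki
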