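/-
The automorphism group of a Sylow 2-subgroup of a Suzuki group.
-/
import Cfsg.Agent.Lib.Suzuki.Sylow
import Cfsg.Agent.Lib.Components.Fitting

set_option autoImplicit false

namespace Cfsg.Agent.Suzuki

open scoped Matrix

variable {F : Type*} [Field F] [Fintype F] {m : ℕ} (D : Dat F m)

/-- The powers of Frobenius, indexed modulo the degree. -/
def fr (i : ZMod (2 * m + 1)) (x : F) : F := x ^ 2 ^ i.val

/-- The exponent of `θ`. -/
def sθ : ZMod (2 * m + 1) := ((m + 1 : ℕ) : ZMod (2 * m + 1))

variable (hF : Fintype.card F = 2 ^ (2 * m + 1))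
include hF

theorem fr_mod (i : ℕ) (x : F) : x ^ 2 ^ i = fr (i : ZMod (2 * m + 1)) x := by
  have h : ∀ j : ℕ, x ^ 2 ^ ((2 * m + 1) * j) = x := by
    intro j
    induction j with
    | zero => simp
    | succ j ih => rw [Nat.mul_succ, pow_add, pow_mul, ih, ← hF, FiniteField.pow_card]
  rw [fr, ZMod.val_natCast]
  conv_lhs => rw [← Nat.div_add_mod i (2 * m + 1), pow_add, pow_mul, h]

theorem fr_fr (i j : ZMod (2 * m + 1)) (x : F) : fr i (fr j x) = fr (i + j) x := by
  conv_rhs => rw [← ZMod.natCast_zmod_val i, ← ZMod.natCast_zmod_val j, ← Nat.cast_add, ← fr_mod hF]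
  rw [fr, fr, ← pow_mul, ← pow_add, Nat.add_comm]

include D

theorem theta_fr (x : F) : D.θ x = fr (sθ (m := m)) x := by rw [D.pow, fr_mod hF]; rfl

omit hF in
theorem fr_add (i : ZMod (2 * m + 1)) (x y : F) : fr i (x + y) = fr i x + fr i y := by
  haveI := D.char2
  rw [fr, fr, fr, add_pow_char_pow]

omit hF in
theorem fr_mul (i : ZMod (2 * m + 1)) (x y : F) : fr i (x * y) = fr i x * fr i y := by rw [fr, fr, fr, mul_pow]

omit D in
theorem fr_zero' (x : F) : fr (0 : ZMod (2 * m + 1)) x = x := by rw [fr]; simp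

theorem fr_inj {i j : ZMod (2 * m + 1)} (h : ∀ x : F, fr i x = fr j x) : i = j := by
  classical
  by_contra hne
  have hv : i.val ≠ j.val := fun e => hne (ZMod.val_injective _ e)
  have hlt : ∀ k : ZMod (2 * m + 1), 2 ^ k.val < Fintype.card F := fun k => by
    rw [hF]; exact Nat.pow_lt_pow_right (by norm_num) (ZMod.val_lt k)
  obtain ⟨g, hg⟩ := IsCyclic.exists_generator (α := Fˣ)
  have hord : orderOf g = Fintype.card F - 1 := by
    rw [orderOf_eq_card_of_forall_mem_zpowers hg, Nat.card_eq_fintype_card, Fintype.card_units]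
  have h' : g ^ 2 ^ i.val = g ^ 2 ^ j.val := Units.ext (by push_cast; exact h g)
  rw [pow_eq_pow_iff_modEq, hord] at h'
  have hne' : 2 ^ i.val ≠ 2 ^ j.val := fun e => hv (Nat.pow_right_injective le_rfl e)
  have hsmall : ∀ k : ZMod (2 * m + 1), 2 ^ k.val < Fintype.card F - 1 := by
    intro k
    have h1 := ZMod.val_lt k
    have h2 : 2 ^ k.val * 2 ≤ Fintype.card F := by
      rw [hF, ← pow_succ]; exact Nat.pow_le_pow_right (by norm_num) (by omega)
    have h3 := D.card_big hF
    have h4 := Nat.one_le_two_pow (n := k.val)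
    have h5 := Nat.one_le_two_pow (n := m)
    omega
  exact hne' (Nat.ModEq.eq_of_lt_of_lt h' (hsmall i) (hsmall j))

theorem fr_indep {c : ZMod (2 * m + 1) → F} (h : ∀ x : F, ∑ i, c i * fr i x = 0) : c = 0 := by
  let φ : ZMod (2 * m + 1) → (F →* F) := fun i =>
    { toFun := fr i
      map_one' := one_pow _
      map_mul' := fr_mul D i }
  have hinj : Function.Injective φ := fun i j e => fr_inj D hF fun x => DFunLike.congr_fun e x
  have hli := (linearIndependent_monoidHom F F).comp φ hinj
  rw [Fintype.linearIndependent_iff] at hli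
  funext i
  refine hli c (funext fun x => ?_) i
  rw [Finset.sum_apply]
  exact h x

omit D in
theorem card_addHom [CharP F 2] : Nat.card (F →+ F) = 2 ^ ((2 * m + 1) ^ 2) := by
  haveI := Fact.mk Nat.prime_two
  letI : Algebra (ZMod 2) F := ZMod.algebra F 2
  have hfr : Module.finrank (ZMod 2) F = 2 * m + 1 := by
    have h1 := Module.natCard_eq_pow_finrank (K := ZMod 2) (V := F)
    rw [Nat.card_eq_fintype_card, hF, Nat.card_zmod] at h1
    exact (Nat.pow_right_injective le_rfl h1).symm
  haveI : Finite (F →ₗ[ZMod 2] F) := Finite.of_injective (fun f => (f : F → F)) DFunLike.coe_injective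
  rw [Nat.card_congr (AddMonoidHom.toZModLinearMapEquiv 2 (M := F) (M₁ := F)).toEquiv,
    Module.natCard_eq_pow_finrank (K := ZMod 2), Nat.card_zmod, Module.finrank_linearMap, hfr, sq]

theorem exists_coeff (f : F →+ F) : ∃ c : ZMod (2 * m + 1) → F, ∀ x, f x = ∑ i, c i * fr i x := by
  haveI := D.char2
  haveI : Finite (F →+ F) := Finite.of_injective (fun f => (f : F → F)) DFunLike.coe_injective
  let T : (ZMod (2 * m + 1) → F) → (F →+ F) := fun c =>
    AddMonoidHom.mk' (fun x => ∑ i, c i * fr i x) fun x y => by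
      simp only [fr_add D, mul_add, Finset.sum_add_distrib]
  have hT : Function.Injective T := by
    intro c c' e
    have h : c - c' = 0 := fr_indep D hF fun x => by
      have := DFunLike.congr_fun e x
      simp only [T, AddMonoidHom.mk'_apply] at this
      simp only [Pi.sub_apply, sub_mul, Finset.sum_sub_distrib, this, sub_self]
    exact sub_eq_zero.1 h
  have hcard : Nat.card (ZMod (2 * m + 1) → F) = Nat.card (F →+ F) := by
    rw [card_addHom hF, Nat.card_fun, Nat.card_zmod, Nat.card_eq_fintype_card, hF, ← pow_mul, sq]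
  obtain ⟨c, hc⟩ := (Function.Injective.bijective_of_nat_card_le hT hcard.ge).2 f
  exact ⟨c, fun x => (DFunLike.congr_fun hc x).symm⟩

theorem sθ_ne : (sθ (m := m)) ≠ 0 ∧ (sθ (m := m)) + sθ (m := m) = 1 ∧ (2 : ZMod (2 * m + 1)) ≠ 0 := by
  have hm := D.one_le
  have h1 : (sθ (m := m)) + sθ (m := m) = 1 := by
    rw [sθ, ← Nat.cast_add, show m + 1 + (m + 1) = 2 * m + 1 + 1 by ring, Nat.cast_add, ZMod.natCast_self,
      Nat.cast_one, zero_add]
  haveI : Fact (1 < 2 * m + 1) := ⟨by omega⟩
  refine ⟨fun h => ?_, h1, fun h => ?_⟩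
  · rw [h, add_zero] at h1; exact zero_ne_one h1
  · have h' : ((2 : ℕ) : ZMod (2 * m + 1)) = 0 := by exact_mod_cast h
    rw [ZMod.natCast_eq_zero_iff] at h'
    have := Nat.le_of_dvd (by norm_num) h'
    omega

/-- An additive bijection commuting with the squaring map of `Q` is semilinear. -/
theorem semilinear (L M : F →+ F) (hL : Function.Injective L) (hLM : ∀ x, M (D.θ x * x) = D.θ (L x) * L x)
    (hB : ∀ x y, M (D.θ x * y + D.θ y * x) = D.θ (L x) * L y + D.θ (L y) * L x) :
    ∃ (a : ZMod (2 * m + 1)) (l : F), l ≠ 0 ∧ ∀ x, L x = l * fr a x := by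
  classical
  haveI := D.char2
  obtain ⟨hs0, hs1, h20⟩ := sθ_ne D hF
  set s : ZMod (2 * m + 1) := sθ (m := m) with hs
  obtain ⟨c, hc⟩ := exists_coeff D hF L
  obtain ⟨d, hd⟩ := exists_coeff D hF M
  let e : ZMod (2 * m + 1) → F := fun p => fr s (c (p - s))
  have hθL : ∀ x, D.θ (L x) = ∑ p, e p * fr p x := by
    intro x
    rw [hc, map_sum, ← Equiv.sum_comp (Equiv.addRight s) fun p => e p * fr p x]
    refine Finset.sum_congr rfl fun i _ => ?_
    simp only [Equiv.coe_addRight, e, add_sub_cancel_right]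
    rw [map_mul, theta_fr D hF, theta_fr D hF, fr_fr hF, add_comm]
  let f : ZMod (2 * m + 1) → ZMod (2 * m + 1) → F := fun p q => e p * c q - (if p = q + s then d q else 0)
  -- the two expansions
  have hprod : ∀ x y, D.θ (L x) * L y - ∑ q, d q * (fr (q + s) x * fr q y) =
      ∑ p, ∑ q, f p q * (fr p x * fr q y) := by
    intro x y
    simp only [f, sub_mul, Finset.sum_sub_distrib, ite_mul, zero_mul]
    rw [hθL, hc, Finset.sum_mul_sum]
    congr 1
    · exact Finset.sum_congr rfl fun p _ => Finset.sum_congr rfl fun q _ => by ring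
    · rw [Finset.sum_comm]
      refine Finset.sum_congr rfl fun q _ => ?_
      rw [Finset.sum_ite_eq' Finset.univ (q + s), if_pos (Finset.mem_univ _)]
  have hMexp : ∀ x y, M (D.θ x * y) = ∑ q, d q * (fr (q + s) x * fr q y) := by
    intro x y
    rw [hd]
    refine Finset.sum_congr rfl fun q _ => ?_
    rw [fr_mul D, theta_fr D hF, fr_fr hF]
  have hsymm : ∀ p q, f p q + f q p = 0 := by
    intro p₀ q₀
    have h0 : ∀ x y, ∑ p, ∑ q, (f p q + f q p) * (fr p x * fr q y) = 0 := by
      intro x y
      simp only [add_mul, Finset.sum_add_distrib]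
      conv_lhs => arg 2; rw [Finset.sum_comm]
      rw [show (∑ q, ∑ p, f q p * (fr p x * fr q y)) = ∑ q, ∑ p, f q p * (fr q y * fr p x) from
        Finset.sum_congr rfl fun q _ => Finset.sum_congr rfl fun p _ => by ring, ← hprod, ← hprod, ← hMexp, ← hMexp,
        sub_add_sub_comm, ← map_add, hB, sub_self]
    have h1 : ∀ y, (fun p => ∑ q, (f p q + f q p) * fr q y) = 0 := fun y => fr_indep D hF fun x => by
      rw [← h0 x y]
      refine Finset.sum_congr rfl fun p _ => ?_
      rw [Finset.sum_mul]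
      exact Finset.sum_congr rfl fun q _ => by ring
    have h2 : (fun q => f p₀ q + f q p₀) = 0 := fr_indep D hF fun y => congrFun (h1 y) p₀
    exact congrFun h2 q₀
  have hdiag : ∀ p, e p * c p = 0 := by
    have h0 : ∀ x, ∑ p, ∑ q, f p q * (fr p x * fr q x) = 0 := by
      intro x
      rw [← hprod, ← hMexp, hLM, sub_self]
    have h1 : ∀ x, ∑ p, f p p * fr (p + 1) x = 0 := by
      intro x
      rw [← h0 x, ← Finset.sum_product']
      rw [← Finset.sum_filter_add_sum_filter_not (Finset.univ ×ˢ Finset.univ) (fun pq => pq.1 = pq.2)]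
      have hoff : (∑ pq ∈ (Finset.univ ×ˢ Finset.univ).filter (fun pq : ZMod (2 * m + 1) × ZMod (2 * m + 1) => ¬ pq.1 = pq.2),
          f pq.1 pq.2 * (fr pq.1 x * fr pq.2 x)) = 0 := by
        refine Finset.sum_involution (fun pq _ => (pq.2, pq.1)) (fun pq _ => ?_) (fun pq hpq _ h => ?_)
          (fun pq hpq => ?_) (fun pq _ => rfl)
        · have := hsymm pq.1 pq.2
          linear_combination (fr pq.1 x * fr pq.2 x) * this
        · exact (Finset.mem_filter.1 hpq).2 (congrArg Prod.snd h)
        · simp only [Finset.mem_filter, Finset.mem_product, Finset.mem_univ, and_self, true_and] at hpq ⊢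
          exact Ne.symm hpq
      rw [hoff, add_zero]
      refine Finset.sum_bij (fun p _ => (p, p)) (fun p _ => by simp) (fun p _ q _ h => congrArg Prod.fst h)
        (fun pq hpq => ⟨pq.1, Finset.mem_univ _, Prod.ext rfl (Finset.mem_filter.1 hpq).2⟩) (fun p _ => ?_)
      have h1' : fr p x * fr p x = fr (p + 1) x := by
        rw [add_comm p 1, ← fr_fr hF]
        haveI : Fact (1 < 2 * m + 1) := ⟨by have := D.one_le; omega⟩
        rw [fr.eq_def (1 : ZMod (2 * m + 1)), ZMod.val_one, pow_one, pow_two]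
      rw [h1']
    have h2 : (fun p => f (p - 1) (p - 1)) = 0 := fr_indep D hF fun x => by
      rw [← h1 x, ← Equiv.sum_comp (Equiv.addRight (1 : ZMod (2 * m + 1))) fun p => f (p - 1) (p - 1) * fr p x]
      simp
    intro p
    have := congrFun h2 (p + 1)
    simp only [add_sub_cancel_right, Pi.zero_apply, f, if_neg (fun h : p = p + s => hs0 (by simpa using h)), sub_zero] at this
    exact this
  have key : ∀ a b, c a ≠ 0 → c b ≠ 0 → b ≠ a → b = a + 1 := by
    intro a b ha hb hba
    by_contra hb1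
    have he : e (a + s) ≠ 0 := by
      intro h
      simp only [e, add_sub_cancel_right] at h
      exact ha (pow_eq_zero_iff (pow_ne_zero _ two_ne_zero) |>.1 h)
    have hc0 : c (a + s) = 0 := (mul_eq_zero.1 (hdiag (a + s))).resolve_left he
    have h := hsymm (a + s) b
    simp only [f] at h
    rw [if_neg (fun e' : a + s = b + s => hba (add_right_cancel e').symm),
      if_neg (fun e' : b = a + s + s => hb1 (by rw [e', add_assoc, hs1])), hc0, mul_zero, sub_zero, sub_zero,
      add_zero] at h
    exact mul_ne_zero he hb h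
  obtain ⟨a, ha⟩ : ∃ a, c a ≠ 0 := by
    by_contra h
    push_neg at h
    have h1 : L 1 = 0 := by rw [hc]; simp [h]
    exact one_ne_zero (hL (h1.trans L.map_zero.symm))
  refine ⟨a, c a, ha, fun x => ?_⟩
  rw [hc, Finset.sum_eq_single a (fun b _ hb => ?_) (fun h => absurd (Finset.mem_univ a) h)]
  by_cases hcb : c b = 0
  · rw [hcb, zero_mul]
  · exfalso
    have h1 := key a b ha hcb hb
    have h2 := key b a hcb ha (Ne.symm hb)
    exact h20 (by linear_combination (-1 : ZMod (2 * m + 1)) * h1 - h2)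

end Cfsg.Agent.Suzuki
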