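/-
Order and 2-core of the automorphism group of a Sylow 2-subgroup of a Suzuki group.
-/
import Cfsg.Agent.Lib.Suzuki.AutQ

set_option autoImplicit false

namespace Cfsg.Agent.Suzuki

open scoped Matrix

variable {F : Type*} [Field F] [Fintype F] {m : ℕ} (D : Dat F m)

/-- The first coordinate. -/
def qA (x : Q D) : F := x.1.1.1 0 1

/-- The second coordinate. -/
def qB (x : Q D) : F := x.1.1.1 1 3

variable (hF : Fintype.card F = 2 ^ (2 * m + 1))
include D hF

omit hF in
theorem qA_qT (a b : F) : qA D (qT D a b) = a := by simp [qA, qT, gT, T_val, tMat]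

omit hF in
theorem qB_qT (a b : F) : qB D (qT D a b) = b := by simp [qB, qT, gT, T_val, tMat]

omit hF in
theorem qT_coords (x : Q D) : qT D (qA D x) (qB D x) = x := by
  obtain ⟨a, b, rfl⟩ := qT_surj D x
  rw [qA_qT, qB_qT]

omit hF in
theorem qA_mul (x y : Q D) : qA D (x * y) = qA D x + qA D y := by
  rw [← qT_coords D x, ← qT_coords D y, qT_mul, qA_qT, qA_qT, qA_qT]

theorem squares_surjective : Function.Surjective (fun c : F => D.θ c * c) := by
  refine Finite.injective_iff_surjective.1 fun c d h => ?_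
  change D.θ c * c = D.θ d * d at h
  by_cases hd : d = 0
  · subst hd
    simpa [D.theta_eq_zero] using h
  · refine (div_eq_one_iff_eq hd).1 (scale_eq_one D hF ?_ ?_)
    · refine div_ne_zero (fun hc => hd ?_) hd
      subst hc
      simpa [D.theta_eq_zero, eq_comm] using h
    · rw [map_div₀, div_mul_div_comm, h, div_self (mul_ne_zero ((map_ne_zero D.θ).2 hd) hd)]

/-- The data of an automorphism. -/
theorem aut_data (α : MulAut (Q D)) : ∃ (L M : F →+ F) (c : F → F),
    Function.Injective L ∧ (∀ a b, α (qT D a b) = qT D (L a) (c a + M b)) ∧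
    ∀ x y, M (D.θ x * y) + c (x + y) = c x + c y + D.θ (L x) * L y := by
  have hcen : ∀ b, ∃ b', α (qT D 0 b) = qT D 0 b' := fun b => by
    refine (mem_center_Q D hF).1 (Subgroup.mem_center_iff.2 fun z => ?_)
    obtain ⟨w, rfl⟩ := α.surjective z
    rw [← map_mul, ← map_mul, Subgroup.mem_center_iff.1 ((mem_center_Q D hF).2 ⟨b, rfl⟩) w]
  choose M₀ hM₀ using hcen
  let L₀ : F → F := fun a => qA D (α (qT D a 0))
  let c₀ : F → F := fun a => qB D (α (qT D a 0))
  have hform : ∀ a b, α (qT D a b) = qT D (L₀ a) (c₀ a + M₀ b) := fun a b => by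
    have e : qT D a b = qT D a 0 * qT D 0 b := by rw [qT_mul]; simp
    rw [e, map_mul, hM₀, ← qT_coords D (α (qT D a 0)), qT_mul, mul_zero, add_zero, add_zero]
  have hMadd : ∀ b b', M₀ (b + b') = M₀ b + M₀ b' := fun b b' => by
    have e : α (qT D 0 b * qT D 0 b') = α (qT D 0 b) * α (qT D 0 b') := map_mul α _ _
    rw [qT_mul, hM₀, hM₀, qT_mul] at e
    simp only [add_zero, mul_zero, hM₀] at e
    exact (qT_inj D e).2
  have hmul : ∀ x y, L₀ (x + y) = L₀ x + L₀ y ∧ M₀ (D.θ x * y) + c₀ (x + y) = c₀ x + c₀ y + D.θ (L₀ x) * L₀ y := by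
    intro x y
    have e : α (qT D x 0 * qT D y 0) = α (qT D x 0) * α (qT D y 0) := map_mul α _ _
    rw [qT_mul, hform, hform, hform, qT_mul, zero_add, zero_add] at e
    obtain ⟨e1, e2⟩ := qT_inj D e
    refine ⟨e1, ?_⟩
    have h0 : M₀ 0 = 0 := by
      have := hMadd 0 0
      rw [add_zero] at this
      linear_combination (-1 : F) * this
    rw [h0, add_zero, add_zero] at e2
    linear_combination e2
  refine ⟨AddMonoidHom.mk' L₀ fun x y => (hmul x y).1, AddMonoidHom.mk' M₀ hMadd, c₀, ?_, hform,
    fun x y => (hmul x y).2⟩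
  have hsurj : Function.Surjective L₀ := fun z => by
    obtain ⟨w, hw⟩ := α.surjective (qT D z 0)
    obtain ⟨a, b, rfl⟩ := qT_surj D w
    rw [hform] at hw
    exact ⟨a, (qT_inj D hw).1⟩
  exact Finite.injective_iff_surjective.2 hsurj

omit hF in
/-- The automorphism fixing both layers given by an additive map. -/
noncomputable def shear (g : F →+ F) : MulAut (Q D) where
  toFun x := qT D (qA D x) (qB D x + g (qA D x))
  invFun x := qT D (qA D x) (qB D x + g (qA D x))
  left_inv x := by
    simp only [qA_qT, qB_qT]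
    rw [show qB D x + g (qA D x) + g (qA D x) = qB D x by linear_combination g (qA D x) * D.two, qT_coords]
  right_inv x := by
    simp only [qA_qT, qB_qT]
    rw [show qB D x + g (qA D x) + g (qA D x) = qB D x by linear_combination g (qA D x) * D.two, qT_coords]
  map_mul' x y := by
    obtain ⟨a, b, rfl⟩ := qT_surj D x
    obtain ⟨c, d, rfl⟩ := qT_surj D y
    simp only [qT_mul, qA_qT, qB_qT, map_add]
    congr 1
    ring

/-- The structure of the automorphism group. -/
theorem exists_core : ∃ K : Subgroup (MulAut (Q D)), K.Normal ∧ Cfsg.IsElementaryAbelian 2 K ∧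
    Nat.card K = 2 ^ ((2 * m + 1) ^ 2) ∧ K.index = (2 * m + 1) * (2 ^ (2 * m + 1) - 1) := by
  classical
  haveI := D.char2
  let K : Subgroup (MulAut (Q D)) :=
    { carrier := {α | ∀ x, qA D (α x) = qA D x}
      one_mem' := fun x => rfl
      mul_mem' := fun {α β} hα hβ x => by
        show qA D (α (β x)) = qA D x
        rw [hα, hβ]
      inv_mem' := fun {α} hα x => by
        have := hα (α⁻¹ x)
        rw [MulAut.apply_inv_self] at this
        exact this.symm }
  have hmemK : ∀ α, α ∈ K ↔ ∀ x, qA D (α x) = qA D x := fun α => Iff.rfl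
  have hshear : ∀ α ∈ K, ∃ g : F →+ F, α = shear D g := by
    intro α hα
    obtain ⟨L, M, c, -, hform, hrel⟩ := aut_data D hF α
    have hL : ∀ a, L a = a := fun a => by
      have := (hmemK α).1 hα (qT D a 0)
      rwa [hform, qA_qT, qA_qT] at this
    simp only [hL] at hrel
    have hc0 : c 0 = 0 := by
      have := hrel 0 0
      simp at this
      exact this
    have hM : ∀ z, M z = z := fun z => by
      obtain ⟨x, rfl⟩ := squares_surjective D hF z
      have := hrel x x
      rw [D.add_self, hc0, D.add_self, zero_add, add_zero] at this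
      exact this
    refine ⟨AddMonoidHom.mk' c fun x y => ?_, MulEquiv.ext fun z => ?_⟩
    · have := hrel x y
      rw [hM] at this
      linear_combination this
    · obtain ⟨a, b, rfl⟩ := qT_surj D z
      rw [hform, hL, hM]
      show _ = qT D (qA D (qT D a b)) (qB D (qT D a b) + c (qA D (qT D a b)))
      rw [qA_qT, qB_qT, add_comm]
  have hshearmem : ∀ g, shear D g ∈ K := fun g x => by
    show qA D (qT D _ _) = _
    rw [qA_qT]
  have hKn : K.Normal := by
    refine ⟨fun α hα β x => ?_⟩
    obtain ⟨L, M, c, -, hform, -⟩ := aut_data D hF β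
    have hA : ∀ y, qA D (β y) = L (qA D y) := fun y => by
      conv_lhs => rw [← qT_coords D y, hform, qA_qT]
    show qA D (β (α (β⁻¹ x))) = qA D x
    rw [hA, (hmemK α).1 hα, ← hA, MulAut.apply_inv_self]
  refine ⟨K, hKn, ⟨?_, fun α hα => ?_⟩, ?_, ?_⟩
  · rw [isMulCommutative_iff]
    rintro ⟨α, hα⟩ ⟨β, hβ⟩
    obtain ⟨g, rfl⟩ := hshear α hα
    obtain ⟨g', rfl⟩ := hshear β hβ
    refine Subtype.ext (MulEquiv.ext fun z => ?_)
    show shear D g (shear D g' z) = shear D g' (shear D g z)
    obtain ⟨a, b, rfl⟩ := qT_surj D z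
    simp only [shear, MulEquiv.coe_mk, Equiv.coe_fn_mk, qA_qT, qB_qT]
    congr 1
    ring
  · obtain ⟨g, rfl⟩ := hshear α hα
    refine MulEquiv.ext fun z => ?_
    rw [pow_two]
    show shear D g (shear D g z) = z
    exact (shear D g).left_inv z
  · rw [← card_addHom hF]
    symm
    refine Nat.card_eq_of_bijective (fun g => ⟨shear D g, hshearmem g⟩) ⟨fun g g' e => ?_, fun α => ?_⟩
    · refine AddMonoidHom.ext fun a => ?_
      have h := congrArg (fun α : K => qB D ((α : MulAut (Q D)) (qT D a 0))) e
      simpa [shear, qA_qT, qB_qT] using h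
    · obtain ⟨g, hg⟩ := hshear α α.2
      exact ⟨g, Subtype.ext hg.symm⟩
  · have hrep : ∀ p : ZMod (2 * m + 1) × Fˣ, ∃ α : MulAut (Q D),
        ∀ a b, α (qT D a b) = qT D ((p.2 : F) * fr p.1 a) (D.θ p.2 * p.2 * fr p.1 b) := by
      rintro ⟨i, l⟩
      let f : Q D →* Q D :=
        MonoidHom.mk' (fun x => qT D ((l : F) * fr i (qA D x)) (D.θ l * l * fr i (qB D x))) fun x y => by
          obtain ⟨a, b, rfl⟩ := qT_surj D x
          obtain ⟨c, d, rfl⟩ := qT_surj D y
          simp only [qT_mul, qA_qT, qB_qT, fr_add D, fr_mul D, map_mul]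
          rw [show fr i (D.θ a) = D.θ (fr i a) by rw [theta_fr D hF, theta_fr D hF, fr_fr hF, fr_fr hF, add_comm]]
          congr 1 <;> ring
      have hinj : Function.Injective f := by
        intro x y e
        obtain ⟨a, b, rfl⟩ := qT_surj D x
        obtain ⟨c, d, rfl⟩ := qT_surj D y
        simp only [f, MonoidHom.mk'_apply, qA_qT, qB_qT] at e
        obtain ⟨e1, e2⟩ := qT_inj D e
        have hinjfr : Function.Injective (fr i : F → F) := fun u v huv => by
          have h := congrArg (fr (-i)) huv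
          rwa [fr_fr hF, fr_fr hF, neg_add_cancel, fr_zero' hF, fr_zero' hF] at h
        rw [hinjfr (mul_left_cancel₀ l.ne_zero e1),
          hinjfr (mul_left_cancel₀ (mul_ne_zero ((map_ne_zero D.θ).2 l.ne_zero) l.ne_zero) e2)]
      refine ⟨MulEquiv.ofBijective f (Finite.injective_iff_bijective.1 hinj), fun a b => ?_⟩
      show f _ = _
      simp only [f, MonoidHom.mk'_apply, qA_qT, qB_qT]
    choose r hr using hrep
    rw [← hF, ← Fintype.card_units, ← Nat.card_eq_fintype_card, ← Nat.card_zmod (2 * m + 1), ← Nat.card_prod,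
      Subgroup.index]
    symm
    refine Nat.card_eq_of_bijective (fun p => (r p : MulAut (Q D) ⧸ K)) ⟨fun p p' e => ?_, fun q => ?_⟩
    · rw [QuotientGroup.eq] at e
      have h : ∀ a, (p.2 : F) * fr p.1 a = (p'.2 : F) * fr p'.1 a := fun a => by
        have h1 := (hmemK _).1 (hKn.conj_mem _ e (r p)) (r p (qT D a 0))
        rw [show r p * ((r p)⁻¹ * r p') * (r p)⁻¹ = r p' * (r p)⁻¹ by group] at h1
        show _ = _
        change qA D (r p' ((r p)⁻¹ (r p (qT D a 0)))) = qA D (r p (qT D a 0)) at h1
        rw [MulAut.inv_apply_self, hr, hr, qA_qT, qA_qT] at h1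
        exact h1.symm
      have hl : (p.2 : F) = p'.2 := by simpa [fr] using h 1
      refine Prod.ext (fr_inj D hF fun a => ?_) (Units.ext hl)
      have := h a
      rw [hl] at this
      exact mul_left_cancel₀ p'.2.ne_zero this
    · obtain ⟨α, rfl⟩ := QuotientGroup.mk_surjective q
      obtain ⟨L, M, c, hL, hform, hrel⟩ := aut_data D hF α
      have hc0 : c 0 = 0 := by
        have := hrel 0 0
        simp at this
        exact this
      obtain ⟨i, l, hl, hLform⟩ := semilinear D hF L M hL (fun x => by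
        have := hrel x x
        rw [D.add_self, hc0, D.add_self, zero_add, add_zero] at this
        exact this) (fun x y => by
        rw [map_add]
        have e := hrel y x
        rw [add_comm y x] at e
        linear_combination hrel x y + e + (c x + c y - c (x + y)) * D.two)
      refine ⟨(i, Units.mk0 l hl), QuotientGroup.eq.2 ((hmemK _).2 fun x => ?_)⟩
      set p : ZMod (2 * m + 1) × Fˣ := (i, Units.mk0 l hl)
      have hA : ∀ y, qA D (α y) = qA D (r p y) := fun y => by
        conv_lhs => rw [← qT_coords D y, hform, qA_qT, hLform]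
        conv_rhs => rw [← qT_coords D y, hr, qA_qT]
        rfl
      -- `(r p)⁻¹ α` fixes the first coordinate
      show qA D ((r p)⁻¹ (α x)) = qA D x
      have hinjA : ∀ y, qA D (r p y) = (p.2 : F) * fr p.1 (qA D y) := fun y => by
        conv_lhs => rw [← qT_coords D y, hr, qA_qT]
      have h1 := hinjA ((r p)⁻¹ (α x))
      rw [MulAut.apply_inv_self, hA, hinjA] at h1
      have h2 := mul_left_cancel₀ p.2.ne_zero h1
      have h3 := congrArg (fr (-p.1)) h2
      rw [fr_fr hF, fr_fr hF, neg_add_cancel, fr_zero' hF, fr_zero' hF] at h3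
      exact h3.symm

end Cfsg.Agent.Suzuki
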