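/-
Centralisers and odd Sylow subgroups of the Suzuki groups.
-/
import Cfsg.Agent.Lib.Suzuki.Torus

set_option autoImplicit false

namespace Cfsg.Agent.Suzuki

open scoped Matrix Pointwise

variable {F : Type*} [Field F] [Fintype F] {m : ℕ} (D : Dat F m) (hF : Fintype.card F = 2 ^ (2 * m + 1))
include D hF

theorem pair_cyclic {a b : Cfsg.suzukiOvoid F m} (hab : a ≠ b) (K : Subgroup (Cfsg.Sz F m))
    (hK : ∀ c ∈ K, c • a = a ∧ c • b = b) : IsCyclic K := by
  obtain ⟨k, hka, hkb⟩ := exists_conj_pair D hab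
  have hrep : ∀ c : K, ∃ u, k * c * k⁻¹ = gH D u := fun c =>
    conj_pair D hF hka hkb (hK c c.2).1 (hK c c.2).2
  choose u hu using hrep
  have hinj : Function.Injective (gH D) := fun x y e => by
    have e2 := congrArg (fun g : Cfsg.Sz F m => g.1.1 1 1) e
    simp [gH, H_val, hVec] at e2
    exact Units.ext (D.θ.injective e2)
  let f : K →* F :=
    { toFun := fun c => (u c : F)
      map_one' := by
        have h := hu 1
        rw [Subgroup.coe_one, mul_one, mul_inv_cancel, ← gH_one D] at h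
        rw [← hinj h, Units.val_one]
      map_mul' := fun c d => by
        have h := hu (c * d)
        rw [Subgroup.coe_mul, show k * (c * d) * k⁻¹ = k * c * k⁻¹ * (k * d * k⁻¹) by group, hu, hu, gH_mul] at h
        rw [← hinj h, Units.val_mul] }
  refine isCyclic_of_subgroup_isDomain f fun c d e => Subtype.ext ?_
  have e1 : u c = u d := Units.ext e
  have h := hu c
  rw [e1, ← hu d] at h
  exact mul_left_cancel (mul_right_cancel h)

/-- The centraliser of a non-identity element: cyclic, a 2-group, or cyclic. -/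
theorem centralizer_cases {g : Cfsg.Sz F m} (hg : g ≠ 1) :
    IsCyclic (Subgroup.centralizer {g}) ∨ (OneFix g ∧ IsPGroup 2 (Subgroup.centralizer {g})) := by
  rcases fix_trichotomy g with h0 | h1 | ⟨a, b, hab, ha, hb⟩
  · obtain ⟨U, hU, hgU⟩ := exists_torus_mem D hF hg h0
    left
    rw [hU.centralizer_eq D hF hgU hg]
    exact hU.isCyclic D hF
  · refine Or.inr ⟨h1, fun c => ⟨2, ?_⟩⟩
    by_cases hc : (c : Cfsg.Sz F m) = 1
    · exact Subtype.ext (by simp [hc])
    · exact Subtype.ext (by
        simpa using pow_four_of_oneFix D hF (oneFix_of_commute D hF h1 (mem_cent.1 c.2) hc))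
  · exact Or.inl (pair_cyclic D hF hab _ fun c hc => fix_of_commute_twoFix D hF hg hab ha hb (mem_cent.1 hc))

theorem isNilpotent_centralizer {g : Cfsg.Sz F m} (hg : g ≠ 1) : Group.IsNilpotent (Subgroup.centralizer {g}) := by
  rcases centralizer_cases D hF hg with h | ⟨-, h⟩
  · haveI := h
    letI : CommGroup (Subgroup.centralizer {g}) := IsCyclic.commGroup
    exact CommGroup.isNilpotent
  · haveI : Fact (Nat.Prime 2) := ⟨Nat.prime_two⟩
    exact h.isNilpotent

theorem sylow_odd_cyclic {p : ℕ} [Fact p.Prime] (hp : p ≠ 2) (P : Sylow p (Cfsg.Sz F m)) : IsCyclic P := by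
  rcases subsingleton_or_nontrivial P with h | h
  · exact isCyclic_of_subsingleton
  haveI := P.2.center_nontrivial
  obtain ⟨⟨z, hz⟩, hz1⟩ := exists_ne (1 : Subgroup.center P)
  have hz1' : (z : Cfsg.Sz F m) ≠ 1 := fun e => hz1 (Subtype.ext (Subtype.ext e))
  have hle : (P : Subgroup (Cfsg.Sz F m)) ≤ Subgroup.centralizer {(z : Cfsg.Sz F m)} := fun c hc =>
    mem_cent.2 (congrArg Subtype.val (Subgroup.mem_center_iff.1 hz ⟨c, hc⟩))
  rcases centralizer_cases D hF hz1' with h' | ⟨h1, -⟩
  · haveI := h'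
    exact isCyclic_of_injective (Subgroup.inclusion hle) (Subgroup.inclusion_injective hle)
  · exfalso
    obtain ⟨k, hk⟩ := IsPGroup.iff_orderOf.1 P.2 z
    rw [← orderOf_submonoid] at hk
    have hd : p ^ k ∣ 2 ^ 2 := hk ▸ orderOf_dvd_of_pow_eq_one (pow_four_of_oneFix D hF h1)
    rcases Nat.eq_zero_or_pos k with rfl | hk0
    · exact hz1' (orderOf_eq_one_iff.1 (by rw [hk, pow_zero]))
    · exact hp ((Nat.prime_dvd_prime_iff_eq Fact.out Nat.prime_two).1
        ((Fact.out : p.Prime).dvd_of_dvd_pow ((dvd_pow_self p hk0.ne').trans hd)))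

end Cfsg.Agent.Suzuki
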