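/-
The partition of the Suzuki groups.
-/
import Cfsg.Agent.Lib.Suzuki.Structure
import Cfsg.Agent.Lib.Suzuki.Count

set_option autoImplicit false

namespace Cfsg.Agent.Suzuki

open scoped Matrix Pointwise

variable {F : Type*} [Field F] [Fintype F] {m : ℕ}

/-- The subgroup of elements fixing two given points. -/
abbrev pairStab (a b : Cfsg.suzukiOvoid F m) : Subgroup (Cfsg.Sz F m) :=
  MulAction.stabilizer (Cfsg.Sz F m) a ⊓ MulAction.stabilizer (Cfsg.Sz F m) b

theorem mem_pairStab {a b : Cfsg.suzukiOvoid F m} {g : Cfsg.Sz F m} :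
    g ∈ pairStab a b ↔ g • a = a ∧ g • b = b := Iff.rfl

variable (D : Dat F m) (hF : Fintype.card F = 2 ^ (2 * m + 1))
include D hF

theorem card_pairStab {a b : Cfsg.suzukiOvoid F m} (hab : a ≠ b) :
    Nat.card (pairStab a b) = Fintype.card F - 1 := by
  rw [← card_stab_pair D hF hab]
  exact Nat.card_congr (Equiv.subtypeEquivRight fun g => mem_pairStab)

omit hF in
theorem eq_pair_or {g : Cfsg.Sz F m} (hF : Fintype.card F = 2 ^ (2 * m + 1)) (hg : g ≠ 1) {a b c : Cfsg.suzukiOvoid F m}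
    (hab : a ≠ b) (ha : g • a = a) (hb : g • b = b) (hc : g • c = c) : c = a ∨ c = b := by
  by_contra h
  push_neg at h
  exact hg (three_fixed D hF g a b c hab h.2.symm h.1.symm ha hb hc)

theorem second_fix {x y : F} {u : Fˣ} (hu : u ≠ 1) :
    ∃ X Y, (gT D x y * gH D u) • oP D X Y = oP D X Y := by
  haveI := D.char2
  have h2 : (u : F) ^ 2 + 1 ≠ 0 := fun h0 =>
    hu (Units.ext (D.sq_inj (by rw [Units.val_one, one_pow, D.eq_of_add h0])))
  have hk : D.θ u ^ 2 * (u : F) ^ 2 + 1 ≠ 0 := by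
    intro h0
    have h1 := D.eq_of_add h0
    rw [← map_pow] at h1
    exact hu (Units.ext (D.sq_inj (by rw [Units.val_one, one_pow, scale_eq_one D hF (pow_ne_zero 2 u.ne_zero) h1])))
  refine ⟨x / ((u : F) ^ 2 + 1),
    (D.θ x * ((u : F) ^ 2 * (x / ((u : F) ^ 2 + 1))) + y) / (D.θ u ^ 2 * (u : F) ^ 2 + 1), ?_⟩
  rw [mul_smul, gH_oP, gT_oP]
  congr 1
  · field_simp; grind [D.two]
  · field_simp; grind [D.two]

theorem mem_Q_iff {g : Cfsg.Sz F m} :
    g ∈ Q D ↔ g = 1 ∨ (g • oI D = oI D ∧ ∀ p, g • p = p → p = oI D) := by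
  constructor
  · rintro ⟨a, b, rfl⟩
    by_cases h : a = 0 ∧ b = 0
    · rw [h.1, h.2, gT_zero]; exact Or.inl rfl
    · refine Or.inr ⟨gT_oI D a b, fun p hp => ?_⟩
      rcases o_cases D p with rfl | ⟨x, y, rfl⟩
      · rfl
      · rw [gT_oP] at hp
        obtain ⟨e1, e2⟩ := pP_inj D (congrArg Subtype.val hp)
        have ha : a = 0 := by linear_combination e1
        subst ha
        exact absurd ⟨rfl, by simpa using e2⟩ h
  · rintro (rfl | ⟨hI, huniq⟩)
    · exact one_mem _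
    · obtain ⟨x, y, u, rfl⟩ := gfix_inf D hF hI
      by_cases hu : u = 1
      · subst hu; rw [gH_one, mul_one]; exact ⟨x, y, rfl⟩
      · obtain ⟨X, Y, hXY⟩ := second_fix D hF (x := x) (y := y) hu
        exact absurd (huniq _ hXY).symm (oI_ne_oP D X Y)

/-- A Sylow 2-subgroup is the set of elements fixing exactly one given point. -/
theorem sylow_point (P : Sylow 2 (Cfsg.Sz F m)) : ∃ a : Cfsg.suzukiOvoid F m,
    ∀ g, g ∈ (P : Subgroup (Cfsg.Sz F m)) ↔ g = 1 ∨ (g • a = a ∧ ∀ p, g • p = p → p = a) := by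
  obtain ⟨k, rfl⟩ := MulAction.exists_smul_eq (Cfsg.Sz F m) (QS D hF) P
  refine ⟨k • oI D, fun g => ?_⟩
  rw [Sylow.smul_def, Sylow.pointwise_smul_def, Subgroup.mem_pointwise_smul_iff_inv_smul_mem, ← map_inv,
    MulAut.smul_def, MulAut.conj_apply, inv_inv]
  show k⁻¹ * g * k ∈ Q D ↔ _
  rw [mem_Q_iff D hF]
  refine or_congr ?_ (and_congr ?_ ?_)
  · rw [show k⁻¹ * g * k = k⁻¹ * g * k⁻¹⁻¹ by group, conj_eq_one_iff]
  · rw [mul_smul, mul_smul, inv_smul_eq_iff]
  · refine ⟨fun h p hp => ?_, fun h p hp => ?_⟩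
    · rw [← h (k⁻¹ • p) (by rw [mul_smul, mul_smul, smul_inv_smul, hp]), smul_inv_smul]
    · rw [mul_smul, mul_smul, inv_smul_eq_iff] at hp
      exact MulAction.injective k (h _ hp)

/-- The Sylow 2-subgroup of a point. -/
theorem exists_sylow_point (a : Cfsg.suzukiOvoid F m) : ∃ P : Sylow 2 (Cfsg.Sz F m),
    ∀ g, g ∈ (P : Subgroup (Cfsg.Sz F m)) ↔ g = 1 ∨ (g • a = a ∧ ∀ p, g • p = p → p = a) := by
  obtain ⟨k, hk⟩ := transitive D a
  refine ⟨k • QS D hF, fun g => ?_⟩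
  subst hk
  rw [Sylow.smul_def, Sylow.pointwise_smul_def, Subgroup.mem_pointwise_smul_iff_inv_smul_mem, ← map_inv,
    MulAut.smul_def, MulAut.conj_apply, inv_inv]
  show k⁻¹ * g * k ∈ Q D ↔ _
  rw [mem_Q_iff D hF]
  refine or_congr ?_ (and_congr ?_ ?_)
  · rw [show k⁻¹ * g * k = k⁻¹ * g * k⁻¹⁻¹ by group, conj_eq_one_iff]
  · rw [mul_smul, mul_smul, inv_smul_eq_iff]
  · refine ⟨fun h p hp => ?_, fun h p hp => ?_⟩
    · rw [← h (k⁻¹ • p) (by rw [mul_smul, mul_smul, smul_inv_smul, hp]), smul_inv_smul]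
    · rw [mul_smul, mul_smul, inv_smul_eq_iff] at hp
      exact MulAction.injective k (h _ hp)

theorem normalizer_sylow {P : Sylow 2 (Cfsg.Sz F m)} {a : Cfsg.suzukiOvoid F m}
    (hP : ∀ g, g ∈ (P : Subgroup (Cfsg.Sz F m)) ↔ g = 1 ∨ (g • a = a ∧ ∀ p, g • p = p → p = a)) :
    Subgroup.normalizer ((P : Subgroup (Cfsg.Sz F m)) : Set (Cfsg.Sz F m)) = MulAction.stabilizer (Cfsg.Sz F m) a := by
  ext k
  rw [Subgroup.mem_normalizer_iff, MulAction.mem_stabilizer_iff]
  constructor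
  · intro hk
    haveI : Nontrivial P := (Subgroup.nontrivial_iff_ne_bot _).2 (Sylow.ne_bot_of_dvd_card P (by
      rw [card_sz D hF, hF]
      exact ((dvd_pow_self 2 (by omega)).trans (dvd_pow_self _ two_ne_zero)).mul_right _ |>.mul_right _))
    obtain ⟨⟨g, hg⟩, hg1⟩ := exists_ne (1 : P)
    have hg1' : g ≠ 1 := fun e => hg1 (Subtype.ext e)
    obtain ⟨hga, -⟩ := ((hP g).1 hg).resolve_left hg1'
    have h2 := ((hP _).1 ((hk g).1 hg)).resolve_left (fun e => hg1' (conj_eq_one_iff.1 e))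
    exact h2.2 (k • a) ((conj_fix k g).2 hga)
  · intro hk g
    rw [hP, hP, conj_eq_one_iff]
    have ha' : (k * g * k⁻¹) • a = a ↔ g • a = a := by
      conv_lhs => rw [← hk]
      exact conj_fix k g
    refine or_congr_right (and_congr ha'.symm ⟨fun h p hp => ?_, fun h p hp => ?_⟩)
    · have := h (k⁻¹ • p) ((conj_fix k g).1 (by rwa [smul_inv_smul]))
      rw [← smul_inv_smul k p, this, hk]
    · exact MulAction.injective k ((h _ ((conj_fix k g).2 hp)).trans hk.symm)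

theorem torus_card {V : Subgroup (Cfsg.Sz F m)} (hV : IsTorus V) :
    Nat.card V = Fintype.card F + 2 ^ (m + 1) + 1 ∨ Nat.card V = Fintype.card F - 2 ^ (m + 1) + 1 := by
  obtain ⟨U₁, hU₁, h1, -⟩ := exists_tori D hF _ (Or.inl rfl)
  obtain ⟨U₂, hU₂, h2, -⟩ := exists_tori D hF _ (Or.inr rfl)
  obtain ⟨p, hp, hpd⟩ := Nat.exists_prime_and_dvd hV.one_lt.ne'
  haveI := Fact.mk hp
  have hprod : (Fintype.card F + 2 ^ (m + 1) + 1) * (Fintype.card F - 2 ^ (m + 1) + 1) = Fintype.card F ^ 2 + 1 := by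
    have hq2 : 2 * Fintype.card F = (2 ^ (m + 1)) ^ 2 := by rw [hF]; ring
    have := D.card_big hF
    have hpos := Nat.one_le_two_pow (n := m)
    zify [show 2 ^ (m + 1) ≤ Fintype.card F by omega] at hq2 ⊢
    linear_combination hq2
  rcases hp.dvd_mul.1 (hprod ▸ hpd.trans (hV.card_dvd D hF)) with h | h
  · obtain ⟨k, rfl⟩ := hU₁.conj_of_dvd D hF hV (h1.symm ▸ h) hpd
    exact Or.inl ((card_conj_smul U₁ k).trans h1)
  · obtain ⟨k, rfl⟩ := hU₂.conj_of_dvd D hF hV (h2.symm ▸ h) hpd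
    exact Or.inr ((card_conj_smul U₂ k).trans h2)

theorem coprime_facts :
    Nat.Coprime (Fintype.card F - 1) (Fintype.card F ^ 2 + 1) ∧ Nat.Coprime 4 (Fintype.card F ^ 2 + 1) ∧
      Nat.Coprime 4 (Fintype.card F - 1) ∧
      Nat.Coprime (Fintype.card F + 2 ^ (m + 1) + 1) (Fintype.card F - 2 ^ (m + 1) + 1) := by
  set q := Fintype.card F
  have heven : 2 ∣ q := by rw [hF]; exact dvd_pow_self 2 (by omega)
  have hbig := D.card_big hF
  have hpos := Nat.one_le_two_pow (n := m)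
  have h4 : ∀ x, Odd x → Nat.Coprime 4 x := fun x hx =>
    Nat.Coprime.pow_left 2 (Nat.coprime_two_left.2 hx)
  have hodd1 : Odd (q - 1) := by rw [Nat.odd_iff]; omega
  have hodd2 : Odd (q ^ 2 + 1) := by
    rw [Nat.odd_iff]
    have : 2 ∣ q ^ 2 := dvd_pow heven two_ne_zero
    omega
  refine ⟨Nat.coprime_of_dvd fun p hp h1 h2 => ?_, h4 _ hodd2, h4 _ hodd1, Nat.coprime_of_dvd fun p hp h1 h2 => ?_⟩
  · exact (not_dvd_pow_sub_one D hF hp h2).2.2.2 1 one_pos (by norm_num) (by simpa using h1)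
  · have hprod : (q + 2 ^ (m + 1) + 1) * (q - 2 ^ (m + 1) + 1) = q ^ 2 + 1 := by
      have hq2 : 2 * q = (2 ^ (m + 1)) ^ 2 := by rw [hF]; ring
      zify [show 2 ^ (m + 1) ≤ q by omega] at hq2 ⊢
      linear_combination hq2
    have hn := not_dvd_pow_sub_one D hF hp (hprod ▸ h1.mul_right _)
    have h3 : p ∣ 2 ^ (m + 2) := by
      have := Nat.dvd_sub h1 h2
      rwa [show q + 2 ^ (m + 1) + 1 - (q - 2 ^ (m + 1) + 1) = 2 ^ (m + 2) by rw [pow_succ 2 (m + 1)]; omega] at this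
    exact hn.1 ((Nat.prime_dvd_prime_iff_eq hp Nat.prime_two).1 (hp.dvd_of_dvd_pow h3))

theorem cyclic_card_cases {U : Subgroup (Cfsg.Sz F m)} (hU : IsCyclic U) :
    (Nat.card U = Fintype.card F - 1 → ∃ a b, a ≠ b ∧ U = pairStab a b) ∧
    ((Nat.card U = Fintype.card F + 2 ^ (m + 1) + 1 ∨ Nat.card U = Fintype.card F - 2 ^ (m + 1) + 1) → IsTorus U) := by
  obtain ⟨g, hg⟩ := hU.exists_generator
  have hgU : ∀ x ∈ U, x ∈ Subgroup.zpowers (g : Cfsg.Sz F m) := fun x hx => by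
    obtain ⟨j, hj⟩ := Subgroup.mem_zpowers_iff.1 (hg ⟨x, hx⟩)
    exact Subgroup.mem_zpowers_iff.2 ⟨j, congrArg Subtype.val hj⟩
  have hord : orderOf (g : Cfsg.Sz F m) = Nat.card U := by
    rw [Subgroup.orderOf_coe, orderOf_eq_card_of_forall_mem_zpowers hg]
  obtain ⟨c1, c2, c3, c4⟩ := coprime_facts D hF
  have hbig := D.card_big hF
  have hpos := Nat.one_le_two_pow (n := m)
  constructor
  · intro hc
    have hg1 : (g : Cfsg.Sz F m) ≠ 1 := fun e => by rw [e, orderOf_one, hc] at hord; omega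
    rcases fix_trichotomy (g : Cfsg.Sz F m) with h0 | h1 | ⟨a, b, hab, ha, hb⟩
    · obtain ⟨V, hV, hgV⟩ := exists_torus_mem D hF hg1 h0
      exfalso
      have h2 : orderOf (g : Cfsg.Sz F m) ∣ Fintype.card F ^ 2 + 1 :=
        (Subgroup.orderOf_dvd_natCard V hgV).trans (hV.card_dvd D hF)
      rw [hord, hc] at h2
      have := Nat.Coprime.eq_one_of_dvd c1 h2
      omega
    · exfalso
      have h2 := orderOf_dvd_of_pow_eq_one (pow_four_of_oneFix D hF h1)
      rw [hord, hc] at h2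
      have := Nat.Coprime.eq_one_of_dvd c3.symm h2
      omega
    · refine ⟨a, b, hab, Subgroup.eq_of_le_of_card_ge (fun x hx => ?_) ?_⟩
      · exact Subgroup.zpowers_le.2 (mem_pairStab.2 ⟨ha, hb⟩) (hgU x hx)
      · rw [card_pairStab D hF hab, hc]
  · intro hc
    have hdvd : Nat.card U ∣ Fintype.card F ^ 2 + 1 := by
      have hprod : (Fintype.card F + 2 ^ (m + 1) + 1) * (Fintype.card F - 2 ^ (m + 1) + 1) = Fintype.card F ^ 2 + 1 := by
        have hq2 : 2 * Fintype.card F = (2 ^ (m + 1)) ^ 2 := by rw [hF]; ring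
        zify [show 2 ^ (m + 1) ≤ Fintype.card F by omega] at hq2 ⊢
        linear_combination hq2
      rcases hc with e | e <;> rw [e, ← hprod]
      exacts [dvd_mul_right _ _, dvd_mul_left _ _]
    have hg1 : (g : Cfsg.Sz F m) ≠ 1 := fun e => by rw [e, orderOf_one] at hord; omega
    rcases fix_trichotomy (g : Cfsg.Sz F m) with h0 | h1 | h2
    · obtain ⟨V, hV, hgV⟩ := exists_torus_mem D hF hg1 h0
      have hle : U ≤ V := fun x hx => Subgroup.zpowers_le.2 hgV (hgU x hx)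
      convert hV
      refine Subgroup.eq_of_le_of_card_ge hle ?_
      have hd := Subgroup.card_dvd_of_le hle
      rcases hc with e | e <;> rcases torus_card D hF hV with e' | e' <;> rw [e, e'] at hd ⊢ <;> exfalso
      · have := Nat.Coprime.eq_one_of_dvd c4 hd; omega
      · have := Nat.Coprime.eq_one_of_dvd c4.symm hd; omega
    · exfalso
      have h2 := orderOf_dvd_of_pow_eq_one (pow_four_of_oneFix D hF h1)
      rw [hord] at h2
      have := Nat.Coprime.eq_one_of_dvd (c2.coprime_dvd_right hdvd).symm h2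
      omega
    · exfalso
      have h3 := orderOf_dvd_of_pow_eq_one (pow_card_sub_one_of_twoFix D hF h2)
      rw [hord] at h3
      have := Nat.Coprime.eq_one_of_dvd (c1.coprime_dvd_right hdvd).symm h3
      omega

/-- A subgroup containing a Sylow 2-subgroup and moving its point is everything. -/
theorem eq_top_of_sylow_le {P : Sylow 2 (Cfsg.Sz F m)} {a : Cfsg.suzukiOvoid F m}
    (hP : ∀ g, g ∈ (P : Subgroup (Cfsg.Sz F m)) ↔ g = 1 ∨ (g • a = a ∧ ∀ p, g • p = p → p = a))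
    {M : Subgroup (Cfsg.Sz F m)} (hPM : (P : Subgroup (Cfsg.Sz F m)) ≤ M) {x : Cfsg.Sz F m} (hxM : x ∈ M)
    (hx : x • a ≠ a) : M = ⊤ := by
  obtain ⟨k, hk⟩ := transitive D a
  -- the translations at `a` are transitive on the other points
  have htrans : ∀ c, c ≠ a → ∀ d, d ≠ a → ∃ g ∈ M, g • c = d := by
    intro c hc d hd
    obtain ⟨x₁, y₁, e₁⟩ := (o_cases D (k⁻¹ • c)).resolve_left fun e => hc (by
      rw [← hk, ← e, smul_inv_smul])
    obtain ⟨x₂, y₂, e₂⟩ := (o_cases D (k⁻¹ • d)).resolve_left fun e => hd (by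
      rw [← hk, ← e, smul_inv_smul])
    set t := gT D (x₂ + x₁) (y₂ + y₁ + D.θ (x₂ + x₁) * x₁) with ht
    refine ⟨k * t * k⁻¹, hPM ((hP _).2 ?_), ?_⟩
    · rcases (mem_Q_iff D hF).1 (⟨_, _, rfl⟩ : t ∈ Q D) with h | ⟨h1, h2⟩
      · exact Or.inl (by rw [h]; group)
      · refine Or.inr ⟨by rw [← hk]; exact (conj_fix k t).2 h1, fun p hp => ?_⟩
        rw [← smul_inv_smul k p, conj_fix] at hp
        rw [← smul_inv_smul k p, h2 _ hp, hk]
    · rw [mul_smul, mul_smul, e₁, ht, gT_oP, ← smul_inv_smul k d, e₂]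
      congr 2 <;> grind [D.two]
  have hall : ∀ c, ∃ g ∈ M, g • a = c := by
    intro c
    by_cases hc : c = a
    · exact ⟨1, M.one_mem, by rw [one_smul, hc]⟩
    · obtain ⟨g, hg, hgc⟩ := htrans (x • a) hx c hc
      exact ⟨g * x, M.mul_mem hg hxM, by rw [mul_smul, hgc]⟩
  have hone : ∀ g : Cfsg.Sz F m, OneFix g → g ∈ M := by
    rintro g ⟨c, hc, hu⟩
    obtain ⟨n, hn, hna⟩ := hall c
    have hmem : n⁻¹ * g * n ∈ (P : Subgroup (Cfsg.Sz F m)) := by
      refine (hP _).2 (Or.inr ⟨?_, fun p hp => ?_⟩)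
      · rw [mul_smul, mul_smul, hna, hc, inv_smul_eq_iff, hna]
      · rw [mul_smul, mul_smul, inv_smul_eq_iff] at hp
        exact MulAction.injective n ((hu _ hp).trans hna.symm)
    have := M.mul_mem (M.mul_mem hn (hPM hmem)) (M.inv_mem hn)
    rwa [show n * (n⁻¹ * g * n) * n⁻¹ = g by group] at this
  -- the normal closure of a translation is contained in `M`
  haveI := simple D hF
  let t := gT D 1 0
  have ht : OneFix t := by
    refine ⟨oI D, (((mem_Q_iff D hF).1 ⟨1, 0, rfl⟩).resolve_left ?_).1, (((mem_Q_iff D hF).1 ⟨1, 0, rfl⟩).resolve_left ?_).2⟩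
    all_goals exact fun e => one_ne_zero (gT_inj D (e.trans (gT_zero D).symm)).1
  have ht1 : t ≠ 1 := fun e => one_ne_zero (gT_inj D (e.trans (gT_zero D).symm)).1
  rcases (inferInstance : IsSimpleGroup (Cfsg.Sz F m)).eq_bot_or_eq_top_of_normal (Subgroup.normalClosure {t})
    inferInstance with h | h
  · exact absurd (by
      have := Subgroup.subset_normalClosure (Set.mem_singleton t)
      rwa [h] at this) ht1
  · rw [eq_top_iff, ← h, Subgroup.normalClosure, Subgroup.closure_le]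
    intro y hy
    rw [Group.mem_conjugatesOfSet_iff] at hy
    obtain ⟨_, rfl, hcy⟩ := hy
    obtain ⟨c, rfl⟩ := isConj_iff.1 hcy
    obtain ⟨o, ho, hu⟩ := ht
    refine hone _ ⟨c • o, (conj_fix c t).2 ho, fun p hp => ?_⟩
    rw [← smul_inv_smul c p, conj_fix] at hp
    rw [← smul_inv_smul c p, hu _ hp]

end Cfsg.Agent.Suzuki
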