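/-
The automorphism group of a Suzuki group: inner and field automorphisms.
-/
import Cfsg.Agent.Lib.Suzuki.Partition
import Cfsg.Agent.Lib.Suzuki.AutQCore
import Cfsg.Prelude.Def_KGroupFacts

set_option autoImplicit false

namespace Cfsg.Agent.Suzuki

open scoped Matrix MatrixGroups

variable {F : Type*} [Field F] [Fintype F] {m : ℕ} (D : Dat F m)

/-- A power of Frobenius as a ring endomorphism. -/
def frHom (i : ZMod (2 * m + 1)) : F →+* F where
  toFun := fr i
  map_one' := one_pow _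
  map_mul' := fr_mul D i
  map_zero' := zero_pow (by positivity)
  map_add' := fr_add D i

theorem frHom_apply (i : ZMod (2 * m + 1)) (x : F) : frHom D i x = fr i x := rfl

theorem frHom_theta (i : ZMod (2 * m + 1)) (x : F) : frHom D i (D.θ x) = D.θ (frHom D i x) := by
  show fr i (D.θ x) = D.θ (fr i x)
  rw [fr, fr, map_pow]

/-- The action of Frobenius on the torus parameters. -/
def frUnit (i : ZMod (2 * m + 1)) (u : Fˣ) : Fˣ := Units.map (frHom D i).toMonoidHom u

theorem frUnit_val (i : ZMod (2 * m + 1)) (u : Fˣ) : (frUnit D i u : F) = frHom D i u := rfl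

theorem map_T (i : ZMod (2 * m + 1)) (a b : F) :
    Matrix.SpecialLinearGroup.map (frHom D i) (T D.θ a b) = T D.θ (frHom D i a) (frHom D i b) := by
  apply Subtype.ext
  ext r c
  fin_cases r <;> fin_cases c <;> simp [T_val, tMat, ov, frHom_theta]

theorem map_H (i : ZMod (2 * m + 1)) (u : Fˣ) :
    Matrix.SpecialLinearGroup.map (frHom D i) (H D.θ u) = H D.θ (frUnit D i u) := by
  apply Subtype.ext
  ext r c
  fin_cases r <;> fin_cases c <;> simp [H_val, hVec, frHom_theta, frUnit_val]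

theorem map_w (i : ZMod (2 * m + 1)) : Matrix.SpecialLinearGroup.map (frHom D i) (w F) = w F := by
  apply Subtype.ext
  ext r c
  fin_cases r <;> fin_cases c <;> simp [w_val, Cfsg.suzukiForm]

variable (hF : Fintype.card F = 2 ^ (2 * m + 1))
include D hF

theorem map_mem (i : ZMod (2 * m + 1)) {g : SL(4, F)} (hg : g ∈ Cfsg.Sz F m) :
    Matrix.SpecialLinearGroup.map (frHom D i) g ∈ Cfsg.Sz F m := by
  rcases normal_form D hF hg with ⟨a, b, u, rfl⟩ | ⟨a, b, c, d, u, rfl⟩
  · rw [map_mul, map_T, map_H]; exact mul_mem (T_mem D _ _) (H_mem D _)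
  · rw [map_mul, map_mul, map_mul, map_T, map_T, map_H, map_w]
    exact mul_mem (mul_mem (T_mem D _ _) (w_mem D)) (mul_mem (T_mem D _ _) (H_mem D _))

/-- The field automorphism as an endomorphism. -/
def fieldHom (i : ZMod (2 * m + 1)) : Cfsg.Sz F m →* Cfsg.Sz F m :=
  ((Matrix.SpecialLinearGroup.map (frHom D i)).comp (Cfsg.Sz F m).subtype).codRestrict _ fun g => map_mem D hF i g.2

theorem fieldHom_fieldHom (i j : ZMod (2 * m + 1)) (g : Cfsg.Sz F m) :
    fieldHom D hF i (fieldHom D hF j g) = fieldHom D hF (i + j) g := by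
  apply Subtype.ext; apply Subtype.ext
  ext r c
  exact fr_fr hF i j _

theorem fieldHom_zero (g : Cfsg.Sz F m) : fieldHom D hF 0 g = g := by
  apply Subtype.ext; apply Subtype.ext
  ext r c
  exact fr_zero' hF _

/-- A field automorphism. -/
def fieldAut (i : ZMod (2 * m + 1)) : MulAut (Cfsg.Sz F m) :=
  MonoidHom.toMulEquiv (fieldHom D hF i) (fieldHom D hF (-i))
    (MonoidHom.ext fun g => by
      show fieldHom D hF (-i) (fieldHom D hF i g) = g
      rw [fieldHom_fieldHom, neg_add_cancel, fieldHom_zero])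
    (MonoidHom.ext fun g => by
      show fieldHom D hF i (fieldHom D hF (-i) g) = g
      rw [fieldHom_fieldHom, add_neg_cancel, fieldHom_zero])

theorem fieldAut_mul (i j : ZMod (2 * m + 1)) : fieldAut D hF i * fieldAut D hF j = fieldAut D hF (i + j) :=
  MulEquiv.ext fun g => fieldHom_fieldHom D hF i j g

theorem fieldAut_zero : fieldAut D hF 0 = 1 := MulEquiv.ext fun g => fieldHom_zero D hF g

theorem fieldAut_gT (i : ZMod (2 * m + 1)) (a b : F) :
    fieldAut D hF i (gT D a b) = gT D (frHom D i a) (frHom D i b) := Subtype.ext (map_T D i a b)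

theorem fieldAut_gH (i : ZMod (2 * m + 1)) (u : Fˣ) : fieldAut D hF i (gH D u) = gH D (frUnit D i u) :=
  Subtype.ext (map_H D i u)

omit hF in
theorem gH_inj {u v : Fˣ} (e : gH D u = gH D v) : u = v := by
  have e2 := congrArg (fun g : Cfsg.Sz F m => g.1.1 1 1) e
  simp [gH, H_val, hVec] at e2
  exact Units.ext (D.θ.injective e2)

omit hF in
theorem gH_oP0 (u : Fˣ) : gH D u • oP D 0 0 = oP D 0 0 := by rw [gH_oP, mul_zero, mul_zero]

/-- Conjugation as an automorphism fixing the translations and the torus forces the base pair to be fixed. -/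
theorem fix_pair_of_gfix {g : Cfsg.Sz F m} (h : g • oI D = oI D) (h' : g • oP D 0 0 = oP D 0 0) :
    ∃ u, g = gH D u := by
  obtain ⟨a, b, u, rfl⟩ := gfix_inf D hF h
  rw [mul_smul, gH_oP0, gT_oP] at h'
  obtain ⟨e1, e2⟩ := pP_inj D (congrArg Subtype.val h')
  rw [zero_add] at e1
  subst e1
  rw [map_zero, zero_mul, add_zero, zero_add] at e2
  subst e2
  exact ⟨u, by rw [gT_zero, one_mul]⟩

theorem unique_fix {a b : F} (h : a ≠ 0 ∨ b ≠ 0) {p : Cfsg.suzukiOvoid F m} (hp : gT D a b • p = p) : p = oI D := by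
  rcases (mem_Q_iff D hF).1 (⟨a, b, rfl⟩ : gT D a b ∈ Q D) with e | ⟨-, hu⟩
  · rw [← gT_zero D] at e
    obtain ⟨ea, eb⟩ := gT_inj D e
    exact absurd h (by simp [ea, eb])
  · exact hu p hp

theorem oP0_of_fix {u : Fˣ} (hu : u ≠ 1) {p : Cfsg.suzukiOvoid F m} (hp : gH D u • p = p) :
    p = oI D ∨ p = oP D 0 0 := by
  refine eq_pair_or D hF (fun e => hu (gH_inj D (e.trans (gH_one D).symm))) (oI_ne_oP D 0 0) (gH_oI D u)
    (gH_oP0 D u) hp

/-- A field automorphism is inner only when trivial. -/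
theorem fieldAut_inner {i : ZMod (2 * m + 1)} {x : Cfsg.Sz F m} (h : MulAut.conj x = fieldAut D hF i) : i = 0 := by
  have hT : ∀ a b, x * gT D a b * x⁻¹ = gT D (frHom D i a) (frHom D i b) := fun a b => by
    rw [← fieldAut_gT D hF i, ← h]; rfl
  have hH : ∀ u, x * gH D u * x⁻¹ = gH D (frUnit D i u) := fun u => by
    rw [← fieldAut_gH D hF i, ← h]; rfl
  have hI : x • oI D = oI D := by
    refine unique_fix D hF (a := frHom D i 1) (b := frHom D i 0) (Or.inl (by rw [map_one]; exact one_ne_zero)) ?_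
    rw [← hT 1 0]
    exact (conj_fix x (gT D 1 0)).2 (gT_oI D 1 0)
  have h0 : x • oP D 0 0 = oP D 0 0 := by
    obtain ⟨k, hk⟩ := exists_nonfixed D hF
    have hk0 : k ≠ 0 := fun e => hk (by rw [e, map_zero, add_zero])
    have hu : Units.mk0 k hk0 ≠ 1 := fun e => hk (by
      have : k = 1 := by simpa using congrArg Units.val e
      rw [this, map_one, D.add_self])
    have h1 : gH D (frUnit D i (Units.mk0 k hk0)) • (x • oP D 0 0) = x • oP D 0 0 := by
      rw [← hH]; exact (conj_fix x _).2 (gH_oP0 D _)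
    refine (oP0_of_fix D hF ?_ h1).resolve_left fun e => ?_
    · intro e
      refine hu (Units.ext ?_)
      have e' := congrArg Units.val e
      rw [frUnit_val, Units.val_one, ← map_one (frHom D i)] at e'
      exact (frHom D i).injective e'
    · exact oI_ne_oP D 0 0 (smul_left_cancel x (hI.trans e.symm))
  obtain ⟨u, rfl⟩ := fix_pair_of_gfix D hF hI h0
  refine fr_inj D hF fun z => ?_
  rw [fr_zero' hF]
  by_cases hz : z = 0
  · subst hz; exact map_zero (frHom D i)
  · have h1 := hH (Units.mk0 z hz)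
    rw [gH_mul, gH_inv, gH_mul, mul_comm u, mul_inv_cancel_right] at h1
    exact (congrArg Units.val (gH_inj D h1)).symm

/-- An automorphism fixing the Borel subgroup pointwise is trivial. -/
theorem aut_eq_one {γ : MulAut (Cfsg.Sz F m)} (hT : ∀ a b, γ (gT D a b) = gT D a b)
    (hH : ∀ u, γ (gH D u) = gH D u) : γ = 1 := by
  have hB : ∀ g : Cfsg.Sz F m, g • oI D = oI D → γ g = g := by
    intro g hg
    obtain ⟨a, b, u, rfl⟩ := gfix_inf D hF hg
    rw [map_mul, hT, hH]
  have hne : gw D • oI D ≠ oI D := by rw [gw_oI]; exact (oI_ne_oP D 0 0).symm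
  -- the image of the inversion normalises the torus
  have hwfix : γ (gw D) • oI D = oP D 0 0 := by
    obtain ⟨k, hk⟩ := exists_nonfixed D hF
    have hk0 : k ≠ 0 := fun e => hk (by rw [e, map_zero, add_zero])
    have hu : Units.mk0 k hk0 ≠ 1 := fun e => hk (by
      have : k = 1 := by simpa using congrArg Units.val e
      rw [this, map_one, D.add_self])
    set u := Units.mk0 k hk0
    have e1 : gw D * gH D u * (gw D)⁻¹ = gH D u⁻¹ := by
      have : (gw D)⁻¹ = gw D := inv_eq_of_mul_eq_one_right (Subtype.ext w_mul_w)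
      rw [this]; exact Subtype.ext (w_H_w D.θ u)
    have e2 : γ (gw D) * gH D u * (γ (gw D))⁻¹ = gH D u⁻¹ := by
      have := congrArg γ e1
      rwa [map_mul, map_mul, map_inv, hH, hH] at this
    have h2 : gH D u⁻¹ • (γ (gw D) • oI D) = γ (gw D) • oI D := by
      rw [← e2]; exact (conj_fix _ _).2 (gH_oI D u)
    refine (oP0_of_fix D hF (inv_ne_one.2 hu) h2).resolve_left fun e => hne ?_
    have h3 := hB _ e
    rw [γ.injective h3] at e
    exact e
  have hπ : ∀ (g : Cfsg.Sz F m), γ g • oI D = g • oI D := by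
    intro g
    rcases o_cases D (g • oI D) with e | ⟨x, y, e⟩
    · rw [hB g e]
    · have hfix : ((gT D x y * gw D)⁻¹ * g) • oI D = oI D := by
        rw [mul_smul, e, inv_smul_eq_iff, mul_smul, gw_oI, gT_oP]; simp
      have h1 := hB _ hfix
      have e2 : γ g = γ (gT D x y * gw D) * ((gT D x y * gw D)⁻¹ * g) := by
        conv_lhs => rw [← mul_inv_cancel_left (gT D x y * gw D) g]
        rw [map_mul, h1]
      rw [e2, mul_smul, hfix, map_mul, hT, mul_smul, hwfix, gT_oP, e]; simp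
  refine MulEquiv.ext fun g => ?_
  show γ g = g
  have hp : ∀ p : Cfsg.suzukiOvoid F m, γ g • p = g • p := by
    intro p
    obtain ⟨k, rfl⟩ := transitive D p
    rw [← hπ k, ← mul_smul, ← map_mul, hπ, mul_smul, hπ]
  refine (inv_mul_eq_one.1 (three_fixed D hF (g⁻¹ * γ g) (oI D) (oP D 0 0) (oP D 1 0) (oI_ne_oP D 0 0)
    (fun e => one_ne_zero (pP_inj D (congrArg Subtype.val e)).1.symm) (oI_ne_oP D 1 0) ?_ ?_ ?_)).symm
  all_goals rw [mul_smul, hp, inv_smul_smul]

/-- An automorphism fixing the translations and the torus as sets is a field automorphism times a torus one. -/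
theorem aut_borel {β : MulAut (Cfsg.Sz F m)} (hQ : ∀ g ∈ Q D, β g ∈ Q D) (hH : ∀ u, ∃ v, β (gH D u) = gH D v) :
    ∃ (x : Cfsg.Sz F m) (i : ZMod (2 * m + 1)), β = MulAut.conj x * fieldAut D hF i := by
  haveI := D.char2
  -- restriction to the translations
  let f : Q D →* Q D := (β.toMonoidHom.comp (Q D).subtype).codRestrict _ fun g => hQ g g.2
  have hf : Function.Injective f := fun p q e =>
    Subtype.ext (β.injective (congrArg Subtype.val e))
  obtain ⟨L, M, c, hL, hform, hrel⟩ :=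
    aut_data D hF (MulEquiv.ofBijective f ⟨hf, Finite.injective_iff_surjective.1 hf⟩)
  have hβ : ∀ a b, β (gT D a b) = gT D (L a) (c a + M b) := fun a b => congrArg Subtype.val (hform a b)
  have hc0 : c 0 = 0 := by
    have := hrel 0 0
    simp only [map_zero, mul_zero, add_zero, zero_add] at this
    linear_combination -this
  have hLM : ∀ x, M (D.θ x * x) = D.θ (L x) * L x := fun x => by
    have := hrel x x
    rw [D.add_self, hc0, add_zero, D.add_self, zero_add] at this
    exact this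
  have hBil : ∀ x y, M (D.θ x * y + D.θ y * x) = D.θ (L x) * L y + D.θ (L y) * L x := fun x y => by
    have h1 := hrel x y
    have h2 := hrel y x
    rw [add_comm y x] at h2
    rw [map_add]
    linear_combination h1 + h2 + (c x + c y - c (x + y)) * D.two
  obtain ⟨i, l, hl, hLi⟩ := semilinear D hF L M hL hLM hBil
  have hMi : ∀ z, M z = D.θ l * l * fr i z := by
    intro z
    obtain ⟨x, rfl⟩ := squares_surjective D hF z
    show M (D.θ x * x) = D.θ l * l * fr i (D.θ x * x)
    rw [hLM, hLi, fr_mul D, map_mul, show fr i (D.θ x) = D.θ (fr i x) from frHom_theta D i x]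
    ring
  have hcadd : ∀ x y, c (x + y) = c x + c y := fun x y => by
    have := hrel x y
    rw [hMi, hLi, hLi, fr_mul D, map_mul, show fr i (D.θ x) = D.θ (fr i x) from frHom_theta D i x] at this
    linear_combination this
  -- the square root of the scalar
  obtain ⟨s, hs⟩ : ∃ s : F, s ^ 2 = l := by
    obtain ⟨s, hs⟩ := (Finite.injective_iff_surjective.1 fun x y e => D.sq_inj e : Function.Surjective fun x : F => x ^ 2) l
    exact ⟨s, hs⟩
  have hs0 : s ≠ 0 := fun e => hl (by rw [← hs, e, zero_pow two_ne_zero])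
  set u := Units.mk0 s hs0 with hu
  have hcu : ∀ x y, (gH D u)⁻¹ * gT D ((u : F) ^ 2 * x) (D.θ u ^ 2 * (u : F) ^ 2 * y) * gH D u = gT D x y := by
    intro x y
    rw [← gH_gT]; group
  let γ : MulAut (Cfsg.Sz F m) := (MulAut.conj (gH D u))⁻¹ * β * fieldAut D hF (-i)
  have hγ : ∀ g, γ g = (gH D u)⁻¹ * β (fieldAut D hF (-i) g) * gH D u := fun g => rfl
  set k : F := (D.θ u ^ 2 * (u : F) ^ 2)⁻¹ with hk
  have hgne : D.θ (u : F) ^ 2 * (u : F) ^ 2 ≠ 0 :=
    mul_ne_zero (pow_ne_zero 2 ((map_ne_zero D.θ).2 u.ne_zero)) (pow_ne_zero 2 u.ne_zero)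
  let e : F → F := fun x => k * c (fr (-i) x)
  have hcancel : ∀ x, fr i (fr (-i) x) = x := fun x => by rw [fr_fr hF, add_neg_cancel, fr_zero' hF]
  have hγT : ∀ x y, γ (gT D x y) = gT D x (e x + y) := by
    intro x y
    rw [hγ, fieldAut_gT, hβ, hLi, hMi]
    show (gH D u)⁻¹ * gT D (l * fr i (fr (-i) x)) (c (fr (-i) x) + D.θ l * l * fr i (fr (-i) y)) * gH D u = _
    rw [hcancel, hcancel, ← hcu x (e x + y)]
    have hu2 : (u : F) ^ 2 = l := by simp [hu, hs]
    congr 3
    · rw [hu2]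
    · have : D.θ (u : F) ^ 2 * (u : F) ^ 2 = D.θ l * l := by rw [← map_pow, hu2]
      rw [mul_add, show D.θ (u : F) ^ 2 * (u : F) ^ 2 * e x = c (fr (-i) x) from mul_inv_cancel_left₀ hgne _, this]
  have hadd : ∀ x y, e (x + y) = e x + e y := fun x y => by
    simp only [e, fr_add D, hcadd, mul_add]
  have hγH : ∀ v, ∃ w, γ (gH D v) = gH D w := fun v => by
    obtain ⟨w, hw⟩ := hH (frUnit D (-i) v)
    exact ⟨w, by rw [hγ, fieldAut_gH, hw, gH_inv, gH_mul, gH_mul, mul_comm u⁻¹, inv_mul_cancel_right]⟩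
  have hscale : ∀ v, γ (gH D v) = gH D v ∧ ∀ x, D.θ v ^ 2 * (v : F) ^ 2 * e x = e ((v : F) ^ 2 * x) := by
    intro v
    obtain ⟨w, hw⟩ := hγH v
    have key : ∀ x, (w : F) ^ 2 * x = (v : F) ^ 2 * x ∧
        D.θ w ^ 2 * (w : F) ^ 2 * (e x + 0) = e ((v : F) ^ 2 * x) + D.θ v ^ 2 * (v : F) ^ 2 * 0 := by
      intro x
      have h := congrArg γ (gH_gT D v x 0)
      rw [map_mul, map_mul, map_inv, hw, hγT, hγT, gH_gT] at h
      exact gT_inj D h
    have hwv : w = v := Units.ext (D.sq_inj (by simpa using (key 1).1))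
    subst hwv
    exact ⟨hw, fun x => by simpa using (key x).2⟩
  -- the additive map must vanish
  have hez : ∀ z x, z ≠ 0 → e (z * x) = D.θ z * z * e x := by
    intro z x hz
    obtain ⟨r, rfl⟩ := (Finite.injective_iff_surjective.1 fun x y e => D.sq_inj e : Function.Surjective fun x : F => x ^ 2) z
    have hr : r ≠ 0 := fun e => hz (by rw [e]; simp)
    have := ((hscale (Units.mk0 r hr)).2 x).symm
    rw [Units.val_mk0] at this
    rw [this, map_pow]
  have he0 : e 0 = 0 := by have := hadd 0 0; rw [add_zero] at this; linear_combination -this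
  have he1 : e 1 = 0 := by
    obtain ⟨z, hz⟩ := exists_nonfixed D hF
    have hz0 : z ≠ 0 := fun e => hz (by rw [e, map_zero, add_zero])
    have hz1 : 1 + z ≠ 0 := fun e => hz (by
      have : z = 1 := by linear_combination e - 1 * D.two
      rw [this, map_one, D.add_self])
    have h1 := hez (1 + z) 1 hz1
    have h2 := hez z 1 hz0
    rw [mul_one] at h1 h2
    rw [hadd, h2, map_add, map_one] at h1
    refine (mul_eq_zero.1 (?_ : (D.θ z + z) * e 1 = 0)).resolve_left hz
    linear_combination -h1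
  have hz : ∀ x, e x = 0 := fun x => by
    by_cases hx : x = 0
    · rw [hx, he0]
    · have := hez x 1 hx
      rwa [mul_one, he1, mul_zero] at this
  have hγ1 : γ = 1 := aut_eq_one D hF (fun a b => by rw [hγT, hz, zero_add]) fun v => (hscale v).1
  refine ⟨gH D u, i, ?_⟩
  have h2 : MulAut.conj (gH D u) * γ * fieldAut D hF i = β := by
    show MulAut.conj (gH D u) * ((MulAut.conj (gH D u))⁻¹ * β * fieldAut D hF (-i)) * fieldAut D hF i = β
    rw [mul_assoc ((MulAut.conj (gH D u))⁻¹), mul_inv_cancel_left, mul_assoc, fieldAut_mul, neg_add_cancel,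
      fieldAut_zero, mul_one]
  rw [hγ1, mul_one] at h2
  exact h2.symm

/-- Every automorphism is inner times a field automorphism. -/
theorem aut_decomp (α : MulAut (Cfsg.Sz F m)) :
    ∃ (x : Cfsg.Sz F m) (i : ZMod (2 * m + 1)), α = MulAut.conj x * fieldAut D hF i := by
  classical
  haveI := Fact.mk Nat.prime_two
  obtain ⟨k, hk⟩ := MulAction.exists_smul_eq (Cfsg.Sz F m) (α • QS D hF) (QS D hF)
  have hQ1 : ∀ g ∈ Q D, k * α g * k⁻¹ ∈ Q D := by
    intro g hg
    have h1 : k * α g * k⁻¹ ∈ ((k • (α • QS D hF) : Sylow 2 (Cfsg.Sz F m)) : Subgroup (Cfsg.Sz F m)) :=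
      Subgroup.smul_mem_pointwise_smul _ (MulAut.conj k) _ (Subgroup.smul_mem_pointwise_smul g α _ hg)
    rw [hk] at h1
    exact h1
  let β : MulAut (Cfsg.Sz F m) := MulAut.conj k * α
  have hβQ : ∀ g ∈ Q D, β g ∈ Q D := hQ1
  set U : Subgroup (Cfsg.Sz F m) := (pairStab (oI D) (oP D 0 0)).map β.toMonoidHom
  have hUc : IsCyclic U := by
    haveI := pair_cyclic D hF (oI_ne_oP D 0 0) (pairStab (oI D) (oP D 0 0)) fun c hc => hc
    exact isCyclic_of_surjective _ (MonoidHom.subgroupMap_surjective β.toMonoidHom _)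
  have hUcard : Nat.card U = Fintype.card F - 1 := by
    rw [← card_pairStab D hF (oI_ne_oP D 0 0)]
    exact (Nat.card_congr (Subgroup.equivMapOfInjective _ _ β.injective).toEquiv).symm
  obtain ⟨a, b, hab, hU⟩ := (cyclic_card_cases D hF hUc).1 hUcard
  have hUI : ∀ g ∈ pairStab (oI D) (oP D 0 0), β g • oI D = oI D := by
    intro g hg
    obtain ⟨u, rfl⟩ := fix_pair_of_gfix D hF hg.1 hg.2
    have h1 : β (gH D u * gT D 1 0 * (gH D u)⁻¹) ∈ Q D := hβQ _ (by rw [gH_gT]; exact ⟨_, _, rfl⟩)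
    rw [map_mul, map_mul, map_inv] at h1
    obtain ⟨x, y, hxy⟩ := hβQ (gT D 1 0) ⟨_, _, rfl⟩
    obtain ⟨x', y', hxy'⟩ := h1
    have hne : x' ≠ 0 ∨ y' ≠ 0 := by
      by_contra hc
      push_neg at hc
      rw [hc.1, hc.2, gT_zero, conj_eq_one_iff, β.map_eq_one_iff, ← gT_zero D] at hxy'
      exact one_ne_zero (gT_inj D hxy').1
    refine unique_fix D hF hne ?_
    rw [← hxy', hxy]
    exact (conj_fix _ _).2 (gT_oI D x y)
  obtain ⟨z, hz, hz1⟩ : ∃ z ∈ U, z ≠ 1 := by
    by_contra hc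
    push_neg at hc
    have h1 : U = ⊥ := (Subgroup.eq_bot_iff_forall _).2 hc
    rw [h1, Subgroup.card_bot] at hUcard
    have := D.card_big hF
    have := Nat.one_le_two_pow (n := m)
    omega
  have hzI : z • oI D = oI D := by
    obtain ⟨g, hg, rfl⟩ := Subgroup.mem_map.1 hz
    exact hUI g hg
  obtain ⟨hza, hzb⟩ := mem_pairStab.1 (hU ▸ hz : z ∈ pairStab a b)
  obtain ⟨c, hc, hUc'⟩ : ∃ c, oI D ≠ c ∧ ∀ g ∈ U, g • c = c := by
    rcases eq_pair_or D hF hz1 hab hza hzb hzI with e | e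
    · exact ⟨b, e ▸ hab, fun g hg => (mem_pairStab.1 (hU ▸ hg : g ∈ pairStab a b)).2⟩
    · exact ⟨a, e ▸ hab.symm, fun g hg => (mem_pairStab.1 (hU ▸ hg : g ∈ pairStab a b)).1⟩
  obtain ⟨x, y, rfl⟩ := (o_cases D c).resolve_left fun e => hc e.symm
  let β' : MulAut (Cfsg.Sz F m) := MulAut.conj (gT D x y)⁻¹ * β
  have hQ' : ∀ g ∈ Q D, β' g ∈ Q D := fun g hg => by
    show (gT D x y)⁻¹ * β g * (gT D x y)⁻¹⁻¹ ∈ Q D
    exact mul_mem (mul_mem (inv_mem ⟨_, _, rfl⟩) (hβQ g hg)) (inv_mem (inv_mem ⟨_, _, rfl⟩))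
  have hH' : ∀ u, ∃ v, β' (gH D u) = gH D v := by
    intro u
    have hmem : gH D u ∈ pairStab (oI D) (oP D 0 0) := ⟨gH_oI D u, gH_oP0 D u⟩
    have hmU : β (gH D u) ∈ U := Subgroup.mem_map_of_mem _ hmem
    have eI : (gT D x y)⁻¹ • oI D = oI D := by rw [inv_smul_eq_iff, gT_oI]
    have eP : (gT D x y)⁻¹ • oP D x y = oP D 0 0 := by rw [inv_smul_eq_iff, gT_oP]; simp
    exact conj_pair D hF eI eP (hUI _ hmem) (hUc' _ hmU)
  obtain ⟨t, i, ht⟩ := aut_borel D hF hQ' hH'
  refine ⟨k⁻¹ * gT D x y * t, i, ?_⟩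
  rw [map_mul, map_mul, map_inv, mul_assoc (_ * _) (MulAut.conj t), ← ht]
  show α = (MulAut.conj k)⁻¹ * MulAut.conj (gT D x y) * (MulAut.conj (gT D x y)⁻¹ * (MulAut.conj k * α))
  rw [map_inv, mul_assoc, mul_inv_cancel_left, inv_mul_cancel_left]

/-- The outer automorphism group has order the degree of the field. -/
theorem card_out : Nat.card (Cfsg.Out (Cfsg.Sz F m)) = 2 * m + 1 := by
  have hb : Function.Bijective (fun i : ZMod (2 * m + 1) =>
      ((fieldAut D hF i : MulAut (Cfsg.Sz F m)) : Cfsg.Out (Cfsg.Sz F m))) := by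
    constructor
    · intro i j h
      obtain ⟨x, hx⟩ := QuotientGroup.eq.1 h
      have e : fieldAut D hF (-i + j) = (fieldAut D hF i)⁻¹ * fieldAut D hF j := by
        rw [← fieldAut_mul]
        congr 1
        exact eq_inv_of_mul_eq_one_left (by rw [fieldAut_mul, neg_add_cancel, fieldAut_zero])
      exact neg_add_eq_zero.1 (fieldAut_inner D hF (hx.trans e.symm))
    · intro o
      induction o using QuotientGroup.induction_on with
      | H α =>
        obtain ⟨x, i, rfl⟩ := aut_decomp D hF α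
        refine ⟨i, QuotientGroup.eq.2 ⟨(fieldAut D hF i)⁻¹ x, ?_⟩⟩
        refine MulEquiv.ext fun g => ?_
        show (fieldAut D hF i)⁻¹ x * g * ((fieldAut D hF i)⁻¹ x)⁻¹ =
          (fieldAut D hF i)⁻¹ (x * fieldAut D hF i g * x⁻¹)
        rw [map_mul, map_mul, map_inv, MulAut.inv_apply_self]
  rw [← Nat.card_eq_of_bijective _ hb, Nat.card_zmod]

end Cfsg.Agent.Suzuki
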