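/-
The arithmetic of the class equations of a subgroup of a Suzuki group.
-/
import Mathlib

set_option autoImplicit false

namespace Cfsg.Agent.Suzuki

/-- The two class equations and the side conditions of a subgroup with non-trivial partition. -/
structure SubEq {ι : Type*} (R : Finset ι) (n ν : ι → ℕ) (g s z N : ℕ) : Prop where
  card_eq : g = N * (s * (z - 1))
  eq1 : (g : ℚ) - 1 = N * ((s : ℚ) - 1) + g * ∑ i ∈ R, ((n i : ℚ) - 1) / ν i
  eq2 : (N : ℚ) * ((N : ℚ) - 1) * ((z : ℚ) - 1) ^ 2 =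
    g * ∑ i ∈ R, (if ν i = n i then 0 else (n i : ℚ) * ((n i : ℚ) - 1) / ν i)
  pow_z : ∃ j, 1 ≤ j ∧ z = 2 ^ j
  s_cases : s = z ∨ s = z ^ 2
  N_odd : Odd N
  N_ge : s + 1 ≤ N
  three : ¬ 3 ∣ g
  n_odd : ∀ i ∈ R, Odd (n i)
  n_gt : ∀ i ∈ R, 1 < n i
  n_dvd : ∀ i ∈ R, n i ∣ g
  ν_cases : ∀ i ∈ R, ν i = n i ∨ ν i = 2 * n i ∨ ν i = 4 * n i
  ν_four : ∀ i ∈ R, ν i = 4 * n i → s = z ^ 2
  ν_lt : ∀ i ∈ R, ν i ≠ g
  coprime : ∀ i ∈ R, ∀ j ∈ R, i ≠ j → Nat.Coprime (n i) (n j)
  borel : 2 < z → ∃ i ∈ R, n i = z - 1 ∧ (ν i = n i ∨ ν i = 2 * n i)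

variable {ι : Type*} {R : Finset ι} {n ν : ι → ℕ} {g s z N : ℕ}

theorem SubEq.five_le (h : SubEq R n ν g s z N) {i : ι} (hi : i ∈ R) : 5 ≤ n i := by
  have h1 := h.n_gt i hi
  have h3 : ¬ 3 ∣ n i := fun e => h.three (e.trans (h.n_dvd i hi))
  obtain ⟨k, hk⟩ := h.n_odd i hi
  omega

theorem SubEq.weight (h : SubEq R n ν g s z N) {i : ι} (hi : i ∈ R) :
    ((n i : ℚ) - 1) / ν i = if ν i = n i then 1 - 1 / (n i : ℚ) else
      if ν i = 2 * n i then (1 - 1 / (n i : ℚ)) / 2 else (1 - 1 / (n i : ℚ)) / 4 := by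
  have hn : (n i : ℚ) ≠ 0 := by have := h.five_le hi; positivity
  have := h.five_le hi
  rcases h.ν_cases i hi with e | e | e <;> rw [e]
  · rw [if_pos rfl]; field_simp
  · rw [if_neg (by omega), if_pos rfl]; push_cast; field_simp
  · rw [if_neg (by omega), if_neg (by omega)]; push_cast; field_simp

theorem SubEq.weight_ge (h : SubEq R n ν g s z N) {i : ι} (hi : i ∈ R) :
    (1 : ℚ) / 5 ≤ ((n i : ℚ) - 1) / ν i := by
  have h5 : (5 : ℚ) ≤ n i := by exact_mod_cast h.five_le hi
  have hinv : 1 / (n i : ℚ) ≤ 1 / 5 := by gcongr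
  rw [h.weight hi]
  split_ifs <;> linarith

theorem SubEq.weight_ge_two (h : SubEq R n ν g s z N) {i : ι} (hi : i ∈ R) (hν : ν i = n i ∨ ν i = 2 * n i) :
    (2 : ℚ) / 5 ≤ ((n i : ℚ) - 1) / ν i := by
  have h5 : (5 : ℚ) ≤ n i := by exact_mod_cast h.five_le hi
  have hinv : 1 / (n i : ℚ) ≤ 1 / 5 := by gcongr
  rw [h.weight hi]
  rcases hν with e | e
  · rw [if_pos e]; linarith
  · rw [if_neg (by have := h.five_le hi; omega), if_pos e]; linarith

theorem SubEq.pos (h : SubEq R n ν g s z N) : 2 ≤ z ∧ 2 ≤ s ∧ 1 ≤ N ∧ 0 < g := by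
  obtain ⟨j, hj, hz⟩ := h.pow_z
  have hz2 : 2 ≤ z := hz ▸ Nat.le_self_pow (by omega) 2
  have hs2 : 2 ≤ s := by
    rcases h.s_cases with e | e <;> rw [e]
    · exact hz2
    · exact hz2.trans (Nat.le_self_pow two_ne_zero z)
  refine ⟨hz2, hs2, by have := h.N_ge; omega, ?_⟩
  rw [h.card_eq]
  have h1 : 1 ≤ N := by have := h.N_ge; omega
  have h2 : 1 ≤ z - 1 := by omega
  positivity

theorem SubEq.z_ne_two (h : SubEq R n ν g s z N) : z ≠ 2 := by
  classical
  intro hz
  obtain ⟨-, hs2, hN1, hg⟩ := h.pos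
  have hgq : (g : ℚ) = N * s := by rw [h.card_eq, hz]; push_cast; ring
  have hgpos : (0 : ℚ) < g := by exact_mod_cast hg
  have hs : (0 : ℚ) < s := by positivity
  have hsum : ∑ i ∈ R, ((n i : ℚ) - 1) / ν i = 1 / s - 1 / g := by
    have e := h.eq1
    have : (g : ℚ) * (∑ i ∈ R, ((n i : ℚ) - 1) / ν i) = N - 1 := by rw [hgq] at e ⊢; linarith
    rw [eq_div_iff hgpos.ne' |>.2 (show (∑ i ∈ R, ((n i : ℚ) - 1) / ν i) * g = N - 1 by linarith)]
    have hN0 : (N : ℚ) ≠ 0 := by positivity
    rw [hgq]; field_simp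
  have hs24 : s = 2 ∨ s = 4 := by rcases h.s_cases with e | e <;> rw [e, hz] <;> norm_num
  have hle : (1 : ℚ) / s ≤ 1 / 2 := by
    gcongr; exact_mod_cast hs2
  have hg0 : (0 : ℚ) < 1 / g := by positivity
  have hcard : R.card ≤ 2 := by
    by_contra hc
    push_neg at hc
    have h1 : (R.card : ℚ) * (1 / 5) ≤ ∑ i ∈ R, ((n i : ℚ) - 1) / ν i := by
      rw [← nsmul_eq_mul]; exact Finset.card_nsmul_le_sum _ _ _ fun i hi => h.weight_ge hi
    have : (3 : ℚ) ≤ R.card := by exact_mod_cast hc
    linarith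
  rcases Nat.lt_or_ge R.card 1 with hc | hc
  · rw [Finset.card_eq_zero.1 (Nat.lt_one_iff.1 hc), Finset.sum_empty] at hsum
    have h1 : (s : ℚ) = g := by field_simp at hsum; linarith
    have h2 : N = 1 := by
      have : s = N * s := by exact_mod_cast h1.trans hgq
      exact Nat.eq_of_mul_eq_mul_right (by omega : 0 < s) (by rw [one_mul]; exact this.symm)
    have := h.N_ge
    omega
  rcases Nat.lt_or_ge R.card 2 with hc2 | hc2
  · obtain ⟨a, rfl⟩ := Finset.card_eq_one.1 (show R.card = 1 by omega)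
    rw [Finset.sum_singleton] at hsum
    have ha : a ∈ ({a} : Finset ι) := Finset.mem_singleton_self a
    have h5 : (5 : ℚ) ≤ n a := by exact_mod_cast h.five_le ha
    have hn0 : (n a : ℚ) ≠ 0 := by positivity
    have hinv : 1 / (n a : ℚ) ≤ 1 / 5 := by gcongr
    have hinv0 : 0 < 1 / (n a : ℚ) := by positivity
    have hw := h.weight ha
    have hνlt := h.ν_lt a ha
    rcases h.ν_cases a ha with e | e | e
    · rw [if_pos e] at hw; linarith
    · rw [if_neg (by have := h.five_le ha; omega), if_pos e] at hw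
      rcases hs24 with es | es <;> subst es <;> push_cast at hsum
      · refine hνlt ?_
        rw [e]
        have : (1 : ℚ) / g = 1 / ((2 * n a : ℕ) : ℚ) := by push_cast; rw [← div_div]; linarith [show (1 : ℚ) / 2 / (n a : ℚ) = (1 / 2) * (1 / (n a : ℚ)) by ring]
        rw [one_div, one_div, inv_inj] at this
        exact_mod_cast this.symm
      · linarith
    · rw [if_neg (by have := h.five_le ha; omega), if_neg (by have := h.five_le ha; omega)] at hw
      rcases hs24 with es | es <;> subst es <;> push_cast at hsum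
      · have := h.ν_four a ha e; rw [hz] at this; norm_num at this
      · refine hνlt ?_
        rw [e]
        have : (1 : ℚ) / g = 1 / ((4 * n a : ℕ) : ℚ) := by push_cast; rw [← div_div]; linarith [show (1 : ℚ) / 4 / (n a : ℚ) = (1 / 4) * (1 / (n a : ℚ)) by ring]
        rw [one_div, one_div, inv_inj] at this
        exact_mod_cast this.symm
  · obtain ⟨a, b, hab, rfl⟩ := Finset.card_eq_two.1 (show R.card = 2 by omega)
    rw [Finset.sum_pair hab] at hsum
    have ha : a ∈ ({a, b} : Finset ι) := Finset.mem_insert_self _ _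
    have hb : b ∈ ({a, b} : Finset ι) := Finset.mem_insert_of_mem (Finset.mem_singleton_self _)
    have w1 := h.weight_ge ha
    have w2 := h.weight_ge hb
    rcases h.ν_cases a ha with e | e | e
    · have := h.weight_ge_two ha (Or.inl e); linarith
    · have := h.weight_ge_two ha (Or.inr e); linarith
    · have h4 : s = 4 := by rw [h.ν_four a ha e, hz]; norm_num
      rw [h4] at hsum; push_cast at hsum; linarith

theorem SubEq.eight_le (h : SubEq R n ν g s z N) : 8 ≤ z ∧ 7 ≤ z - 1 := by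
  obtain ⟨j, hj, hz⟩ := h.pow_z
  have h2 := h.z_ne_two
  have h4 : z ≠ 4 := fun e => h.three (by rw [h.card_eq, e]; exact dvd_mul_of_dvd_right (dvd_mul_left 3 s) N)
  have : 3 ≤ j := by
    rcases Nat.lt_or_ge j 3 with hl | hl
    · interval_cases j <;> simp_all
    · exact hl
  have : 8 ≤ z := hz ▸ (show 8 = 2 ^ 3 by norm_num) ▸ Nat.pow_le_pow_right (by norm_num) this
  omega

/-- The only solution: a Suzuki group. -/
theorem SubEq.shape (h : SubEq R n ν g s z N) :
    8 ≤ z ∧ s = z ^ 2 ∧ N = z ^ 2 + 1 ∧ ∃ i ∈ R, n i = z - 1 ∧ ν i = 2 * (z - 1) := by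
  classical
  obtain ⟨hz2, hs2, hN1, hg⟩ := h.pos
  obtain ⟨hz8, hh7⟩ := h.eight_le
  obtain ⟨c, hc, hnc, hνc⟩ := h.borel (by omega)
  refine ⟨hz8, ?_⟩
  have hsplit : ∀ f : ι → ℚ, ∑ i ∈ R, f i = f c + ∑ i ∈ R.erase c, f i := fun f =>
    (Finset.add_sum_erase R f hc).symm
  set e : ℚ := ∑ i ∈ R.erase c, ((n i : ℚ) - 1) / ν i with he
  set H : ℚ := (z : ℚ) - 1 with hH
  have hHc : (n c : ℚ) = H := by rw [hnc, Nat.cast_sub (by omega), Nat.cast_one]
  have hH7 : (7 : ℚ) ≤ H := by rw [← hHc, hnc]; exact_mod_cast hh7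
  have hsq : (2 : ℚ) ≤ s := by exact_mod_cast hs2
  have hgq : (g : ℚ) = N * (s * H) := by rw [h.card_eq, hH]; push_cast [Nat.cast_sub (by omega : 1 ≤ z)]; ring
  have hgpos : (0 : ℚ) < g := by exact_mod_cast hg
  have hN0 : (0 : ℚ) < N := by exact_mod_cast hN1
  have hNge : (s : ℚ) + 1 ≤ N := by exact_mod_cast h.N_ge
  have hmain : ((n c : ℚ) - 1) / ν c + e = 1 - (1 - 1 / s) / H - 1 / g := by
    have e1 := h.eq1
    rw [hsplit] at e1
    have : (((n c : ℚ) - 1) / ν c + e) * g = g - 1 - N * (s - 1) := by rw [e1, he]; ring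
    rw [← eq_div_iff hgpos.ne'] at this
    rw [this, hgq]
    field_simp
    ring
  have hνc2 : ν c = 2 * n c := by
    rcases hνc with e0 | e0
    · exfalso
      have hw := h.weight hc
      rw [if_pos e0, hHc] at hw
      rw [hHc] at hmain
      rw [hw] at hmain
      have h1 : e = 1 / (s * H) - 1 / g := by rw [show 1 / ((s : ℚ) * H) = 1 / s / H by rw [div_div]]; linarith [sub_div (1 : ℚ) (1 / s) H]
      rcases (R.erase c).eq_empty_or_nonempty with hem | ⟨i, hi⟩
      · rw [he, hem, Finset.sum_empty] at h1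
        have h2 : (1 : ℚ) / (s * H) = 1 / g := by linarith
        rw [hgq, one_div, one_div, inv_inj] at h2
        nlinarith [mul_pos (show (0:ℚ) < s by linarith) (show (0:ℚ) < H by linarith)]
      · have h2 : (1 : ℚ) / 5 ≤ e := (h.weight_ge (Finset.mem_of_mem_erase hi)).trans
          (Finset.single_le_sum (f := fun i => ((n i : ℚ) - 1) / ν i)
            (fun j hj => le_trans (by norm_num) (h.weight_ge (Finset.mem_of_mem_erase hj))) hi)
        have h3 : (1 : ℚ) / (s * H) ≤ 1 / 14 := by gcongr; nlinarith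
        have h4 : (0 : ℚ) < 1 / g := by positivity
        linarith
    · exact e0
  have hwc : ((n c : ℚ) - 1) / ν c = (1 - 1 / H) / 2 := by
    rw [h.weight hc, if_neg (by have := h.five_le hc; omega), if_pos hνc2, hHc]
  have hesum : e = 1 / 2 - 1 / (2 * H) + 1 / (s * H) - 1 / g := by
    rw [hwc] at hmain
    have h1 : (1 - 1 / (s : ℚ)) / H = 1 / H - 1 / (s * H) := by rw [sub_div, div_div]
    have h2 : 1 / (2 * H) = 1 / H / 2 := by rw [div_div, mul_comm]
    linarith
  have hsH : (1 : ℚ) / (s * H) ≤ 1 / (2 * H) := by gcongr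
  have hg0 : (0 : ℚ) < 1 / g := by positivity
  have hlt : e < 1 / 2 := by linarith
  have h2H : (1 : ℚ) / (2 * H) ≤ 1 / 14 := by gcongr; linarith
  have hgbig : (1 : ℚ) / g ≤ 1 / 14 := by
    gcongr
    have hsH' : (14 : ℚ) ≤ s * H := by nlinarith
    have hN1' : (1 : ℚ) ≤ N := by linarith
    rw [hgq]; nlinarith
  have hsH0 : (0 : ℚ) < 1 / (s * H) := by positivity
  have hcard : (R.erase c).card ≤ 2 := by
    by_contra hcc
    push_neg at hcc
    have h1 : ((R.erase c).card : ℚ) * (1 / 5) ≤ e := by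
      rw [← nsmul_eq_mul, he]
      exact Finset.card_nsmul_le_sum _ _ _ fun i hi => h.weight_ge (Finset.mem_of_mem_erase hi)
    have : (3 : ℚ) ≤ (R.erase c).card := by exact_mod_cast hcc
    linarith
  rcases Nat.lt_or_ge (R.erase c).card 1 with h0 | h0
  · exfalso
    rw [he, Finset.card_eq_zero.1 (Nat.lt_one_iff.1 h0), Finset.sum_empty] at hesum
    linarith
  rcases Nat.lt_or_ge (R.erase c).card 2 with h1 | h1
  · -- one further class
    exfalso
    obtain ⟨a, ha'⟩ := Finset.card_eq_one.1 (show (R.erase c).card = 1 by omega)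
    have haR : a ∈ R := Finset.mem_of_mem_erase (ha' ▸ Finset.mem_singleton_self a)
    have hac : a ≠ c := Finset.ne_of_mem_erase (ha' ▸ Finset.mem_singleton_self a)
    rw [he, ha', Finset.sum_singleton] at hesum
    have hw := h.weight haR
    have h5 : (5 : ℚ) ≤ n a := by exact_mod_cast h.five_le haR
    have hinv : 1 / (n a : ℚ) ≤ 1 / 5 := by gcongr
    have hinv0 : 0 < 1 / (n a : ℚ) := by positivity
    rcases h.ν_cases a haR with e0 | e0 | e0
    · rw [if_pos e0] at hw; linarith
    · rw [if_neg (by have := h.five_le haR; omega), if_pos e0] at hw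
      have hq : (n a : ℚ) * (((s : ℚ) - 2) * N + 2) = s * H * N := by
        have h1 : 1 / (n a : ℚ) = 1 / H - 2 / (s * H) + 2 / g := by
          rw [show (2 : ℚ) / (s * H) = 2 * (1 / (s * H)) by ring, show (2 : ℚ) / g = 2 * (1 / g) by ring,
            show 1 / H = 2 * (1 / (2 * H)) by rw [← div_div]; ring]
          linarith
        rw [hgq] at h1
        field_simp at h1
        linear_combination -h1
      have hnat : n a * ((s - 2) * N + 2) = s * (z - 1) * N := by
        have : (((n a * ((s - 2) * N + 2)) : ℕ) : ℚ) = ((s * (z - 1) * N : ℕ) : ℚ) := by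
          push_cast [Nat.cast_sub hs2, Nat.cast_sub (by omega : 1 ≤ z)]
          exact hq
        exact_mod_cast this
      have hcop : Nat.Coprime N ((s - 2) * N + 2) := by
        rw [add_comm, Nat.coprime_add_mul_right_right]; exact Nat.coprime_two_right.2 h.N_odd
      obtain ⟨t, ht⟩ : N ∣ n a := (Nat.Coprime.dvd_of_dvd_mul_right hcop ⟨s * (z - 1), by rw [hnat, mul_comm]⟩)
      have heq : t * ((s - 2) * N + 2) = s * (z - 1) := by
        apply Nat.eq_of_mul_eq_mul_left (by omega : 0 < N)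
        rw [← mul_assoc, ← ht, hnat, mul_comm]
      have ht1 : 1 ≤ t := by
        rcases Nat.eq_zero_or_pos t with rfl | ht0
        · have := h.five_le haR; omega
        · exact ht0
      have hz1s : z ≤ s := by
        rcases h.s_cases with e1 | e1 <;> rw [e1]
        exact Nat.le_self_pow two_ne_zero z
      have hlow : s * (s - 1) ≤ (s - 2) * N + 2 := by
        obtain ⟨a', rfl⟩ : ∃ a', s = a' + 2 := ⟨s - 2, by omega⟩
        have hN' : a' + 3 ≤ N := h.N_ge
        have h1 := Nat.mul_le_mul_left a' hN'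
        simp only [Nat.add_sub_cancel, show a' + 2 - 1 = a' + 1 from rfl] at *
        nlinarith
      have h3 : (s - 2) * N + 2 ≤ t * ((s - 2) * N + 2) := Nat.le_mul_of_pos_left _ ht1
      have hsz : s - 1 ≤ z - 1 := Nat.le_of_mul_le_mul_left (hlow.trans (h3.trans heq.le)) (by omega)
      have hszeq : s = z := by omega
      have hteq : t = 1 := by
        have h4 : t * (s * (s - 1)) ≤ t * ((s - 2) * N + 2) := Nat.mul_le_mul_left t hlow
        rw [heq, hszeq] at h4
        have hp : 0 < z * (z - 1) := Nat.mul_pos (by omega) (by omega)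
        have := Nat.le_of_mul_le_mul_right (show t * (z * (z - 1)) ≤ 1 * (z * (z - 1)) by rw [one_mul]; exact h4) hp
        omega
      have hNeq : N = z + 1 := by
        rw [hteq, one_mul, hszeq] at heq
        obtain ⟨a', rfl⟩ : ∃ a', z = a' + 2 := ⟨z - 2, by omega⟩
        simp only [Nat.add_sub_cancel, show a' + 2 - 1 = a' + 1 from rfl] at heq
        have : a' * N = a' * (a' + 2 + 1) := by nlinarith
        exact Nat.eq_of_mul_eq_mul_left (by omega) this
      obtain ⟨j, -, hj⟩ := h.pow_z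
      have hjodd : Odd j := by
        by_contra hcon
        obtain ⟨r, hr⟩ := Nat.not_odd_iff_even.1 hcon
        have h3z : 3 ∣ z - 1 := by
          rw [hj, hr, ← two_mul, pow_mul]
          have h4 := Nat.sub_dvd_pow_sub_pow ((2 : ℕ) ^ 2) 1 r
          rw [one_pow] at h4
          exact h4
        exact h.three (h.card_eq ▸ dvd_mul_of_dvd_right (dvd_mul_of_dvd_right h3z _) _)
      have h3N : 3 ∣ N := by
        have : Odd j := hjodd
        have hd := this.nat_add_dvd_pow_add_pow 2 1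
        rw [one_pow] at hd
        rw [hNeq, hj]; exact hd
      exact h.three (h.card_eq ▸ dvd_mul_of_dvd_left h3N _)
    · rw [if_neg (by have := h.five_le haR; omega), if_neg (by have := h.five_le haR; omega)] at hw
      linarith
  · -- two further classes
    obtain ⟨a, b, hab, hR⟩ := Finset.card_eq_two.1 (show (R.erase c).card = 2 by omega)
    have haR : a ∈ R := Finset.mem_of_mem_erase (hR ▸ Finset.mem_insert_self a _)
    have hbR : b ∈ R := Finset.mem_of_mem_erase (hR ▸ Finset.mem_insert_of_mem (Finset.mem_singleton_self b))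
    have hac : a ≠ c := Finset.ne_of_mem_erase (hR ▸ Finset.mem_insert_self a _)
    have hbc : b ≠ c := Finset.ne_of_mem_erase (hR ▸ Finset.mem_insert_of_mem (Finset.mem_singleton_self b))
    rw [he, hR, Finset.sum_pair hab] at hesum
    have w1 := h.weight_ge haR
    have w2 := h.weight_ge hbR
    have hfour : ∀ i ∈ R, ∀ w : ℚ, (1 : ℚ) / 5 ≤ w → ((n i : ℚ) - 1) / ν i + w < 1 / 2 → ν i = 4 * n i := by
      intro i hi w hw hs'
      rcases h.ν_cases i hi with e0 | e0 | e0
      · have := h.weight_ge_two hi (Or.inl e0); linarith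
      · have := h.weight_ge_two hi (Or.inr e0); linarith
      · exact e0
    have ha4 := hfour a haR _ w2 (by linarith)
    have hb4 := hfour b hbR _ w1 (by linarith)
    have hs : s = z ^ 2 := h.ν_four a haR ha4
    refine ⟨hs, ?_, c, hc, hnc, hνc2.trans (by rw [hnc])⟩
    set A : ℚ := (n a : ℚ) with hA
    set B : ℚ := (n b : ℚ) with hB
    have hA5 : (5 : ℚ) ≤ A := by rw [hA]; exact_mod_cast h.five_le haR
    have hB5 : (5 : ℚ) ≤ B := by rw [hB]; exact_mod_cast h.five_le hbR
    have hsq' : (s : ℚ) = (H + 1) ^ 2 := by rw [hs, hH]; push_cast; ring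
    -- second equation
    have hE2 : ((N : ℚ) - 1) * H = (s : ℚ) * ((H - 1) / 2 + (A + B - 2) / 4) := by
      have e2 := h.eq2
      rw [hsplit, hR, Finset.sum_pair hab, if_neg (by have := h.five_le hc; omega),
        if_neg (by have := h.five_le haR; omega), if_neg (by have := h.five_le hbR; omega), hνc2, ha4, hb4] at e2
      push_cast at e2
      rw [hHc, hgq, ← hA, ← hB, ← hH] at e2
      apply mul_left_cancel₀ (mul_ne_zero hN0.ne' (show H ≠ 0 by linarith))
      calc (N : ℚ) * H * (((N : ℚ) - 1) * H) = (N : ℚ) * ((N : ℚ) - 1) * H ^ 2 := by ring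
        _ = _ := e2
        _ = _ := by field_simp; ring
    -- coprimality bound
    have hdiv : n c * n a * n b ∣ g := by
      refine Nat.Coprime.mul_dvd_of_dvd_of_dvd (Nat.Coprime.mul_left (h.coprime c hc b hbR hbc.symm)
        (h.coprime a haR b hbR hab)) ?_ (h.n_dvd b hbR)
      exact Nat.Coprime.mul_dvd_of_dvd_of_dvd (h.coprime c hc a haR hac.symm) (h.n_dvd c hc) (h.n_dvd a haR)
    have hodd : Odd (n c * n a * n b) := ((h.n_odd c hc).mul (h.n_odd a haR)).mul (h.n_odd b hbR)
    have hprod : n a * n b ≤ N := by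
      obtain ⟨j, -, hj⟩ := h.pow_z
      rw [show g = 2 ^ (j * 2) * (N * (2 ^ j - 1)) by rw [h.card_eq, hs, hj, ← pow_mul]; ring] at hdiv
      have h2 := (Nat.Coprime.pow_right _ (Nat.coprime_two_right.2 hodd)).dvd_of_dvd_mul_left hdiv
      rw [hnc, hj, mul_assoc] at h2
      have h2' : (2 ^ j - 1) * (n a * n b) ∣ (2 ^ j - 1) * N := by rwa [mul_comm N] at h2
      have hjpos : 0 < 2 ^ j - 1 := by omega
      exact Nat.le_of_dvd (by omega) (Nat.dvd_of_mul_dvd_mul_left hjpos h2')
    have hABN : A * B ≤ N := by rw [hA, hB]; exact_mod_cast hprod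
    -- first equation
    have hE1 : N * H * (s * (A + B)) = A * B * (2 * ((s : ℚ) - 2) * N + 4) := by
      have hwa := h.weight haR
      have hwb := h.weight hbR
      rw [if_neg (by have := h.five_le haR; omega), if_neg (by have := h.five_le haR; omega), ← hA] at hwa
      rw [if_neg (by have := h.five_le hbR; omega), if_neg (by have := h.five_le hbR; omega), ← hB] at hwb
      rw [hwa, hwb, hgq] at hesum
      have hA0 : A ≠ 0 := by linarith
      have hB0 : B ≠ 0 := by linarith
      field_simp at hesum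
      linear_combination -hesum / 2
    have hk : (N : ℚ) = 1 + s := by
      set k : ℚ := ((N : ℚ) - 1) / s with hk
      have hs0 : (s : ℚ) ≠ 0 := by positivity
      have hNk : (N : ℚ) = 1 + k * s := by rw [hk]; field_simp; ring
      have hk1 : 1 ≤ k := by rw [hk, le_div_iff₀ (by positivity)]; linarith
      have hX : A + B = 4 * k * H - 2 * H + 4 := by
        rw [hNk] at hE2
        have : k * H = (H - 1) / 2 + (A + B - 2) / 4 := mul_left_cancel₀ hs0 (by linear_combination hE2)
        linarith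
      have hY : N * H * (A + B) = A * B * (2 + 2 * k * (s - 2)) := by
        apply mul_left_cancel₀ hs0
        linear_combination hE1 + A * B * 2 * ((s : ℚ) - 2) * (hNk) - A * B * 2 * ((s:ℚ) - 2) * 0
      have hrhs : 0 ≤ 2 + 2 * k * ((s : ℚ) - 2) := by nlinarith
      have hle : H * (A + B) ≤ 2 + 2 * k * ((s : ℚ) - 2) :=
        le_of_mul_le_mul_left (by calc (N : ℚ) * (H * (A + B)) = A * B * (2 + 2 * k * (s - 2)) := by rw [← hY]; ring
          _ ≤ N * (2 + 2 * k * (s - 2)) := mul_le_mul_of_nonneg_right hABN hrhs) hN0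
      rw [hX, hsq'] at hle
      have : (k - 1) * (H - 1) ^ 2 ≤ 0 := by nlinarith
      have hk' : k = 1 := by nlinarith [sq_pos_of_pos (show (0 : ℚ) < H - 1 by linarith)]
      rw [hNk, hk', one_mul]
    have : N = s + 1 := by
      have : (N : ℚ) = ((s + 1 : ℕ) : ℚ) := by rw [hk]; push_cast; ring
      exact_mod_cast this
    rw [this, hs]

end Cfsg.Agent.Suzuki
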