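/-
Groups with the partition of a subgroup of a Suzuki group: the class equations.
-/
import Mathlib
import Cfsg.Agent.Lib.Suzuki.SubArith

set_option autoImplicit false

namespace Cfsg.Agent.Suzuki

open Subgroup
open scoped commutatorElement

/-- The properties of a Suzuki group that pass to subgroups. -/
structure SzLike (M : Type*) [Group M] : Prop where
  odd_cyc : ∀ x : M, x ≠ 1 → Odd (orderOf x) → IsCyclic (centralizer {x}) ∧ Odd (Nat.card (centralizer {x})) ∧
    (∀ y ∈ centralizer {x}, y ≠ 1 → centralizer {y} = centralizer {x}) ∧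
    Nat.card (normalizer ((centralizer {x} : Subgroup M) : Set M)) ∣ 4 * Nat.card (centralizer {x})
  invol : ∀ t : M, orderOf t = 2 → IsPGroup 2 (centralizer {t}) ∧
    (∀ u ∈ centralizer {t}, orderOf u = 2 → centralizer {u} = centralizer {t}) ∧
    (∀ v ∈ centralizer {t}, v ^ 4 = 1) ∧
    (∀ v ∈ centralizer {t}, ∀ w ∈ centralizer {t}, v ^ 2 = w ^ 2 → (v⁻¹ * w) ^ 2 = 1)
  three : ¬ 3 ∣ Nat.card M
  borel : ∀ t x y : M, orderOf t = 2 → x ∈ normalizer ((centralizer {t} : Subgroup M) : Set M) →
    y ∈ normalizer ((centralizer {t} : Subgroup M) : Set M) → x * y * x⁻¹ * y⁻¹ ∈ centralizer {t}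
  borel_odd : ∀ t x : M, orderOf t = 2 → x ∈ normalizer ((centralizer {t} : Subgroup M) : Set M) → x ≠ 1 →
    Odd (orderOf x) → centralizer {x} ≤ normalizer ((centralizer {t} : Subgroup M) : Set M) ∧
      ∀ y ∈ normalizer ((centralizer {x} : Subgroup M) : Set M), y ^ 2 ∈ centralizer {x}

section Basic

variable {M : Type*} [Group M]

theorem mem_centralizer_one {x y : M} : y ∈ centralizer {x} ↔ Commute y x := mem_centralizer_singleton_iff

theorem self_mem_centralizer (x : M) : x ∈ centralizer {x} := mem_centralizer_one.2 (Commute.refl x)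

theorem conj_mem_centralizer {x y k : M} :
    k * y * k⁻¹ ∈ centralizer {k * x * k⁻¹} ↔ y ∈ centralizer {x} := by
  rw [mem_centralizer_one, mem_centralizer_one]
  exact Commute.conj_iff k

theorem map_conj_centralizer (k x : M) :
    (centralizer {x}).map (MulAut.conj k).toMonoidHom = centralizer {k * x * k⁻¹} := by
  ext y
  constructor
  · rintro ⟨z, hz, rfl⟩
    exact conj_mem_centralizer.2 hz
  · intro hy
    refine ⟨k⁻¹ * y * k, ?_, by show k * (k⁻¹ * y * k) * k⁻¹ = y; group⟩
    apply (conj_mem_centralizer (k := k)).1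
    convert hy using 1
    group

theorem orderOf_two_iff {t : M} : orderOf t = 2 ↔ t ≠ 1 ∧ t ^ 2 = 1 := by
  haveI := Fact.mk Nat.prime_two
  exact ⟨fun h => ⟨fun e => by simp [e] at h, h ▸ pow_orderOf_eq_one t⟩, fun h => orderOf_eq_prime h.2 h.1⟩

end Basic

variable {M : Type*} [Group M] [Finite M] (S : SzLike M)
include S

theorem SzLike.exists_invol_pow {x : M} (h : ¬ Odd (orderOf x)) :
    ∃ n : ℕ, orderOf (x ^ n) = 2 := by
  obtain ⟨k, hk⟩ := Nat.not_odd_iff_even.1 h
  have hpos := orderOf_pos x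
  refine ⟨k, ?_⟩
  rw [orderOf_two_iff]
  refine ⟨pow_ne_one_of_lt_orderOf (by omega) (by omega), ?_⟩
  rw [← pow_mul, show k * 2 = orderOf x by omega, pow_orderOf_eq_one]

theorem SzLike.two_elt {x : M} (h : ¬ Odd (orderOf x)) : x ^ 4 = 1 := by
  obtain ⟨n, hn⟩ := S.exists_invol_pow h
  exact (S.invol _ hn).2.2.1 x (mem_centralizer_one.2 (Commute.self_pow x n))

theorem SzLike.odd_of_mem {x y : M} (hx : x ≠ 1) (hxo : Odd (orderOf x)) (hy : y ∈ centralizer {x}) :
    Odd (orderOf y) :=
  Odd.of_dvd_nat (S.odd_cyc x hx hxo).2.1 (Subgroup.orderOf_dvd_natCard _ hy)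

theorem SzLike.odd_two_disjoint {x : M} (hxo : Odd (orderOf x)) (h4 : x ^ 4 = 1) : x = 1 := by
  rw [← orderOf_eq_one_iff]
  exact Nat.Coprime.eq_one_of_dvd (Nat.Coprime.pow_right 2 (Nat.coprime_two_right.2 hxo))
    (orderOf_dvd_of_pow_eq_one (show x ^ 2 ^ 2 = 1 from h4))

/-- Every Sylow 2-subgroup is the centraliser of each of its involutions. -/
theorem SzLike.sylow_eq (P : Sylow 2 M) {t : M} (ht : t ∈ (P : Subgroup M)) (ht2 : orderOf t = 2) :
    (P : Subgroup M) = centralizer {t} := by
  haveI := Fact.mk Nat.prime_two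
  haveI : Nontrivial P := ⟨⟨⟨t, ht⟩, 1, fun e => by simp [show t = 1 from congrArg Subtype.val e] at ht2⟩⟩
  haveI := P.2.center_nontrivial
  obtain ⟨z, hz⟩ := exists_ne (1 : Subgroup.center P)
  have hz1 : ((z : P) : M) ≠ 1 := fun e => hz (Subtype.ext (Subtype.ext e))
  have hze : ¬ Odd (orderOf ((z : P) : M)) := by
    intro ho
    obtain ⟨k, hk⟩ := IsPGroup.iff_orderOf.1 P.2 (z : P)
    rw [← Subgroup.orderOf_coe] at hk
    rw [hk] at ho
    rcases Nat.eq_zero_or_pos k with rfl | hk0
    · exact hz1 (orderOf_eq_one_iff.1 hk)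
    · exact (Nat.not_odd_iff_even.2 (Nat.even_pow.2 ⟨even_two, hk0.ne'⟩)) ho
  obtain ⟨n, hn⟩ := S.exists_invol_pow hze
  have hle : (P : Subgroup M) ≤ centralizer {((z : P) : M) ^ n} := fun c hc => by
    rw [mem_centralizer_one]
    exact Commute.pow_right (congrArg Subtype.val (Subgroup.mem_center_iff.1 z.2 ⟨c, hc⟩)) n
  have hC := (S.invol _ hn).2.1 t (hle ht) ht2
  rw [hC]
  exact (P.3 (S.invol _ hn).1 hle).symm

theorem SzLike.exists_sylow {t : M} (ht : orderOf t = 2) :
    ∃ P : Sylow 2 M, (P : Subgroup M) = centralizer {t} := by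
  obtain ⟨P, hP⟩ := (S.invol t ht).1.exists_le_sylow
  exact ⟨P, S.sylow_eq P (hP (self_mem_centralizer t)) ht⟩

theorem SzLike.mem_sylow_iff {P : Sylow 2 M} {t : M} (hP : (P : Subgroup M) = centralizer {t})
    (ht : orderOf t = 2) {u : M} (hu : orderOf u = 2) :
    u ∈ (P : Subgroup M) ↔ centralizer {u} = centralizer {t} :=
  ⟨fun h => (S.invol t ht).2.1 u (hP ▸ h) hu, fun h => by rw [hP, ← h]; exact self_mem_centralizer u⟩

theorem SzLike.sylow_ti {P P' : Sylow 2 M} {x : M} (hx : x ≠ 1) (h : x ∈ (P : Subgroup M))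
    (h' : x ∈ (P' : Subgroup M)) : P = P' := by
  have he : ¬ Odd (orderOf x) := fun ho => hx (by
    obtain ⟨k, hk⟩ := IsPGroup.iff_orderOf.1 P.2 ⟨x, h⟩
    rw [← Subgroup.orderOf_coe] at hk
    rw [← orderOf_eq_one_iff, hk]
    rcases Nat.eq_zero_or_pos k with rfl | hk0
    · rfl
    · exact absurd (hk ▸ ho) (Nat.not_odd_iff_even.2 (Nat.even_pow.2 ⟨even_two, hk0.ne'⟩)))
  obtain ⟨n, hn⟩ := S.exists_invol_pow he
  apply Sylow.ext
  rw [S.sylow_eq P (pow_mem h n) hn, S.sylow_eq P' (pow_mem h' n) hn]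

/-- An odd-order centraliser is not normalised by a four-group. -/
theorem SzLike.no_four {x : M} (hx : x ≠ 1) (hxo : Odd (orderOf x)) (V : Subgroup M) (hV : Nat.card V = 4)
    (hVN : V ≤ normalizer ((centralizer {x} : Subgroup M) : Set M)) (hsq : ∀ v ∈ V, v ^ 2 = 1) : False := by
  obtain ⟨hc, hodd, hT, -⟩ := S.odd_cyc x hx hxo
  haveI := hc
  have hinv : ∀ i ∈ V, i ≠ 1 → i * x * i = x⁻¹ := by
    intro i hi hi1
    have hi2 : orderOf i = 2 := orderOf_two_iff.2 ⟨hi1, hsq i hi⟩
    have hii : i⁻¹ = i := inv_eq_of_mul_eq_one_right (by rw [← pow_two]; exact hsq i hi)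
    have hm : i * x * i ∈ centralizer {x} := by
      have := (Subgroup.mem_normalizer_iff.1 (hVN hi) x).1 (self_mem_centralizer x)
      rwa [hii] at this
    have hym : x * (i * x * i) ∈ centralizer {x} := mul_mem (self_mem_centralizer x) hm
    have hcomm : (i * x * i) * x = x * (i * x * i) := (mem_centralizer_one.1 hm)
    have hy : x * (i * x * i) = 1 := by
      by_contra hy
      have hiy : i ∈ centralizer {x * (i * x * i)} := by
        rw [mem_centralizer_one]
        show i * (x * (i * x * i)) = x * (i * x * i) * i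
        rw [show x * (i * x * i) * i = (i * i) * (x * (i * x * i)) * i by rw [← pow_two, hsq i hi, one_mul]]
        rw [show (i * i) * (x * (i * x * i)) * i = i * ((i * x * i) * x) * (i * i) by group]
        rw [← pow_two, hsq i hi, mul_one, hcomm]
      rw [hT _ hym hy] at hiy
      have := Odd.of_dvd_nat hodd (Subgroup.orderOf_dvd_natCard _ hiy)
      rw [hi2] at this
      exact absurd this (by decide)
    exact eq_inv_of_mul_eq_one_right hy
  haveI : Finite V := inferInstance
  haveI : Nontrivial V := Finite.one_lt_card_iff_nontrivial.1 (by omega)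
  obtain ⟨i, hi1⟩ := exists_ne (1 : V)
  obtain ⟨j, hj1, hji⟩ : ∃ j : V, j ≠ 1 ∧ j ≠ i := by
    by_contra hcon
    push_neg at hcon
    have : Nat.card V ≤ 2 := by
      rw [← Set.ncard_univ]
      refine (Set.ncard_le_ncard (fun v _ => ?_ : Set.univ ⊆ ({1, i} : Set V)) (Set.toFinite _)).trans
        ((Set.ncard_insert_le _ _).trans (by simp))
      by_cases hv : v = 1
      · simp [hv]
      · simp [hcon v hv]
    omega
  have e1 := hinv i i.2 (fun e => hi1 (Subtype.ext e))
  have e2 := hinv j j.2 (fun e => hj1 (Subtype.ext e))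
  have hj2 : (j : M) * j = 1 := by rw [← pow_two]; exact hsq j j.2
  have hi2 : (i : M) * i = 1 := by rw [← pow_two]; exact hsq i i.2
  have hmem : (j : M) * i ∈ centralizer {x} := by
    rw [mem_centralizer_one]
    calc (j : M) * i * x = j * (i * x * i) * i := by simp [mul_assoc, hi2]
      _ = j * x⁻¹ * i := by rw [e1]
      _ = j * (j * x * j) * i := by rw [e2]
      _ = x * (j * i) := by rw [show (j : M) * (j * x * j) * i = (j * j) * x * (j * i) by group, hj2, one_mul]
  have h1 := S.odd_two_disjoint (S.odd_of_mem hx hxo hmem)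
    (by rw [show ((j : M) * i) ^ 4 = (((j : M) * i) ^ 2) ^ 2 by rw [← pow_mul], hsq _ (mul_mem j.2 i.2), one_pow])
  exact hji (Subtype.ext (by rw [← mul_one (j : M), ← hi2, ← mul_assoc, h1, one_mul]))

section Count

omit S

/-- The centralisers of the non-trivial elements of odd order. -/
def OddCls (M : Type*) [Group M] : Type _ :=
  {C : Subgroup M // ∃ x : M, x ≠ 1 ∧ Odd (orderOf x) ∧ C = centralizer {x}}

noncomputable instance : Finite (OddCls M) := by unfold OddCls; infer_instance

noncomputable instance oddClsAction : MulAction M (OddCls M) where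
  smul k C := ⟨C.1.map (MulAut.conj k).toMonoidHom, by
    obtain ⟨x, hx, hxo, hC⟩ := C.2
    exact ⟨k * x * k⁻¹, fun e => hx (conj_eq_one_iff.1 e),
      by rwa [show k * x * k⁻¹ = MulAut.conj k x from rfl, MulEquiv.orderOf_eq],
      by rw [hC, map_conj_centralizer]⟩⟩
  one_smul C := Subtype.ext (by
    show C.1.map (MulAut.conj 1).toMonoidHom = C.1
    rw [map_one]; exact Subgroup.map_id _)
  mul_smul a b C := Subtype.ext (by
    show C.1.map (MulAut.conj (a * b)).toMonoidHom = (C.1.map (MulAut.conj b).toMonoidHom).map (MulAut.conj a).toMonoidHom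
    rw [map_mul, Subgroup.map_map]; rfl)

theorem oddCls_smul (k : M) (C : OddCls M) : (k • C).1 = C.1.map (MulAut.conj k).toMonoidHom := rfl

theorem oddCls_stabilizer (C : OddCls M) : MulAction.stabilizer M C = normalizer (C.1 : Set M) := by
  ext k
  rw [MulAction.mem_stabilizer_iff, Subgroup.mem_normalizer_iff]
  constructor
  · intro h y
    have h' : C.1.map (MulAut.conj k).toMonoidHom = C.1 := congrArg Subtype.val h
    constructor
    · exact fun hy => h' ▸ ⟨y, hy, rfl⟩
    · intro hy
      obtain ⟨z, hz, hze⟩ := h'.symm ▸ hy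
      have : z = y := (MulAut.conj k).injective hze
      exact this ▸ hz
  · intro h
    refine Subtype.ext ?_
    rw [oddCls_smul]
    ext y
    constructor
    · rintro ⟨z, hz, rfl⟩
      exact (h z).1 hz
    · intro hy
      refine ⟨k⁻¹ * y * k, (h _).2 ?_, by show k * (k⁻¹ * y * k) * k⁻¹ = y; group⟩
      convert hy using 1
      group

/-- The class of an element of odd order. -/
def clsOf {x : M} (hx : x ≠ 1) (hxo : Odd (orderOf x)) : OddCls M := ⟨_, x, hx, hxo, rfl⟩

end Count

theorem SzLike.mem_cls {C : OddCls M} {y : M} (hy : y ∈ C.1) (hy1 : y ≠ 1) :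
    Odd (orderOf y) ∧ centralizer {y} = C.1 := by
  obtain ⟨x, hx, hxo, hC⟩ := C.2
  rw [hC] at hy ⊢
  exact ⟨S.odd_of_mem hx hxo hy, (S.odd_cyc x hx hxo).2.2.1 y hy hy1⟩

/-- Sums over the elements of odd order, by classes of centralisers. -/
theorem SzLike.odd_sum [Fintype M] [DecidableEq M] [Fintype (MulAction.orbitRel.Quotient M (OddCls M))]
    (f : OddCls M → ℚ) (hf : ∀ (k : M) (C : OddCls M), f (k • C) = f C) :
    ∑ x : {x : M // x ≠ 1 ∧ Odd (orderOf x)}, f (clsOf x.2.1 x.2.2) =
      (Nat.card M : ℚ) * ∑ ω : MulAction.orbitRel.Quotient M (OddCls M),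
        f ω.out * ((Nat.card ω.out.1 : ℚ) - 1) / Nat.card (normalizer (ω.out.1 : Set M)) := by
  classical
  haveI : Fintype (OddCls M) := Fintype.ofFinite _
  rw [← Finset.sum_fiberwise Finset.univ
    (fun x : {x : M // x ≠ 1 ∧ Odd (orderOf x)} => clsOf x.2.1 x.2.2) _]
  have hfib : ∀ C : OddCls M, ∑ x ∈ (Finset.univ : Finset {x : M // x ≠ 1 ∧ Odd (orderOf x)}) with clsOf x.2.1 x.2.2 = C,
      f (clsOf x.2.1 x.2.2) = ((Nat.card C.1 : ℚ) - 1) * f C := by
    intro C
    rw [Finset.sum_congr rfl fun x hx => congrArg f (Finset.mem_filter.1 hx).2, Finset.sum_const, nsmul_eq_mul]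
    congr 1
    have e : {x : {x : M // x ≠ 1 ∧ Odd (orderOf x)} // clsOf x.2.1 x.2.2 = C} ≃ {y : C.1 // y ≠ 1} :=
      { toFun := fun x => ⟨⟨x.1.1, by
            have := congrArg Subtype.val x.2
            simp only [clsOf] at this
            rw [← this]; exact self_mem_centralizer _⟩, fun e => x.1.2.1 (congrArg Subtype.val e)⟩
        invFun := fun y => ⟨⟨y.1.1, fun e => y.2 (Subtype.ext e), (S.mem_cls y.1.2 fun e => y.2 (Subtype.ext e)).1⟩,
          Subtype.ext (S.mem_cls y.1.2 fun e => y.2 (Subtype.ext e)).2⟩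
        left_inv := fun x => rfl
        right_inv := fun y => rfl }
    rw [← Fintype.card_subtype, Fintype.card_congr e, ← Nat.card_eq_fintype_card]
    rw [Nat.card_eq_fintype_card, Fintype.card_subtype_compl, Fintype.card_subtype_eq,
      Nat.cast_sub (Fintype.card_pos), Nat.card_eq_fintype_card, Nat.cast_one]
  rw [Finset.sum_congr rfl fun C _ => hfib C]
  rw [← (MulAction.selfEquivSigmaOrbits M (OddCls M)).symm.sum_comp, Fintype.sum_sigma, Finset.mul_sum]
  refine Finset.sum_congr rfl fun ω _ => ?_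
  have hconst : ∀ C : MulAction.orbit M ω.out,
      ((Nat.card ((MulAction.selfEquivSigmaOrbits M (OddCls M)).symm ⟨ω, C⟩).1 : ℚ) - 1) *
        f ((MulAction.selfEquivSigmaOrbits M (OddCls M)).symm ⟨ω, C⟩) = ((Nat.card ω.out.1 : ℚ) - 1) * f ω.out := by
    intro C
    show ((Nat.card C.1.1 : ℚ) - 1) * f C.1 = _
    obtain ⟨k, hk⟩ := C.2
    have hk' : k • ω.out = C.1 := hk
    rw [← hk', hf, oddCls_smul,
      ← Nat.card_congr (Subgroup.equivMapOfInjective _ _ (MulAut.conj k).injective).toEquiv]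
  rw [Finset.sum_congr rfl fun C _ => hconst C, Finset.sum_const, Finset.card_univ, nsmul_eq_mul]
  have hos : Nat.card (MulAction.orbit M ω.out) * Nat.card (MulAction.stabilizer M ω.out) = Nat.card M := by
    rw [Nat.card_congr (MulAction.orbitEquivQuotientStabilizer M ω.out)]
    exact (Subgroup.card_eq_card_quotient_mul_card_subgroup _).symm
  rw [oddCls_stabilizer] at hos
  rw [← hos, Nat.card_eq_fintype_card (α := MulAction.orbit M ω.out)]
  have hpos : (Nat.card (normalizer (ω.out.1 : Set M)) : ℚ) ≠ 0 := by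
    exact_mod_cast Nat.card_pos.ne'
  push_cast
  field_simp

/-- Such a group with no non-trivial normal abelian subgroup has the numbers of a Suzuki group. -/
theorem SzLike.shape [Nontrivial M]
    (hA : ∀ A : Subgroup M, A.Normal → (∀ a ∈ A, ∀ b ∈ A, Commute a b) → A = ⊥) :
    ∃ (z : ℕ) (t x i : M), 8 ≤ z ∧ (∃ j, z = 2 ^ j) ∧ orderOf t = 2 ∧
      Nat.card (centralizer {t}) = z ^ 2 ∧
      Nat.card {v : M // v ∈ centralizer {t} ∧ v ^ 2 = 1} = z ∧
      Nat.card M = (z ^ 2 + 1) * (z ^ 2 * (z - 1)) ∧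
      Nat.card (normalizer ((centralizer {t} : Subgroup M) : Set M)) = z ^ 2 * (z - 1) ∧
      x ∈ normalizer ((centralizer {t} : Subgroup M) : Set M) ∧ x ≠ 1 ∧ Odd (orderOf x) ∧
      Nat.card (centralizer {x}) = z - 1 ∧ orderOf i = 2 ∧ i * x * i = x⁻¹ := by
  classical
  haveI := Fact.mk Nat.prime_two
  haveI : Fintype M := Fintype.ofFinite M
  -- the order is even
  obtain ⟨t, ht⟩ : ∃ t : M, orderOf t = 2 := by
    by_contra hcon
    push_neg at hcon
    have hodd : ∀ x : M, Odd (orderOf x) := fun x => by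
      by_contra he
      obtain ⟨n, hn⟩ := S.exists_invol_pow he
      exact hcon _ hn
    have hZ : IsZGroup M := ⟨fun p hp P => by
      haveI := Fact.mk hp
      rcases subsingleton_or_nontrivial P with h | h
      · exact isCyclic_of_subsingleton
      haveI := P.2.center_nontrivial
      obtain ⟨z, hz⟩ := exists_ne (1 : Subgroup.center P)
      have hz1 : ((z : P) : M) ≠ 1 := fun e => hz (Subtype.ext (Subtype.ext e))
      have hle : (P : Subgroup M) ≤ centralizer {((z : P) : M)} := fun c hc =>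
        mem_centralizer_one.2 (congrArg Subtype.val (Subgroup.mem_center_iff.1 z.2 ⟨c, hc⟩))
      haveI := (S.odd_cyc _ hz1 (hodd _)).1
      exact isCyclic_of_injective (Subgroup.inclusion hle) (Subgroup.inclusion_injective hle)⟩
    haveI := IsZGroup.isCyclic_commutator (G := M)
    letI : CommGroup (commutator M) := IsCyclic.commGroup
    have hbot := hA (commutator M) inferInstance fun a ha b hb =>
      congrArg Subtype.val (mul_comm (⟨a, ha⟩ : commutator M) ⟨b, hb⟩)
    have habel : ∀ a b : M, Commute a b := fun a b => by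
      have h1 : ⁅a, b⁆ ∈ commutator M := Subgroup.commutator_mem_commutator (Subgroup.mem_top a) (Subgroup.mem_top b)
      rw [hbot, Subgroup.mem_bot] at h1
      exact commutatorElement_eq_one_iff_mul_comm.1 h1
    exact top_ne_bot (hA ⊤ inferInstance fun a _ b _ => habel a b)
  obtain ⟨P, hP⟩ := S.exists_sylow ht
  set C := centralizer {t} with hC
  set NP := normalizer (C : Set M) with hNP
  have hCN : C ≤ NP := Subgroup.le_normalizer
  have ht1 : t ≠ 1 := (orderOf_two_iff.1 ht).1
  -- more than one Sylow subgroup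
  set N := Nat.card (Sylow 2 M) with hN
  have hNnorm : NP ≠ ⊤ := by
    intro htop
    haveI : C.Normal := Subgroup.normalizer_eq_top_iff.1 htop
    haveI : Nontrivial C := ⟨⟨⟨t, self_mem_centralizer t⟩, 1, fun e => ht1 (congrArg Subtype.val e)⟩⟩
    haveI := (S.invol t ht).1.center_nontrivial
    have h1 := hA ((Subgroup.center C).map C.subtype) inferInstance fun a ha b hb => by
      obtain ⟨a', ha', rfl⟩ := ha
      obtain ⟨b', hb', rfl⟩ := hb
      exact congrArg Subtype.val (Subgroup.mem_center_iff.1 hb' a')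
    obtain ⟨⟨y, hy⟩, hy1⟩ := exists_ne (1 : Subgroup.center C)
    have : (y : M) ∈ (Subgroup.center C).map C.subtype := ⟨y, hy, rfl⟩
    rw [h1, Subgroup.mem_bot] at this
    exact hy1 (Subtype.ext (Subtype.ext this))
  obtain ⟨P', hP'⟩ : ∃ P' : Sylow 2 M, P' ≠ P := by
    by_contra hcon
    push_neg at hcon
    refine hNnorm (eq_top_iff.2 fun g _ => ?_)
    have := Sylow.smul_eq_iff_mem_normalizer.1 (hcon (g • P))
    rw [hNP, ← hP]
    exact this
  -- all involutions are conjugate
  have hdiff : ∀ u v : M, orderOf u = 2 → orderOf v = 2 → centralizer {u} ≠ centralizer {v} →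
      Odd (orderOf (u * v)) := by
    intro u v hu hv hne
    by_contra he
    obtain ⟨n, hn⟩ := S.exists_invol_pow he
    obtain ⟨hu1, hu2⟩ := orderOf_two_iff.1 hu
    obtain ⟨hv1, hv2⟩ := orderOf_two_iff.1 hv
    rw [pow_two] at hu2 hv2
    have hui : u⁻¹ = u := inv_eq_of_mul_eq_one_right hu2
    have hvi : v⁻¹ = v := inv_eq_of_mul_eq_one_right hv2
    set c := (u * v) ^ n
    have hc2 : c⁻¹ = c := inv_eq_of_mul_eq_one_right (by rw [← pow_two]; exact (orderOf_two_iff.1 hn).2)
    have hcu : u ∈ centralizer {c} := by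
      rw [mem_centralizer_one]
      have h1 : u * c * u⁻¹ = c⁻¹ := by
        rw [← conj_pow, ← inv_pow]
        congr 1
        rw [mul_inv_rev, hui, hvi]
        calc u * (u * v) * u = (u * u) * v * u := by group
          _ = v * u := by rw [hu2, one_mul]
      rw [hc2] at h1
      exact mul_inv_eq_iff_eq_mul.1 h1
    have hcv : v ∈ centralizer {c} := by
      rw [mem_centralizer_one]
      have huv : Commute u c := mem_centralizer_one.1 hcu
      have : Commute (u * v) c := (Commute.refl (u * v)).pow_right n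
      have h3 := (huv.mul_left this)
      rwa [← mul_assoc, hu2, one_mul] at h3
    exact hne (((S.invol c hn).2.1 u hcu hu).trans ((S.invol c hn).2.1 v hcv hv).symm)
  have hconj_of : ∀ u v : M, orderOf u = 2 → orderOf v = 2 → centralizer {u} ≠ centralizer {v} →
      ∃ k : M, k * u * k⁻¹ = v := by
    intro u v hu hv hne
    obtain ⟨r, hr⟩ := hdiff u v hu hv hne
    obtain ⟨-, hu2⟩ := orderOf_two_iff.1 hu
    obtain ⟨-, hv2⟩ := orderOf_two_iff.1 hv
    rw [pow_two] at hu2 hv2
    have hui : u⁻¹ = u := inv_eq_of_mul_eq_one_right hu2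
    have hvi : v⁻¹ = v := inv_eq_of_mul_eq_one_right hv2
    refine ⟨(u * v) ^ r, ?_⟩
    have hinv : u * (u * v) ^ r = ((u * v) ^ r)⁻¹ * u := by
      rw [← inv_pow]
      exact SemiconjBy.pow_right (show u * (u * v) = (u * v)⁻¹ * u by
        rw [mul_inv_rev, hui, hvi]
        calc u * (u * v) = (u * u) * v := by group
          _ = v * (u * u) := by rw [hu2, one_mul, mul_one]
          _ = v * u * u := by group) r
    have hk : u * ((u * v) ^ r)⁻¹ = (u * v) ^ r * u := by
      rw [mul_inv_eq_iff_eq_mul, mul_assoc, hinv, mul_inv_cancel_left]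
    have h1 : (u * v) ^ (2 * r) = v * u := by
      rw [← mul_left_inj (u * v), ← pow_succ, ← hr, pow_orderOf_eq_one]
      calc (1 : M) = v * (u * u) * v := by rw [hu2, mul_one, hv2]
        _ = v * u * (u * v) := by group
    calc (u * v) ^ r * u * ((u * v) ^ r)⁻¹ = (u * v) ^ r * (u * ((u * v) ^ r)⁻¹) := by group
      _ = (u * v) ^ (2 * r) * u := by rw [hk, two_mul, pow_add]; group
      _ = v := by rw [h1, mul_assoc, hu2, mul_one]
  have hsylconj : ∀ u : M, orderOf u = 2 → ∃ k : M, k * t * k⁻¹ = u := by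
    intro u hu
    by_cases hne : centralizer {t} = centralizer {u}
    · obtain ⟨w, hw⟩ := MulAction.exists_smul_eq M P P'
      have hw2 : orderOf (w * t * w⁻¹) = 2 := by
        rw [show w * t * w⁻¹ = MulAut.conj w t from rfl, MulEquiv.orderOf_eq, ht]
      have hwne : centralizer {t} ≠ centralizer {w * t * w⁻¹} := by
        intro e
        refine hP' (Sylow.ext ?_)
        rw [← hw, Sylow.coe_subgroup_smul, hP]
        exact (map_conj_centralizer w t).trans e.symm
      obtain ⟨k₁, hk₁⟩ := hconj_of _ _ hw2 hu (hne ▸ hwne.symm)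
      exact ⟨k₁ * w, by rw [← hk₁]; group⟩
    · exact hconj_of t u ht hu hne
  -- the numbers
  set s := Nat.card C with hs
  have hdvd2 : ∀ {v : M}, v ∈ C → ∀ {u : M}, u ∈ C → v ^ 2 = 1 → u * v = v * u := by
    intro v hv u hu hv2
    rcases eq_or_ne v 1 with rfl | hv1
    · simp
    have := (S.invol t ht).2.1 v hv (orderOf_two_iff.2 ⟨hv1, hv2⟩)
    exact mem_centralizer_one.1 (this.symm ▸ hu)
  let Z : Subgroup M :=
    { carrier := {v | v ∈ C ∧ v ^ 2 = 1}
      one_mem' := ⟨one_mem _, one_pow 2⟩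
      mul_mem' := fun {v w} hv hw => ⟨mul_mem hv.1 hw.1, by
        have hc : Commute v w := hdvd2 hw.1 hv.1 hw.2
        rw [hc.mul_pow, hv.2, hw.2, one_mul]⟩
      inv_mem' := fun {v} hv => ⟨inv_mem hv.1, by rw [inv_pow, hv.2, inv_one]⟩ }
  set z := Nat.card Z with hzdef
  have hzcard : Nat.card {v : M // v ∈ C ∧ v ^ 2 = 1} = z := rfl
  have hZC : Z ≤ C := fun v hv => hv.1
  obtain ⟨j, hj⟩ : ∃ j, z = 2 ^ j := IsPGroup.iff_card.1 ((S.invol t ht).1.to_le hZC)
  have hz2 : 2 ≤ z := Finite.one_lt_card_iff_nontrivial.2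
    ⟨⟨⟨t, self_mem_centralizer t, (orderOf_two_iff.1 ht).2⟩, 1, fun e => ht1 (congrArg Subtype.val e)⟩⟩
  have hj1 : 1 ≤ j := by
    rcases Nat.eq_zero_or_pos j with rfl | h0
    · omega
    · exact h0
  have hNPmem : ∀ k : M, k ∈ NP ↔ centralizer {k * t * k⁻¹} = C := by
    intro k
    constructor
    · intro hk
      have hmem : k * t * k⁻¹ ∈ C := (Subgroup.mem_normalizer_iff.1 hk t).1 (self_mem_centralizer t)
      exact (S.invol t ht).2.1 _ hmem (by rw [show k * t * k⁻¹ = MulAut.conj k t from rfl, MulEquiv.orderOf_eq, ht])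
    · intro h
      rw [hNP, Subgroup.mem_normalizer_iff]
      intro y
      conv_rhs => rw [← h]
      exact conj_mem_centralizer.symm
  -- invert the stabiliser formula for the involutions of C
  have hNPcard : Nat.card NP = (z - 1) * s := by
    let e : {v : M // v ∈ C ∧ v ≠ 1 ∧ v ^ 2 = 1} → Type _ := fun v => {k : NP // (k : M) * t * (k : M)⁻¹ = v}
    have e1 : NP ≃ Σ v : {v : M // v ∈ C ∧ v ≠ 1 ∧ v ^ 2 = 1}, e v :=
      { toFun := fun k => ⟨⟨(k : M) * t * (k : M)⁻¹, by
          refine ⟨?_, fun e => ht1 (conj_eq_one_iff.1 e), by rw [conj_pow, (orderOf_two_iff.1 ht).2, mul_one, mul_inv_cancel]⟩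
          rw [← (hNPmem k).1 k.2]; exact self_mem_centralizer _⟩, ⟨k, rfl⟩⟩
        invFun := fun p => p.2.1
        left_inv := fun k => rfl
        right_inv := fun ⟨⟨v, hv⟩, ⟨k, hk⟩⟩ => Sigma.subtype_ext (Subtype.ext hk) rfl }
    have hfib : ∀ v, Nat.card (e v) = s := by
      rintro ⟨v, hvC, hv1, hv2⟩
      obtain ⟨k, hk⟩ := hsylconj v (orderOf_two_iff.2 ⟨hv1, hv2⟩)
      have hkN : k ∈ NP := (hNPmem k).2 (by
        rw [hk]; exact (S.invol t ht).2.1 v hvC (orderOf_two_iff.2 ⟨hv1, hv2⟩))
      refine Nat.card_congr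
        { toFun := fun p => ⟨k⁻¹ * (p.1 : M), by
            show k⁻¹ * (p.1 : M) ∈ centralizer {t}
            rw [mem_centralizer_one]
            have hp : (p.1 : M) * t * (p.1 : M)⁻¹ = v := p.2
            have h3 : (k⁻¹ * (p.1 : M)) * t * (k⁻¹ * (p.1 : M))⁻¹ = t := by
              rw [show (k⁻¹ * (p.1 : M)) * t * (k⁻¹ * (p.1 : M))⁻¹ = k⁻¹ * ((p.1 : M) * t * (p.1 : M)⁻¹) * k by group,
                hp, ← hk]
              group
            exact mul_inv_eq_iff_eq_mul.1 h3⟩
          invFun := fun c => ⟨⟨k * c, mul_mem hkN (hCN c.2)⟩, by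
            show k * (c : M) * t * (k * (c : M))⁻¹ = v
            rw [show k * (c : M) * t * (k * (c : M))⁻¹ = k * ((c : M) * t * (c : M)⁻¹) * k⁻¹ by group,
              (mem_centralizer_one.1 c.2).eq, mul_inv_cancel_right, hk]⟩
          left_inv := fun p => Subtype.ext (Subtype.ext (by simp))
          right_inv := fun c => Subtype.ext (by simp) }
    rw [Nat.card_congr e1, Nat.card_sigma, Finset.sum_congr rfl fun v _ => hfib v, Finset.sum_const,
      Finset.card_univ, smul_eq_mul]
    congr 1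
    have e2 : {v : M // v ∈ C ∧ v ≠ 1 ∧ v ^ 2 = 1} ≃ {v : Z // v ≠ 1} :=
      { toFun := fun v => ⟨⟨v.1, v.2.1, v.2.2.2⟩, fun e => v.2.2.1 (congrArg Subtype.val e)⟩
        invFun := fun v => ⟨v.1.1, v.1.2.1, fun e => v.2 (Subtype.ext e), v.1.2.2⟩
        left_inv := fun v => rfl
        right_inv := fun v => rfl }
    rw [Fintype.card_congr e2, Fintype.card_subtype_compl, Fintype.card_subtype_eq, hzdef,
      Nat.card_eq_fintype_card]
  -- the squares
  have hscases : s = z ∨ s = z ^ 2 := by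
    let sq : C → M := fun v => (v : M) ^ 2
    have hfib : ∀ v w : C, sq v = sq w ↔ (v : M)⁻¹ * w ∈ Z := by
      intro v w
      constructor
      · exact fun h => ⟨mul_mem (inv_mem v.2) w.2, (S.invol t ht).2.2.2 v v.2 w w.2 h⟩
      · intro h
        have hc : Commute (v : M) ((v : M)⁻¹ * w) := hdvd2 h.1 v.2 h.2
        show (v : M) ^ 2 = (w : M) ^ 2
        conv_rhs => rw [← mul_inv_cancel_left (v : M) (w : M), hc.mul_pow, h.2, mul_one]
    have hrange : ∀ v ∈ Set.range sq, v ∈ Z := by
      rintro v ⟨u, rfl⟩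
      exact ⟨pow_mem u.2 2, by rw [← pow_mul]; exact (S.invol t ht).2.2.1 u u.2⟩
    have eq' : C ⧸ Z.subgroupOf C ≃ Set.range sq :=
      (Quotient.congr (Equiv.refl C) (fun a b => by
        show QuotientGroup.leftRel (Z.subgroupOf C) a b ↔ Setoid.ker sq a b
        rw [QuotientGroup.leftRel_apply, Setoid.ker_def, hfib, Subgroup.mem_subgroupOf]
        rfl)).trans (Setoid.quotientKerEquivRange sq)
    have hsplit : s = Nat.card (Set.range sq) * z := by
      rw [hs, Subgroup.card_eq_card_quotient_mul_card_subgroup (Z.subgroupOf C), Nat.card_congr eq',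
        Nat.card_congr (Subgroup.subgroupOfEquivOfLe hZC).toEquiv]
    by_cases hex : ∃ v ∈ Set.range sq, v ≠ 1
    · right
      obtain ⟨v, ⟨u, rfl⟩, hv1⟩ := hex
      have hall : Set.range sq = (Z : Set M) := by
        refine Set.Subset.antisymm hrange fun w hw => ?_
        by_cases hw1 : w = 1
        · exact ⟨1, by simp [sq, hw1]⟩
        have hvZ := hrange _ ⟨u, rfl⟩
        obtain ⟨k₁, hk₁⟩ := hsylconj _ (orderOf_two_iff.2 ⟨hv1, hvZ.2⟩)
        obtain ⟨k₂, hk₂⟩ := hsylconj w (orderOf_two_iff.2 ⟨hw1, hw.2⟩)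
        set k := k₂ * k₁⁻¹
        have hkv : k * sq u * k⁻¹ = w := by rw [← hk₂, ← hk₁]; simp only [k]; group
        have hk : k ∈ NP := by
          rw [hNP, Subgroup.mem_normalizer_iff]
          intro y
          have h1 := (S.invol t ht).2.1 _ hvZ.1 (orderOf_two_iff.2 ⟨hv1, hvZ.2⟩)
          have h2 := (S.invol t ht).2.1 w hw.1 (orderOf_two_iff.2 ⟨hw1, hw.2⟩)
          have h3 := conj_mem_centralizer (k := k) (x := sq u) (y := y)
          rw [hkv, h2, h1] at h3
          exact h3.symm
        refine ⟨⟨k * u * k⁻¹, (Subgroup.mem_normalizer_iff.1 hk u).1 u.2⟩, ?_⟩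
        show (k * (u : M) * k⁻¹) ^ 2 = w
        rw [conj_pow]; exact hkv
      rw [hsplit, Nat.card_congr (Equiv.setCongr hall), pow_two]
      rfl
    · left
      push_neg at hex
      have : Set.range sq = {1} := Set.Subset.antisymm (fun v hv => hex v hv) (by
        rintro v rfl; exact ⟨1, by simp [sq]⟩)
      rw [hsplit, Nat.card_congr (Equiv.setCongr this), Nat.card_eq_one_iff_unique.2 ⟨inferInstance, inferInstance⟩,
        one_mul]
  -- an element of order four forces the larger case
  have hfour : (∃ v : M, v ^ 4 = 1 ∧ v ^ 2 ≠ 1) → s = z ^ 2 := by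
    rintro ⟨v, hv4, hv2⟩
    rcases hscases with e | e
    · exfalso
      have hZeq : Z = C := Subgroup.eq_of_le_of_card_ge hZC (by rw [← hs, e])
      have hvP : IsPGroup 2 (Subgroup.zpowers v) := by
        rintro ⟨y, hy⟩
        obtain ⟨i, rfl⟩ := Subgroup.mem_zpowers_iff.1 hy
        refine ⟨2, Subtype.ext ?_⟩
        show (v ^ i) ^ (2 ^ 2) = 1
        rw [← zpow_natCast, ← zpow_mul, mul_comm, zpow_mul, zpow_natCast]
        rw [show v ^ (2 ^ 2) = 1 from hv4, one_zpow]
      obtain ⟨Q₁, hQ₁⟩ := hvP.exists_le_sylow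
      obtain ⟨k, hk⟩ := MulAction.exists_smul_eq M Q₁ P
      have : k * v * k⁻¹ ∈ Z := by
        rw [hZeq, ← hP, ← hk, Sylow.coe_subgroup_smul]
        exact Subgroup.smul_mem_pointwise_smul _ (MulAut.conj k) _ (hQ₁ (Subgroup.mem_zpowers v))
      have h2 := this.2
      rw [conj_pow, conj_eq_one_iff] at h2
      exact hv2 h2
    · exact e
  -- the Sylow subgroups
  have hgN : Nat.card M = N * (s * (z - 1)) := by
    rw [hN, P.card_eq_index_normalizer, show normalizer (P : Set M) = NP by rw [hNP, ← hP]; rfl, mul_comm s,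
      ← hNPcard, Subgroup.index_mul_card]
  have hNodd : Odd N := by
    have := card_sylow_modEq_one 2 M
    exact Nat.odd_iff.2 this
  have hNge : s + 1 ≤ N := by
    have hinj : Function.Injective fun u : (P : Subgroup M) => ((u : M) • P' : Sylow 2 M) := by
      intro u v e
      simp only at e
      have h1 : ((v : M)⁻¹ * u) • P' = P' := by rw [mul_smul, e, inv_smul_smul]
      rw [Sylow.smul_eq_iff_mem_normalizer] at h1
      have hmemP : (v : M)⁻¹ * u ∈ (P : Subgroup M) := mul_mem (inv_mem v.2) u.2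
      have hp : IsPGroup 2 (Subgroup.zpowers ((v : M)⁻¹ * u)) := P.2.to_le (Subgroup.zpowers_le.2 hmemP)
      have h2 : Subgroup.zpowers ((v : M)⁻¹ * u) ≤ P' := by
        have := IsPGroup.inf_normalizer_sylow hp P'
        exact inf_eq_left.1 (this.symm.trans (inf_eq_left.2 (Subgroup.zpowers_le.2 h1)))
      by_contra hne
      exact hP' (S.sylow_ti (fun e1 => hne (Subtype.ext (inv_mul_eq_one.1 e1).symm)) (h2 (Subgroup.mem_zpowers _)) hmemP)
    have hrange : ∀ u : (P : Subgroup M), ((u : M) • P' : Sylow 2 M) ≠ P := by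
      intro u e
      apply hP'
      rw [← inv_smul_smul (u : M) P', e, Sylow.smul_eq_iff_mem_normalizer]
      exact inv_mem (Subgroup.le_normalizer u.2)
    let f : Option (P : Subgroup M) → Sylow 2 M := fun o => o.elim P fun u => (u : M) • P'
    have hf : Function.Injective f := by
      rintro (_ | u) (_ | v) e
      · rfl
      · exact absurd e.symm (hrange v)
      · exact absurd e (hrange u)
      · exact congrArg some (hinj e)
    have := Nat.card_le_card_of_injective f hf
    rw [Finite.card_option, show Nat.card (P : Subgroup M) = s by rw [hP]] at this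
    exact this
  -- the classes
  haveI : Fintype (OddCls M) := Fintype.ofFinite _
  haveI : Fintype (MulAction.orbitRel.Quotient M (OddCls M)) := Fintype.ofFinite _
  let n : MulAction.orbitRel.Quotient M (OddCls M) → ℕ := fun ω => Nat.card ω.out.1
  let ν : MulAction.orbitRel.Quotient M (OddCls M) → ℕ := fun ω => Nat.card (normalizer (ω.out.1 : Set M))
  have hclass : ∀ K : OddCls M, Odd (Nat.card K.1) ∧ 1 < Nat.card K.1 ∧
      Nat.card (normalizer (K.1 : Set M)) ∣ 4 * Nat.card K.1 ∧ IsCyclic K.1 := by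
    intro K
    obtain ⟨x, hx, hxo, hK⟩ := K.2
    rw [hK]
    obtain ⟨h1, h2, -, h4⟩ := S.odd_cyc x hx hxo
    exact ⟨h2, Finite.one_lt_card_iff_nontrivial.2
      ⟨⟨⟨x, self_mem_centralizer x⟩, 1, fun e => hx (congrArg Subtype.val e)⟩⟩, h4, h1⟩
  have hνcases : ∀ K : OddCls M, Nat.card (normalizer (K.1 : Set M)) = Nat.card K.1 ∨
      Nat.card (normalizer (K.1 : Set M)) = 2 * Nat.card K.1 ∨
      Nat.card (normalizer (K.1 : Set M)) = 4 * Nat.card K.1 := by
    intro K
    obtain ⟨-, hgt, hdvd, -⟩ := hclass K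
    obtain ⟨l, hl⟩ := Subgroup.card_dvd_of_le (Subgroup.le_normalizer (H := K.1))
    rw [hl, mul_comm 4] at hdvd
    have h4 : l ∣ 4 := Nat.dvd_of_mul_dvd_mul_left (by omega) hdvd
    have : l ∈ ({1, 2, 4} : Finset ℕ) := (show Nat.divisors 4 = {1, 2, 4} by decide) ▸ Nat.mem_divisors.2 ⟨h4, by norm_num⟩
    simp only [Finset.mem_insert, Finset.mem_singleton] at this
    rcases this with rfl | rfl | rfl
    · left; rw [hl, mul_one]
    · right; left; rw [hl, mul_comm]
    · right; right; rw [hl, mul_comm]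
  have hνfour : ∀ K : OddCls M, Nat.card (normalizer (K.1 : Set M)) = 4 * Nat.card K.1 → s = z ^ 2 := by
    intro K hK
    apply hfour
    by_contra hcon
    push_neg at hcon
    obtain ⟨V, hV, hVN⟩ := Sylow.exists_subgroup_card_pow_prime_le 2 (show 2 ^ 2 ∣ Nat.card (normalizer (K.1 : Set M)) from
      ⟨Nat.card K.1, hK⟩) (⊥ : Subgroup (normalizer (K.1 : Set M))) (n := 0) (by simp) (Nat.zero_le 2)
    obtain ⟨x, hx, hxo, hKx⟩ := K.2
    refine S.no_four hx hxo (V.map (Subgroup.subtype _)) ?_ (hKx ▸ Subgroup.map_subtype_le V) fun v hv => ?_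
    · rw [← Nat.card_congr (Subgroup.equivMapOfInjective _ _ (Subgroup.subtype_injective _)).toEquiv, hV]; norm_num
    · obtain ⟨v', hv', rfl⟩ := Subgroup.mem_map.1 hv
      refine hcon _ ?_
      have hd : orderOf v' ∣ 4 := by
        have := Subgroup.orderOf_dvd_natCard V hv'
        rwa [hV] at this
      show ((v' : M)) ^ 4 = 1
      rw [← Subgroup.coe_pow, orderOf_dvd_iff_pow_eq_one.1 hd, Subgroup.coe_one]
  have hcop : ∀ ω ω' : MulAction.orbitRel.Quotient M (OddCls M), ω ≠ ω' → Nat.Coprime (n ω) (n ω') := by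
    intro ω ω' hne
    refine Nat.coprime_of_dvd fun p hp h1 h2 => hne ?_
    haveI := Fact.mk hp
    obtain ⟨⟨x, hxK⟩, hx⟩ := exists_prime_orderOf_dvd_card' p h1
    obtain ⟨⟨y, hyK⟩, hy⟩ := exists_prime_orderOf_dvd_card' p h2
    rw [← Subgroup.orderOf_coe] at hx hy
    have hx1 : x ≠ 1 := fun e => hp.ne_one (by rw [← hx, orderOf_eq_one_iff]; exact e)
    have hy1 : y ≠ 1 := fun e => hp.ne_one (by rw [← hy, orderOf_eq_one_iff]; exact e)
    obtain ⟨hxo, hCx⟩ := S.mem_cls hxK hx1
    obtain ⟨hyo, hCy⟩ := S.mem_cls hyK hy1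
    have hsyl : ∀ (a : M), a ≠ 1 → Odd (orderOf a) → orderOf a = p →
        ∃ Q₁ : Sylow p M, (Q₁ : Subgroup M) ≤ centralizer {a} ∧ a ∈ (Q₁ : Subgroup M) := by
      intro a ha hao hap
      obtain ⟨Q₁, hQ₁⟩ := (IsPGroup.of_card (n := 1) (by rw [Nat.card_zpowers, hap, pow_one]) :
        IsPGroup p (Subgroup.zpowers a)).exists_le_sylow
      have haQ := hQ₁ (Subgroup.mem_zpowers a)
      haveI : Nontrivial Q₁ := ⟨⟨⟨a, haQ⟩, 1, fun e => ha (congrArg Subtype.val e)⟩⟩
      haveI := Q₁.2.center_nontrivial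
      obtain ⟨w, hw⟩ := exists_ne (1 : Subgroup.center Q₁)
      have hw1 : ((w : Q₁) : M) ≠ 1 := fun e => hw (Subtype.ext (Subtype.ext e))
      have hwa : ((w : Q₁) : M) ∈ centralizer {a} := mem_centralizer_one.2
        (congrArg Subtype.val (Subgroup.mem_center_iff.1 w.2 ⟨a, haQ⟩)).symm
      refine ⟨Q₁, fun c hc => ?_, haQ⟩
      rw [← (S.odd_cyc a ha hao).2.2.1 _ hwa hw1]
      exact mem_centralizer_one.2 (congrArg Subtype.val (Subgroup.mem_center_iff.1 w.2 ⟨c, hc⟩))
    obtain ⟨Q₁, hQ₁, hxQ⟩ := hsyl x hx1 hxo hx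
    obtain ⟨Q₂, hQ₂, -⟩ := hsyl y hy1 hyo hy
    obtain ⟨k, hk⟩ := MulAction.exists_smul_eq M Q₁ Q₂
    have hmem : k * x * k⁻¹ ∈ ω'.out.1 := by
      rw [← hCy]
      refine hQ₂ ?_
      rw [← hk, Sylow.coe_subgroup_smul]
      exact Subgroup.smul_mem_pointwise_smul _ (MulAut.conj k) _ hxQ
    have e : k • ω.out = ω'.out := by
      refine Subtype.ext ?_
      rw [oddCls_smul, ← hCx, map_conj_centralizer]
      exact (S.mem_cls hmem fun e => hx1 (conj_eq_one_iff.1 e)).2
    have h' := Quotient.sound (s := MulAction.orbitRel M (OddCls M)) (show ω'.out ∈ MulAction.orbit M ω.out from ⟨k, e⟩)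
    rw [Quotient.out_eq, Quotient.out_eq] at h'
    exact h'.symm
  have hνlt : ∀ ω, ν ω ≠ Nat.card M := by
    intro ω e
    haveI : (ω.out.1).Normal := Subgroup.normalizer_eq_top_iff.1 (Subgroup.eq_top_of_card_eq _ e)
    obtain ⟨-, hgt, -, hcyc⟩ := hclass ω.out
    haveI := hcyc
    letI : CommGroup ω.out.1 := IsCyclic.commGroup
    have h1 := hA ω.out.1 inferInstance fun a ha b hb =>
      congrArg Subtype.val (mul_comm (⟨a, ha⟩ : ω.out.1) ⟨b, hb⟩)
    rw [h1, Subgroup.card_bot] at hgt
    omega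
  -- the class of the Borel subgroup
  have hborel : 2 < z → ∃ x : M, x ∈ NP ∧ x ≠ 1 ∧ Odd (orderOf x) ∧ Nat.card (centralizer {x}) = z - 1 ∧
      (Nat.card (normalizer ((centralizer {x} : Subgroup M) : Set M)) = z - 1 ∨
        Nat.card (normalizer ((centralizer {x} : Subgroup M) : Set M)) = 2 * (z - 1)) := by
    intro hz
    set C' := C.subgroupOf NP with hC'
    haveI hC'n : C'.Normal := Subgroup.normal_in_normalizer
    have hC'card : Nat.card C' = s := by rw [hC', Nat.card_congr (Subgroup.subgroupOfEquivOfLe hCN).toEquiv]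
    have hidx : C'.index = z - 1 := by
      have h1 := C'.index_mul_card
      rw [hC'card, hNPcard] at h1
      exact Nat.eq_of_mul_eq_mul_right Nat.card_pos h1
    have hzodd : Odd (z - 1) := by
      have : Even z := hj ▸ Nat.even_pow.2 ⟨even_two, by omega⟩
      exact Nat.Even.sub_odd (by omega) this odd_one
    have hco : Nat.Coprime (Nat.card C') C'.index := by
      rw [hC'card, hidx]
      have hs2 : ∃ i, s = 2 ^ i := IsPGroup.iff_card.1 (S.invol t ht).1
      obtain ⟨i, hi⟩ := hs2
      rw [hi]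
      exact Nat.Coprime.pow_left i (Nat.coprime_two_left.2 hzodd)
    obtain ⟨K, hK⟩ := Subgroup.exists_right_complement'_of_coprime hco
    have hKcard : Nat.card K = z - 1 := by
      have := hK.card_mul
      rw [hC'card, hNPcard, mul_comm _ s] at this
      exact Nat.eq_of_mul_eq_mul_left Nat.card_pos this
    obtain ⟨p, hp, hpd⟩ := Nat.exists_prime_and_dvd (show Nat.card K ≠ 1 by omega)
    haveI := Fact.mk hp
    obtain ⟨x, hx⟩ := exists_prime_orderOf_dvd_card' p hpd
    rw [← Subgroup.orderOf_coe, ← Subgroup.orderOf_coe] at hx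
    have hxN : ((x : NP) : M) ∈ NP := (x : NP).2
    have hxo : Odd (orderOf ((x : NP) : M)) := by
      rw [hx]; exact hp.odd_of_ne_two fun e => (Nat.not_even_iff_odd.2 hzodd) (even_iff_two_dvd.2 (e ▸ hKcard ▸ hpd))
    have hx1 : ((x : NP) : M) ≠ 1 := fun e => hp.ne_one (by rw [← hx, e, orderOf_one])
    obtain ⟨hle, hsq⟩ := S.borel_odd t _ ht hxN hx1 hxo
    set X := centralizer {((x : NP) : M)} with hX
    have hKX : K.map NP.subtype ≤ X := by
      rintro _ ⟨k, hk, rfl⟩
      rw [hX, mem_centralizer_one]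
      have h1 : k * x * k⁻¹ * (x : NP)⁻¹ ∈ C' := by
        rw [hC', Subgroup.mem_subgroupOf]
        exact S.borel t _ _ ht k.2 hxN
      have h2 : k * x * k⁻¹ * (x : NP)⁻¹ ∈ K := mul_mem (mul_mem (mul_mem hk x.2) (inv_mem hk)) (inv_mem x.2)
      have h3 : k * x * k⁻¹ * (x : NP)⁻¹ = 1 := Subgroup.disjoint_def.1 hK.disjoint h1 h2
      have h4 : k * x = x * k := mul_inv_eq_iff_eq_mul.1 (mul_inv_eq_one.1 h3)
      exact congrArg Subtype.val h4
    have hXcard : Nat.card X = z - 1 := by
      refine le_antisymm (Nat.le_of_dvd (by omega) ?_) ?_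
      · have h1 : Nat.card X ∣ (z - 1) * s := hNPcard ▸ Subgroup.card_dvd_of_le hle
        obtain ⟨i, hi⟩ : ∃ i, s = 2 ^ i := IsPGroup.iff_card.1 (S.invol t ht).1
        rw [hi] at h1
        exact (Nat.Coprime.pow_right i (Nat.coprime_two_right.2 (S.odd_cyc _ hx1 hxo).2.1)).dvd_of_dvd_mul_right h1
      · rw [← hKcard, Nat.card_congr (Subgroup.equivMapOfInjective K _ (Subgroup.subtype_injective _)).toEquiv]
        exact Subgroup.card_le_of_le hKX
    refine ⟨_, hxN, hx1, hxo, hXcard, ?_⟩
    rcases hνcases (clsOf hx1 hxo) with e | e | e <;> simp only [clsOf] at e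
    · exact Or.inl (e.trans hXcard)
    · exact Or.inr (e.trans (by rw [hXcard]))
    · exfalso
      obtain ⟨V, hV, -⟩ := Sylow.exists_subgroup_card_pow_prime_le 2 (show 2 ^ 2 ∣ Nat.card (normalizer (X : Set M)) from
        ⟨Nat.card X, e⟩) (⊥ : Subgroup (normalizer (X : Set M))) (n := 0) (by simp) (Nat.zero_le 2)
      refine S.no_four hx1 hxo (V.map (Subgroup.subtype _)) ?_ (Subgroup.map_subtype_le V) fun v hv => ?_
      · rw [← Nat.card_congr (Subgroup.equivMapOfInjective _ _ (Subgroup.subtype_injective _)).toEquiv, hV]; norm_num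
      · obtain ⟨v', hv', rfl⟩ := Subgroup.mem_map.1 hv
        refine S.odd_two_disjoint (S.odd_of_mem hx1 hxo (hsq _ v'.2)) ?_
        have hd : orderOf v' ∣ 4 := by
          have := Subgroup.orderOf_dvd_natCard V hv'
          rwa [hV] at this
        show (((v' : M)) ^ 2) ^ 4 = 1
        rw [← pow_mul, mul_comm, pow_mul, ← Subgroup.coe_pow, orderOf_dvd_iff_pow_eq_one.1 hd, Subgroup.coe_one, one_pow]
  -- counting the elements and the pairs of involutions
  have hsyl_fib : ∀ (p : M → Prop), (∀ v : M, p v → v ≠ 1 ∧ v ^ 4 = 1) → (∀ k v : M, p v → p (k * v * k⁻¹)) →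
      Nat.card {v : M // p v} = N * Nat.card {v : M // v ∈ C ∧ p v} := by
    intro p hp hpc
    have e1 : {v : M // p v} ≃ Σ Q₁ : Sylow 2 M, {v : M // v ∈ (Q₁ : Subgroup M) ∧ p v} :=
      (Equiv.ofBijective (fun (q : Σ Q₁ : Sylow 2 M, {v : M // v ∈ (Q₁ : Subgroup M) ∧ p v}) =>
          (⟨q.2.1, q.2.2.2⟩ : {v : M // p v})) ⟨by
        rintro ⟨Q₁, v, hv, hpv⟩ ⟨Q₂, w, hw, hpw⟩ e
        obtain rfl : v = w := congrArg Subtype.val e
        obtain rfl : Q₁ = Q₂ := S.sylow_ti (hp v hpv).1 hv hw
        rfl, by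
        rintro ⟨v, hv⟩
        obtain ⟨hv1, hv4⟩ := hp v hv
        have hne : ¬ Odd (orderOf v) := fun ho => hv1 (S.odd_two_disjoint ho hv4)
        obtain ⟨r, hr⟩ := S.exists_invol_pow hne
        obtain ⟨Q₁, hQ₁⟩ := S.exists_sylow hr
        exact ⟨⟨Q₁, v, by rw [hQ₁]; exact mem_centralizer_one.2 (Commute.self_pow v r), hv⟩, rfl⟩⟩).symm
    rw [Nat.card_congr e1, Nat.card_sigma]
    have hfib : ∀ Q₁ : Sylow 2 M, Nat.card {v : M // v ∈ (Q₁ : Subgroup M) ∧ p v} =
        Nat.card {v : M // v ∈ C ∧ p v} := by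
      intro Q₁
      obtain ⟨k, hk⟩ := MulAction.exists_smul_eq M P Q₁
      refine (Nat.card_congr ((MulAut.conj k).toEquiv.subtypeEquiv fun v => ?_)).symm
      have hm : k * v * k⁻¹ ∈ (Q₁ : Subgroup M) ↔ v ∈ C := by
        rw [← hk, Sylow.coe_subgroup_smul, hP]
        exact Subgroup.smul_mem_pointwise_smul_iff (a := MulAut.conj k)
      show v ∈ C ∧ p v ↔ k * v * k⁻¹ ∈ (Q₁ : Subgroup M) ∧ p (k * v * k⁻¹)
      rw [hm]
      refine and_congr_right fun _ => ⟨hpc k v, fun h => ?_⟩
      have := hpc k⁻¹ _ h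
      rwa [show k⁻¹ * (k * v * k⁻¹) * k⁻¹⁻¹ = v by group] at this
    rw [Finset.sum_congr rfl fun Q₁ _ => hfib Q₁, Finset.sum_const, Finset.card_univ, smul_eq_mul, hN]
    simp only [Nat.card_eq_fintype_card]
  have hinvcount : Nat.card {v : M // orderOf v = 2} = N * (z - 1) := by
    rw [hsyl_fib (fun v => orderOf v = 2) (fun v hv => ⟨(orderOf_two_iff.1 hv).1, by
        rw [show 4 = 2 * 2 from rfl, pow_mul, (orderOf_two_iff.1 hv).2, one_pow]⟩)
      (fun k v hv => by rw [show k * v * k⁻¹ = MulAut.conj k v from rfl, MulEquiv.orderOf_eq, hv])]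
    congr 1
    have e2 : {v : M // v ∈ C ∧ orderOf v = 2} ≃ {v : Z // v ≠ 1} :=
      { toFun := fun v => ⟨⟨v.1, v.2.1, (orderOf_two_iff.1 v.2.2).2⟩,
          fun e => (orderOf_two_iff.1 v.2.2).1 (congrArg Subtype.val e)⟩
        invFun := fun v => ⟨v.1.1, v.1.2.1, orderOf_two_iff.2 ⟨fun e => v.2 (Subtype.ext e), v.1.2.2⟩⟩
        left_inv := fun v => rfl
        right_inv := fun v => rfl }
    rw [Nat.card_congr e2, Nat.card_eq_fintype_card, Fintype.card_subtype_compl, Fintype.card_subtype_eq, hzdef,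
      Nat.card_eq_fintype_card]
  have hpowcount : Nat.card {v : M // v ≠ 1 ∧ v ^ 4 = 1} = N * (s - 1) := by
    rw [hsyl_fib (fun v => v ≠ 1 ∧ v ^ 4 = 1) (fun v hv => hv)
      (fun k v hv => ⟨fun e => hv.1 (conj_eq_one_iff.1 e), by rw [conj_pow, hv.2, mul_one, mul_inv_cancel]⟩)]
    congr 1
    have e2 : {v : M // v ∈ C ∧ v ≠ 1 ∧ v ^ 4 = 1} ≃ {v : C // v ≠ 1} :=
      { toFun := fun v => ⟨⟨v.1, v.2.1⟩, fun e => v.2.2.1 (congrArg Subtype.val e)⟩
        invFun := fun v => ⟨v.1.1, v.1.2, fun e => v.2 (Subtype.ext e), (S.invol t ht).2.2.1 _ v.1.2⟩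
        left_inv := fun v => rfl
        right_inv := fun v => rfl }
    rw [Nat.card_congr e2, Nat.card_eq_fintype_card, Fintype.card_subtype_compl, Fintype.card_subtype_eq, hs,
      Nat.card_eq_fintype_card]
  have hspos : 1 ≤ s := Nat.card_pos
  have heq1 : (Nat.card M : ℚ) - 1 = N * ((s : ℚ) - 1) + Nat.card M * ∑ ω, ((n ω : ℚ) - 1) / ν ω := by
    have hsum := S.odd_sum (fun _ => (1 : ℚ)) fun _ _ => rfl
    simp only [one_mul, Finset.sum_const, Finset.card_univ, nsmul_eq_mul, mul_one] at hsum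
    have hpart : Nat.card M = 1 + (Nat.card {v : M // v ≠ 1 ∧ v ^ 4 = 1} +
        Nat.card {x : M // x ≠ 1 ∧ Odd (orderOf x)}) := by
      rw [Nat.card_eq_fintype_card, Nat.card_eq_fintype_card, Nat.card_eq_fintype_card, Fintype.card_subtype,
        Fintype.card_subtype, ← Finset.card_union_of_disjoint, ← Finset.filter_or]
      · rw [← Finset.card_univ, ← Finset.card_erase_add_one (Finset.mem_univ (1 : M)), add_comm]
        congr 2
        ext v
        simp only [Finset.mem_erase, Finset.mem_filter, Finset.mem_univ, true_and, and_true]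
        refine ⟨fun hv => ?_, fun hv => hv.elim (·.1) (·.1)⟩
        by_cases ho : Odd (orderOf v)
        · exact Or.inr ⟨hv, ho⟩
        · exact Or.inl ⟨hv, S.two_elt ho⟩
      · rw [Finset.disjoint_filter]
        rintro v - ⟨hv1, hv4⟩ ⟨-, ho⟩
        exact hv1 (S.odd_two_disjoint ho hv4)
    rw [hpowcount] at hpart
    rw [← hsum]
    have : (Nat.card M : ℚ) = 1 + (((N * (s - 1) : ℕ) : ℚ) + (Nat.card {x : M // x ≠ 1 ∧ Odd (orderOf x)} : ℚ)) := by
      exact_mod_cast hpart
    rw [this, Nat.cast_mul, Nat.cast_sub hspos, Nat.cast_one, Nat.card_eq_fintype_card (α := {x : M // x ≠ 1 ∧ Odd (orderOf x)})]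
    ring
  have hinverters : ∀ (x : M) (hx : x ≠ 1) (hxo : Odd (orderOf x)),
      (Nat.card {i : M // orderOf i = 2 ∧ i * x * i = x⁻¹} : ℚ) =
        if Nat.card (normalizer ((clsOf hx hxo).1 : Set M)) = Nat.card (clsOf hx hxo).1 then 0
        else (Nat.card (clsOf hx hxo).1 : ℚ) := by
    intro x hx hxo
    set X := (clsOf hx hxo).1 with hX
    have hXdef : X = centralizer {x} := rfl
    obtain ⟨hcyc, hXodd, hT, -⟩ := S.odd_cyc x hx hxo
    have hmem_iff : ∀ i : M, orderOf i = 2 → (i * x * i = x⁻¹ ↔ i ∈ normalizer (X : Set M)) := by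
      intro i hi
      have hii : i⁻¹ = i := inv_eq_of_mul_eq_one_right (by rw [← pow_two]; exact (orderOf_two_iff.1 hi).2)
      have hi2 : i * i = 1 := by rw [← pow_two]; exact (orderOf_two_iff.1 hi).2
      constructor
      · intro h
        rw [Subgroup.mem_normalizer_iff]
        intro y
        have h1 : centralizer {x⁻¹} = centralizer {x} :=
          hT _ (inv_mem (self_mem_centralizer x)) (inv_ne_one.2 hx)
        rw [hXdef]
        conv_rhs => rw [← h1, ← h, show i * x * i = i * x * i⁻¹ by rw [hii]]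
        exact conj_mem_centralizer.symm
      · intro hN'
        have hm : i * x * i ∈ centralizer {x} := by
          have := (Subgroup.mem_normalizer_iff.1 hN' x).1 (hXdef ▸ self_mem_centralizer x)
          rw [hii] at this
          exact hXdef ▸ this
        have hcomm : (i * x * i) * x = x * (i * x * i) := mem_centralizer_one.1 hm
        refine eq_inv_of_mul_eq_one_right ?_
        by_contra hy
        have hiy : i ∈ centralizer {x * (i * x * i)} := by
          rw [mem_centralizer_one]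
          show i * (x * (i * x * i)) = x * (i * x * i) * i
          calc i * (x * (i * x * i)) = i * ((i * x * i) * x) := by rw [hcomm]
            _ = (i * i) * (x * i * x) := by group
            _ = x * i * x * (i * i) := by rw [hi2, one_mul, mul_one]
            _ = x * (i * x * i) * i := by group
        rw [hT _ (mul_mem (self_mem_centralizer x) hm) hy] at hiy
        have := Odd.of_dvd_nat hXodd (Subgroup.orderOf_dvd_natCard _ hiy)
        rw [hi] at this
        exact absurd this (by decide)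
    split_ifs with heq
    · norm_cast
      rw [Nat.card_eq_zero]
      left
      refine ⟨fun i => ?_⟩
      have hmem := (hmem_iff i.1 i.2.1).1 i.2.2
      have hNX : normalizer (X : Set M) = X := (Subgroup.eq_of_le_of_card_ge Subgroup.le_normalizer heq.le).symm
      rw [hNX, hXdef] at hmem
      have := S.odd_of_mem hx hxo hmem
      rw [i.2.1] at this
      exact absurd this (by decide)
    · norm_cast
      have h2d : 2 ∣ Nat.card (normalizer (X : Set M)) := by
        rcases hνcases (clsOf hx hxo) with e | e | e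
        · exact absurd e heq
        · exact ⟨_, e⟩
        · exact ⟨2 * Nat.card X, by rw [e]; ring⟩
      obtain ⟨⟨i₀, hi₀N⟩, hi₀⟩ := exists_prime_orderOf_dvd_card' 2 h2d
      rw [← Subgroup.orderOf_coe] at hi₀
      have hi₀2 : i₀ * i₀ = 1 := by rw [← pow_two]; exact (orderOf_two_iff.1 hi₀).2
      have hi₀x := (hmem_iff i₀ hi₀).2 hi₀N
      have hi₀i : i₀⁻¹ = i₀ := inv_eq_of_mul_eq_one_right hi₀2
      refine Nat.card_congr
        { toFun := fun i => ⟨i.1 * i₀, by
            rw [hXdef, mem_centralizer_one]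
            have hi2 : i.1 * i.1 = 1 := by rw [← pow_two]; exact (orderOf_two_iff.1 i.2.1).2
            show i.1 * i₀ * x = x * (i.1 * i₀)
            have h1 : i₀ * x = x⁻¹ * i₀ := by rw [← hi₀x, mul_assoc, hi₀2, mul_one]
            have h2 : i.1 * x⁻¹ = x * i.1 := (congrArg (i.1 * ·) i.2.2).symm.trans (by simp [← mul_assoc, hi2])
            rw [mul_assoc, h1, ← mul_assoc, h2, mul_assoc]⟩
          invFun := fun c => ⟨c.1 * i₀, by
            have hc : Commute (c.1 : M) x := mem_centralizer_one.1 (hXdef ▸ c.2)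
            have hcN : (c.1 : M) * i₀ ∈ normalizer (X : Set M) := mul_mem (Subgroup.le_normalizer c.2) hi₀N
            have hinvc : i₀ * c.1 * i₀ ∈ X := by
              have := (Subgroup.mem_normalizer_iff.1 hi₀N c.1).1 c.2
              rwa [hi₀i] at this
            have hne1 : (c.1 : M) * i₀ ≠ 1 := by
              intro e
              have hmem : i₀ ∈ X := by
                have : i₀ = (c.1 : M)⁻¹ := eq_inv_of_mul_eq_one_right e
                rw [this]; exact inv_mem c.2
              have := S.odd_of_mem hx hxo hmem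
              rw [hi₀] at this
              exact absurd this (by decide)
            have hfix : ((c.1 : M) * i₀) * x * ((c.1 : M) * i₀)⁻¹ = x⁻¹ := by
              rw [mul_inv_rev, hi₀i, show (c.1 : M) * i₀ * x * (i₀ * (c.1 : M)⁻¹) = c.1 * (i₀ * x * i₀) * (c.1 : M)⁻¹ by group,
                hi₀x, mul_inv_eq_iff_eq_mul]
              exact hc.inv_right.eq
            -- the square centralises `x` and is inverted by itself
            have hsq : ((c.1 : M) * i₀) ^ 2 = 1 := by
              set a := (c.1 : M) * i₀ with ha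
              have ha2 : a ^ 2 ∈ X := by
                rw [pow_two, ha, show (c.1 : M) * i₀ * (c.1 * i₀) = c.1 * (i₀ * c.1 * i₀) by group]
                exact mul_mem c.2 hinvc
              by_contra hne
              have h1 : a ∈ centralizer {a ^ 2} := mem_centralizer_one.2 (Commute.self_pow a 2)
              rw [hT _ (hXdef ▸ ha2) hne] at h1
              rw [mem_centralizer_one] at h1
              have h2 : x = x⁻¹ := by rw [← hfix, h1.eq, mul_inv_cancel_right]
              have h3 : x ^ 2 = 1 := by rw [pow_two]; exact mul_eq_one_iff_eq_inv.2 h2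
              have := Nat.Coprime.eq_one_of_dvd (Nat.coprime_two_right.2 hxo) (orderOf_dvd_of_pow_eq_one h3)
              exact hx (orderOf_eq_one_iff.1 this)
            have ho : orderOf ((c.1 : M) * i₀) = 2 := orderOf_two_iff.2 ⟨hne1, hsq⟩
            exact ⟨ho, (hmem_iff _ ho).2 hcN⟩⟩
          left_inv := fun i => Subtype.ext (by simp [mul_assoc, hi₀2])
          right_inv := fun c => Subtype.ext (by simp [mul_assoc, hi₀2]) }
  have heq2 : (N : ℚ) * ((N : ℚ) - 1) * ((z : ℚ) - 1) ^ 2 = Nat.card M *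
      ∑ ω, (if ν ω = n ω then 0 else (n ω : ℚ) * ((n ω : ℚ) - 1) / ν ω) := by
    let f : OddCls M → ℚ := fun K => if Nat.card (normalizer (K.1 : Set M)) = Nat.card K.1 then 0 else (Nat.card K.1 : ℚ)
    have hf : ∀ (k : M) (K : OddCls M), f (k • K) = f K := by
      intro k K
      have h1 : Nat.card (k • K).1 = Nat.card K.1 :=
        (Nat.card_congr (Subgroup.equivMapOfInjective K.1 _ (MulAut.conj k).injective).toEquiv).symm
      have h2 : Nat.card (normalizer ((k • K).1 : Set M)) = Nat.card (normalizer (K.1 : Set M)) := by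
        rw [← oddCls_stabilizer, ← oddCls_stabilizer, MulAction.stabilizer_smul_eq_stabilizer_map_conj]
        exact (Nat.card_congr (Subgroup.equivMapOfInjective _ _ (MulAut.conj k).injective).toEquiv).symm
      simp only [f, h1, h2]
    have hsum := S.odd_sum f hf
    have hterm : ∀ ω, f (ω : MulAction.orbitRel.Quotient M (OddCls M)).out * ((n ω : ℚ) - 1) / ν ω =
        if ν ω = n ω then 0 else (n ω : ℚ) * ((n ω : ℚ) - 1) / ν ω := by
      intro ω
      simp only [f, n, ν]
      split_ifs <;> simp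
    rw [Finset.sum_congr rfl fun ω _ => hterm ω] at hsum
    rw [← hsum]
    have hlhs : ∀ x : {x : M // x ≠ 1 ∧ Odd (orderOf x)}, f (clsOf x.2.1 x.2.2) =
        (Nat.card {i : M // orderOf i = 2 ∧ i * x.1 * i = x.1⁻¹} : ℚ) := fun x => (hinverters x.1 x.2.1 x.2.2).symm
    rw [Finset.sum_congr rfl fun x _ => hlhs x, ← Nat.cast_sum, ← Nat.card_sigma]
    -- pairs of involutions with different centralisers
    have e3 : (Σ x : {x : M // x ≠ 1 ∧ Odd (orderOf x)}, {i : M // orderOf i = 2 ∧ i * x.1 * i = x.1⁻¹}) ≃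
        Σ i : {i : M // orderOf i = 2}, {j : {j : M // orderOf j = 2} // ¬ centralizer {j.1} = centralizer {i.1}} :=
      { toFun := fun p => ⟨⟨p.2.1, p.2.2.1⟩, ⟨p.2.1 * p.1.1, orderOf_two_iff.2 ⟨fun e => by
            have h1 : p.1.1 = p.2.1 := by
              have := eq_inv_of_mul_eq_one_right e
              rwa [inv_eq_of_mul_eq_one_right (by rw [← pow_two]; exact (orderOf_two_iff.1 p.2.2.1).2)] at this
            have := p.1.2.2
            rw [h1, p.2.2.1] at this
            exact absurd this (by decide), by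
            rw [pow_two, ← mul_assoc, p.2.2.2, inv_mul_cancel]⟩⟩, fun hc => by
            have h1 : p.2.1 * p.1.1 ∈ centralizer {p.2.1} := hc ▸ self_mem_centralizer _
            have h2 : p.1.1 ∈ centralizer {p.2.1} := by
              have := mul_mem (inv_mem (self_mem_centralizer p.2.1)) h1
              rwa [inv_mul_cancel_left] at this
            exact p.1.2.1 (S.odd_two_disjoint p.1.2.2 ((S.invol _ p.2.2.1).2.2.1 _ h2))⟩
        invFun := fun q => ⟨⟨q.1.1 * q.2.1.1, fun e => q.2.2 (by
            have := eq_inv_of_mul_eq_one_right e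
            rw [inv_eq_of_mul_eq_one_right (by rw [← pow_two]; exact (orderOf_two_iff.1 q.1.2).2)] at this
            rw [this]), hdiff _ _ q.1.2 q.2.1.2 (Ne.symm q.2.2)⟩, ⟨q.1.1, q.1.2, by
            have h1 : q.1.1 * q.1.1 = 1 := by rw [← pow_two]; exact (orderOf_two_iff.1 q.1.2).2
            have h2 : q.2.1.1 * q.2.1.1 = 1 := by rw [← pow_two]; exact (orderOf_two_iff.1 q.2.1.2).2
            show q.1.1 * (q.1.1 * q.2.1.1) * q.1.1 = (q.1.1 * q.2.1.1)⁻¹
            rw [mul_inv_rev, inv_eq_of_mul_eq_one_right h1, inv_eq_of_mul_eq_one_right h2, ← mul_assoc, h1, one_mul]⟩⟩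
        left_inv := fun ⟨⟨x, hx⟩, ⟨i, hi, hix⟩⟩ => by
          have h1 : i * i = 1 := by rw [← pow_two]; exact (orderOf_two_iff.1 hi).2
          have e : i * (i * x) = x := by rw [← mul_assoc, h1, one_mul]
          refine Sigma.subtype_ext (Subtype.ext e) rfl
        right_inv := fun ⟨⟨i, hi⟩, ⟨⟨j, hj⟩, hij⟩⟩ => by
          have h1 : i * i = 1 := by rw [← pow_two]; exact (orderOf_two_iff.1 hi).2
          refine Sigma.subtype_ext rfl (Subtype.ext ?_)
          show i * (i * j) = j
          rw [← mul_assoc, h1, one_mul] }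
    have hfib : ∀ i : {i : M // orderOf i = 2},
        Nat.card {j : {j : M // orderOf j = 2} // ¬ centralizer {j.1} = centralizer {i.1}} = N * (z - 1) - (z - 1) := by
      intro i
      have hsame : Nat.card {j : {j : M // orderOf j = 2} // centralizer {j.1} = centralizer {i.1}} = z - 1 := by
        obtain ⟨k, hk⟩ := hsylconj i.1 i.2
        let e4 : {j : {j : M // orderOf j = 2} // centralizer {j.1} = centralizer {i.1}} ≃ {v : Z // v ≠ 1} :=
          { toFun := fun j => ⟨⟨k⁻¹ * j.1.1 * k, by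
                have h1 : k * (k⁻¹ * j.1.1 * k) * k⁻¹ ∈ centralizer {k * t * k⁻¹} := by
                  rw [hk, show k * (k⁻¹ * j.1.1 * k) * k⁻¹ = j.1.1 by group]; exact le_of_eq j.2 (self_mem_centralizer _)
                refine ⟨conj_mem_centralizer.1 h1, ?_⟩
                rw [show k⁻¹ * j.1.1 * k = k⁻¹ * j.1.1 * k⁻¹⁻¹ by group, conj_pow, (orderOf_two_iff.1 j.1.2).2]
                group⟩, fun e => (orderOf_two_iff.1 j.1.2).1 (by
                  have := congrArg Subtype.val e
                  simpa [mul_assoc, inv_mul_eq_one, eq_comm] using this)⟩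
            invFun := fun v => ⟨⟨k * v.1.1 * k⁻¹, orderOf_two_iff.2 ⟨fun e => v.2 (Subtype.ext (conj_eq_one_iff.1 e)), by
                rw [conj_pow, v.1.2.2, mul_one, mul_inv_cancel]⟩⟩, by
                show centralizer {k * v.1.1 * k⁻¹} = centralizer {i.1}
                rw [← hk, ← map_conj_centralizer, ← map_conj_centralizer,
                  (S.invol t ht).2.1 v.1.1 v.1.2.1 (orderOf_two_iff.2 ⟨fun e => v.2 (Subtype.ext e), v.1.2.2⟩)]⟩
            left_inv := fun j => Subtype.ext (Subtype.ext (by simp [mul_assoc]))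
            right_inv := fun v => Subtype.ext (Subtype.ext (by simp [mul_assoc])) }
        rw [Nat.card_congr e4, Nat.card_eq_fintype_card, Fintype.card_subtype_compl, Fintype.card_subtype_eq, hzdef,
          Nat.card_eq_fintype_card]
      rw [Nat.card_eq_fintype_card, Fintype.card_subtype_compl, ← Nat.card_eq_fintype_card, ← Nat.card_eq_fintype_card,
        hsame, hinvcount]
    rw [Nat.card_congr e3, Nat.card_sigma, Finset.sum_congr rfl fun i _ => hfib i, Finset.sum_const, Finset.card_univ,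
      smul_eq_mul, ← Nat.card_eq_fintype_card, hinvcount]
    rw [Nat.cast_mul, Nat.cast_sub (Nat.le_mul_of_pos_left _ (by omega)), Nat.cast_mul,
      Nat.cast_sub (by omega : 1 ≤ z), Nat.cast_one]
    ring
  have hEq : SubEq (Finset.univ : Finset (MulAction.orbitRel.Quotient M (OddCls M))) n ν (Nat.card M) s z N :=
    { card_eq := hgN
      eq1 := heq1
      eq2 := heq2
      pow_z := ⟨j, hj1, hj⟩
      s_cases := hscases
      N_odd := hNodd
      N_ge := hNge
      three := S.three
      n_odd := fun ω _ => (hclass ω.out).1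
      n_gt := fun ω _ => (hclass ω.out).2.1
      n_dvd := fun ω _ => Subgroup.card_subgroup_dvd_card _
      ν_cases := fun ω _ => hνcases ω.out
      ν_four := fun ω _ => hνfour ω.out
      ν_lt := fun ω _ => hνlt ω
      coprime := fun ω _ ω' _ => hcop ω ω'
      borel := fun hz => by
        obtain ⟨x, -, hx1, hxo, hXcard, hν⟩ := hborel hz
        have hout : (Quotient.mk (MulAction.orbitRel M (OddCls M)) (clsOf hx1 hxo)).out ∈
            MulAction.orbit M (clsOf hx1 hxo) :=
          Quotient.exact (s := MulAction.orbitRel M (OddCls M)) (Quotient.out_eq _)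
        obtain ⟨k, hk⟩ := hout
        have hk' : k • clsOf hx1 hxo = (Quotient.mk (MulAction.orbitRel M (OddCls M)) (clsOf hx1 hxo)).out := hk
        refine ⟨Quotient.mk (MulAction.orbitRel M (OddCls M)) (clsOf hx1 hxo), Finset.mem_univ _, ?_, ?_⟩
        · show Nat.card (Quotient.mk (MulAction.orbitRel M (OddCls M)) (clsOf hx1 hxo)).out.1 = z - 1
          rw [← hk', oddCls_smul, ← Nat.card_congr (Subgroup.equivMapOfInjective _ _ (MulAut.conj k).injective).toEquiv]
          exact hXcard
        · have h1 : ν (Quotient.mk (MulAction.orbitRel M (OddCls M)) (clsOf hx1 hxo)) =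
              Nat.card (normalizer ((centralizer {x} : Subgroup M) : Set M)) := by
            show Nat.card (normalizer ((Quotient.mk (MulAction.orbitRel M (OddCls M)) (clsOf hx1 hxo)).out.1 : Set M)) = _
            rw [← hk', ← oddCls_stabilizer, MulAction.stabilizer_smul_eq_stabilizer_map_conj,
              ← Nat.card_congr (Subgroup.equivMapOfInjective _ _ (MulAut.conj k).injective).toEquiv, oddCls_stabilizer]
            rfl
          have h2 : n (Quotient.mk (MulAction.orbitRel M (OddCls M)) (clsOf hx1 hxo)) = z - 1 := by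
            show Nat.card (Quotient.mk (MulAction.orbitRel M (OddCls M)) (clsOf hx1 hxo)).out.1 = z - 1
            rw [← hk', oddCls_smul, ← Nat.card_congr (Subgroup.equivMapOfInjective _ _ (MulAut.conj k).injective).toEquiv]
            exact hXcard
          rw [h1, h2]
          exact hν }
  obtain ⟨hz8, hs_eq, hN_eq, ω₀, -, hω₀n, hω₀ν⟩ := hEq.shape
  obtain ⟨x, hxN, hx1, hxo, hXcard, hν⟩ := hborel (by omega)
  have hνx : Nat.card (normalizer ((centralizer {x} : Subgroup M) : Set M)) = 2 * (z - 1) := by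
    -- the class of `x` is the one found by the equations
    set ω₁ := Quotient.mk (MulAction.orbitRel M (OddCls M)) (clsOf hx1 hxo) with hω₁
    have hout : ω₁.out ∈ MulAction.orbit M (clsOf hx1 hxo) := Quotient.exact (s := MulAction.orbitRel M (OddCls M)) (Quotient.out_eq _)
    obtain ⟨k, hk⟩ := hout
    have hk' : k • clsOf hx1 hxo = ω₁.out := hk
    have hn₁ : n ω₁ = z - 1 := by
      show Nat.card ω₁.out.1 = z - 1
      rw [← hk', oddCls_smul, ← Nat.card_congr (Subgroup.equivMapOfInjective _ _ (MulAut.conj k).injective).toEquiv]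
      exact hXcard
    have heqω : ω₀ = ω₁ := by
      by_contra hne
      have := hcop ω₀ ω₁ hne
      rw [hω₀n, hn₁, Nat.coprime_self] at this
      omega
    rw [heqω] at hω₀ν
    rw [← hω₀ν]
    show _ = Nat.card (normalizer (ω₁.out.1 : Set M))
    rw [← hk', ← oddCls_stabilizer (k • _), MulAction.stabilizer_smul_eq_stabilizer_map_conj,
      ← Nat.card_congr (Subgroup.equivMapOfInjective _ _ (MulAut.conj k).injective).toEquiv, oddCls_stabilizer]
    rfl
  have hinvx := hinverters x hx1 hxo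
  rw [if_neg (show ¬ Nat.card (normalizer ((clsOf hx1 hxo).1 : Set M)) = Nat.card (clsOf hx1 hxo).1 by
    show ¬ Nat.card (normalizer ((centralizer {x} : Subgroup M) : Set M)) = Nat.card (centralizer {x})
    rw [hνx, hXcard]; omega), Nat.cast_inj] at hinvx
  obtain ⟨⟨i, hi, hix⟩⟩ : Nonempty {i : M // orderOf i = 2 ∧ i * x * i = x⁻¹} := (Nat.card_pos_iff.1 (by
    rw [hinvx]; exact Nat.card_pos)).1
  exact ⟨z, t, x, i, hz8, ⟨j, hj⟩, ht, hs_eq, hzcard, by rw [hgN, hN_eq, hs_eq],
    by rw [hNPcard, hs_eq, mul_comm], hxN, hx1, hxo, hXcard, hi, hix⟩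

end Cfsg.Agent.Suzuki
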