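/-
The centraliser properties of a Suzuki group and of its subgroups.
-/
import Cfsg.Agent.Lib.Suzuki.SzLike
import Cfsg.Agent.Lib.Suzuki.AutSz

set_option autoImplicit false

namespace Cfsg.Agent.Suzuki

open scoped Matrix

variable {F : Type*} [Field F] [Fintype F] {m : ℕ} (D : Dat F m)

theorem gH_oP0' (u : Fˣ) : gH D u • oP D 0 0 = oP D 0 0 := by rw [gH_oP, mul_zero, mul_zero]

variable (hF : Fintype.card F = 2 ^ (2 * m + 1))
include D hF

theorem oneFix_of_order_two {t : Cfsg.Sz F m} (ht : orderOf t = 2) : OneFix t := by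
  rcases fix_trichotomy t with h | h | h
  · exact absurd h (not_fpf_of_orderOf_two D hF ht)
  · exact h
  · have := odd_orderOf_of_twoFix D hF h
    rw [ht] at this
    exact absurd this (by decide)

theorem commute_central {b : F} (g : Q D) : Commute (gT D 0 b) (g : Cfsg.Sz F m) := by
  obtain ⟨a, c, e⟩ := g.2
  rw [e]
  show gT D 0 b * gT D a c = gT D a c * gT D 0 b
  rw [gT_mul, gT_mul, map_zero, zero_mul, mul_zero]
  congr 1 <;> ring

theorem fix_oI_eq {p : Cfsg.suzukiOvoid F m} {g : Cfsg.Sz F m} (hg : g ∈ Q D) (hg1 : g ≠ 1) (hp : g • p = p) :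
    p = oI D :=
  (((mem_Q_iff D hF).1 hg).resolve_left hg1).2 p hp

theorem square_zero_iff {a : F} : D.θ a * a = 0 ↔ a = 0 := by
  simp [D.theta_eq_zero]

/-- Membership in the conjugate of `Q` at a point, by fixed points. -/
theorem conj_Q {K g : Cfsg.Sz F m} {a : Cfsg.suzukiOvoid F m} (hK : K • a = oI D) :
    K * g * K⁻¹ ∈ Q D ↔ g = 1 ∨ (g • a = a ∧ ∀ p, g • p = p → p = a) := by
  rw [mem_Q_iff D hF, conj_eq_one_iff, ← hK]
  refine or_congr_right (and_congr (conj_fix K g) ⟨fun h p hp => ?_, fun h p hp => ?_⟩)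
  · exact MulAction.injective K (h _ ((conj_fix K g).2 hp))
  · rw [← smul_inv_smul K p, conj_fix] at hp
    rw [← smul_inv_smul K p, h _ hp]

/-- The centraliser of an involution is the Sylow subgroup of its point. -/
theorem centralizer_invol {t : Cfsg.Sz F m} (ht : orderOf t = 2) :
    ∃ (a : Cfsg.suzukiOvoid F m) (k : Cfsg.Sz F m), t • a = a ∧ k • a = oI D ∧
      ∀ g, g ∈ Subgroup.centralizer {t} ↔ k * g * k⁻¹ ∈ Q D := by
  obtain ⟨a, ha, hu⟩ := oneFix_of_order_two D hF ht
  obtain ⟨k, hk⟩ := transitive D a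
  refine ⟨a, k⁻¹, ha, by rw [← hk, inv_smul_smul], fun g => ?_⟩
  have htQ : k⁻¹ * t * k⁻¹⁻¹ ∈ Q D := (mem_Q_iff D hF).2 (Or.inr ⟨by
    have h1 := (conj_fix k⁻¹ t).2 ha
    rwa [← hk, inv_smul_smul] at h1, fun p hp => by
    rw [← smul_inv_smul k⁻¹ p, conj_fix] at hp
    rw [← smul_inv_smul k⁻¹ p, hu _ hp, ← hk, inv_smul_smul]⟩)
  obtain ⟨c, b, hcb⟩ := htQ
  have hc : c = 0 := by
    have h2 : (k⁻¹ * t * k⁻¹⁻¹) ^ 2 = 1 := by
      rw [conj_pow, (orderOf_two_iff.1 ht).2, mul_one, mul_inv_cancel]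
    rw [hcb, pow_two, gT_mul, ← gT_zero D, D.add_self, D.add_self, zero_add] at h2
    exact (square_zero_iff D hF).1 (gT_inj D h2).2
  subst hc
  constructor
  · intro hg
    by_cases hg1 : k⁻¹ * g * k⁻¹⁻¹ = 1
    · rw [hg1]; exact one_mem _
    have hcomm : Commute (k⁻¹ * g * k⁻¹⁻¹) (gT D 0 b) := by
      rw [← hcb]; exact (Commute.conj_iff k⁻¹).2 (mem_centralizer_one.1 hg)
    have hne : gT D 0 b ≠ 1 := by
      rw [← hcb]; exact fun e => (orderOf_two_iff.1 ht).1 (conj_eq_one_iff.1 e)
    have h1 : OneFix (gT D 0 b) := ⟨oI D, gT_oI D 0 b, fun p hp => fix_oI_eq D hF ⟨0, b, rfl⟩ hne hp⟩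
    obtain ⟨p, hp, hpu⟩ := oneFix_of_commute D hF h1 hcomm hg1
    have hI : (k⁻¹ * g * k⁻¹⁻¹) • oI D = oI D :=
      fix_oI_eq D hF ⟨0, b, rfl⟩ hne (smul_fix_of_commute hcomm.symm.symm (gT_oI D 0 b))
    exact (mem_Q_iff D hF).2 (Or.inr ⟨hI, fun p' hp' => (hpu p' hp').trans (hpu _ hI).symm⟩)
  · intro hg
    refine mem_centralizer_one.2 ((Commute.conj_iff k⁻¹).1 ?_)
    rw [hcb]
    exact (commute_central D hF ⟨_, hg⟩).symm

/-- The centraliser of an involution, seen from any translate of its point to infinity. -/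
theorem centralizer_invol' {t : Cfsg.Sz F m} (ht : orderOf t = 2) {a : Cfsg.suzukiOvoid F m} (ha : t • a = a)
    {K : Cfsg.Sz F m} (hK : K • a = oI D) (g : Cfsg.Sz F m) :
    g ∈ Subgroup.centralizer {t} ↔ K * g * K⁻¹ ∈ Q D := by
  obtain ⟨a', k, hta', hk, hC⟩ := centralizer_invol D hF ht
  obtain ⟨a'', -, hu⟩ := oneFix_of_order_two D hF ht
  obtain rfl : a' = a := (hu _ hta').trans (hu _ ha).symm
  rw [hC, conj_Q D hF hk, conj_Q D hF hK]

/-- The normaliser of that Sylow subgroup is the stabiliser of the point. -/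
theorem normalizer_invol {t : Cfsg.Sz F m} (ht : orderOf t = 2) {a : Cfsg.suzukiOvoid F m} (ha : t • a = a)
    (g : Cfsg.Sz F m) :
    g ∈ Subgroup.normalizer ((Subgroup.centralizer {t} : Subgroup (Cfsg.Sz F m)) : Set (Cfsg.Sz F m)) ↔ g • a = a := by
  obtain ⟨a', k, hta', hk, hC⟩ := centralizer_invol D hF ht
  obtain ⟨a'', -, hu⟩ := oneFix_of_order_two D hF ht
  obtain rfl : a' = a := (hu _ hta').trans (hu _ ha).symm
  have hne : k * t * k⁻¹ ≠ 1 := fun e => (orderOf_two_iff.1 ht).1 (conj_eq_one_iff.1 e)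
  have htQ := (hC t).1 (mem_centralizer_one.2 (Commute.refl t))
  constructor
  · intro hg
    have h1 := (hC _).1 ((Subgroup.mem_normalizer_iff.1 hg t).1 (mem_centralizer_one.2 (Commute.refl t)))
    have hne' : k * (g * t * g⁻¹) * k⁻¹ ≠ 1 := fun e =>
      (orderOf_two_iff.1 ht).1 (conj_eq_one_iff.1 (conj_eq_one_iff.1 e))
    have h2 : (k * (g * t * g⁻¹) * k⁻¹) • (k • (g • a')) = k • (g • a') :=
      (conj_fix k _).2 ((conj_fix g t).2 hta')
    exact MulAction.injective k ((fix_oI_eq D hF h1 hne' h2).trans hk.symm)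
  · intro hg
    rw [Subgroup.mem_normalizer_iff]
    intro y
    rw [hC, hC]
    have hkg : (k * g) • a' = oI D := by rw [mul_smul, hg, hk]
    rw [show k * (g * y * g⁻¹) * k⁻¹ = (k * g) * y * (k * g)⁻¹ by group, conj_Q D hF hk, conj_Q D hF hkg]

theorem centralizer_twoFix {g : Cfsg.Sz F m} (hg : g ≠ 1) {a b : Cfsg.suzukiOvoid F m} (hab : a ≠ b)
    (ha : g • a = a) (hb : g • b = b) : Subgroup.centralizer {g} = pairStab a b :=
  le_antisymm (fun _ hc => mem_pairStab.2 (fix_of_commute_twoFix D hF hg hab ha hb (mem_centralizer_one.1 hc)))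
    fun _ hc => mem_centralizer_one.2 (pair_commute D hF hab hc.1 hc.2 ha hb)

theorem sq_mem_pair {g : Cfsg.Sz F m} (hg : g ≠ 1) {a b : Cfsg.suzukiOvoid F m} (hab : a ≠ b)
    (ha : g • a = a) (hb : g • b = b) {y : Cfsg.Sz F m}
    (hy : y ∈ Subgroup.normalizer ((pairStab a b : Subgroup (Cfsg.Sz F m)) : Set (Cfsg.Sz F m))) :
    (y • a = a ∨ y • a = b) ∧ (y • b = a ∨ y • b = b) ∧ (y • a = a → y • b = b) := by
  have h1 : y⁻¹ * g * y⁻¹⁻¹ ∈ pairStab a b :=
    (Subgroup.mem_normalizer_iff.1 (inv_mem hy) g).1 (mem_pairStab.2 ⟨ha, hb⟩)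
  obtain ⟨e1, e2⟩ := mem_pairStab.1 h1
  have f1 : g • (y • a) = y • a := (conj_fix y⁻¹ g).1 (by rwa [inv_smul_smul])
  have f2 : g • (y • b) = y • b := (conj_fix y⁻¹ g).1 (by rwa [inv_smul_smul])
  refine ⟨eq_pair_or D hF hg hab ha hb f1, eq_pair_or D hF hg hab ha hb f2, fun h => ?_⟩
  exact (eq_pair_or D hF hg hab ha hb f2).resolve_left fun e => hab (MulAction.injective y (h.trans e.symm))

/-- The numbers used in the class equations hold in the whole group. -/
theorem szLike : SzLike (Cfsg.Sz F m) where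
  odd_cyc x hx hxo := by
    rcases fix_trichotomy x with h0 | h1 | ⟨a, b, hab, ha, hb⟩
    · obtain ⟨U, hU, hxU⟩ := exists_torus_mem D hF hx h0
      rw [hU.centralizer_eq D hF hxU hx]
      refine ⟨hU.isCyclic D hF, ?_, fun y hy hy1 => hU.centralizer_eq D hF hy hy1, ?_⟩
      · exact Odd.of_dvd_nat (by
          rw [Nat.odd_iff]
          have : 2 ∣ Fintype.card F ^ 2 := dvd_pow (hF ▸ dvd_pow_self 2 (by omega)) two_ne_zero
          omega) (hU.card_dvd D hF)
      · obtain ⟨w, hw, e⟩ := hU.exists_index_eq D hF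
        rw [e]; exact Nat.mul_dvd_mul_right hw _
    · exfalso
      have h4 := pow_four_of_oneFix D hF h1
      refine hx (orderOf_eq_one_iff.1 (Nat.Coprime.eq_one_of_dvd ?_ (orderOf_dvd_of_pow_eq_one h4)))
      exact Nat.Coprime.pow_right 2 (Nat.coprime_two_right.2 hxo)
    · rw [centralizer_twoFix D hF hx hab ha hb]
      refine ⟨pair_cyclic D hF hab _ fun c hc => hc, ?_, fun y hy hy1 =>
        centralizer_twoFix D hF hy1 hab hy.1 hy.2, ?_⟩
      · rw [card_pairStab D hF hab, hF, Nat.odd_iff]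
        have : 2 ∣ 2 ^ (2 * m + 1) := dvd_pow_self 2 (by omega)
        have := Nat.one_le_two_pow (n := 2 * m + 1)
        omega
      · set NN := Subgroup.normalizer ((pairStab a b : Subgroup (Cfsg.Sz F m)) : Set (Cfsg.Sz F m))
        have hle : pairStab a b ≤ NN := Subgroup.le_normalizer
        by_cases hall : NN ≤ pairStab a b
        · rw [le_antisymm hall hle]; exact dvd_mul_left _ _
        obtain ⟨y, hy, hyn⟩ := SetLike.not_le_iff_exists.1 hall
        obtain ⟨h1, h2, h3⟩ := sq_mem_pair D hF hx hab ha hb hy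
        have hya : y • a = b := h1.resolve_left fun e => hyn (mem_pairStab.2 ⟨e, h3 e⟩)
        have hyb : y • b = a := h2.resolve_right fun e => hab (MulAction.injective y (hya.trans e.symm))
        have hidx : ((pairStab a b).subgroupOf NN).index = 2 := by
          rw [Subgroup.index_eq_two_iff]
          refine ⟨⟨y, hy⟩, fun ⟨z, hz⟩ => ?_⟩
          simp only [Subgroup.mem_subgroupOf]
          obtain ⟨g1, g2, g3⟩ := sq_mem_pair D hF hx hab ha hb hz
          rcases g1 with e | e
          · refine Or.inr ⟨mem_pairStab.2 ⟨e, g3 e⟩, fun hc => ?_⟩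
            have := (mem_pairStab.1 hc).1
            rw [Subgroup.coe_mul, mul_smul, hya, g3 e] at this
            exact hab this.symm
          · have e' : z • b = a := g2.resolve_right fun e' => hab (MulAction.injective z (e.trans e'.symm))
            refine Or.inl ⟨mem_pairStab.2 ⟨?_, ?_⟩, fun hc => hab ((mem_pairStab.1 hc).1.symm.trans e)⟩
            · rw [Subgroup.coe_mul, mul_smul, hya, e']
            · rw [Subgroup.coe_mul, mul_smul, hyb, e]
        have := ((pairStab a b).subgroupOf NN).index_mul_card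
        rw [hidx, Nat.card_congr (Subgroup.subgroupOfEquivOfLe hle).toEquiv] at this
        rw [← this]
        exact Nat.mul_dvd_mul_right (by norm_num) _
  invol t ht := by
    obtain ⟨a, k, hta, hk, hC⟩ := centralizer_invol D hF ht
    have h4 : ∀ v ∈ Subgroup.centralizer {t}, v ^ 4 = 1 := fun v hv => by
      have h1 : (⟨_, (hC v).1 hv⟩ : Q D) ^ 4 = 1 := by
        have := Monoid.pow_exponent_eq_one (⟨_, (hC v).1 hv⟩ : Q D)
        rwa [exponent_Q D] at this
      have h2 := congrArg Subtype.val h1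
      simp only [SubmonoidClass.coe_pow, OneMemClass.coe_one] at h2
      rwa [conj_pow, conj_eq_one_iff] at h2
    refine ⟨fun v => ⟨2, Subtype.ext (by simpa using h4 v v.2)⟩, fun u hu hu2 => ?_, h4, fun v hv w hw e => ?_⟩
    · obtain ⟨a', k', hua', hk', hC'⟩ := centralizer_invol D hF hu2
      have huQ := (hC u).1 hu
      have hne : k * u * k⁻¹ ≠ 1 := fun e => (orderOf_two_iff.1 hu2).1 (conj_eq_one_iff.1 e)
      have haa : a' = a :=
        MulAction.injective k ((fix_oI_eq D hF huQ hne ((conj_fix k u).2 hua')).trans hk.symm)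
      subst haa
      ext g
      rw [hC', hC, conj_Q D hF hk', conj_Q D hF hk]
    · obtain ⟨p, r, hpr⟩ := (hC v).1 hv
      obtain ⟨p', r', hpr'⟩ := (hC w).1 hw
      have e' : (k * v * k⁻¹) ^ 2 = (k * w * k⁻¹) ^ 2 := by rw [conj_pow, conj_pow, e]
      rw [hpr, hpr', pow_two, pow_two, gT_mul, gT_mul, D.add_self, D.add_self, D.add_self, D.add_self, zero_add,
        zero_add] at e'
      have hpp : p = p' :=
        (Finite.injective_iff_surjective.2 (squares_surjective D hF)) (gT_inj D e').2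
      subst hpp
      have h1 : (k * (v⁻¹ * w) * k⁻¹) ^ 2 = 1 := by
        rw [show k * (v⁻¹ * w) * k⁻¹ = (k * v * k⁻¹)⁻¹ * (k * w * k⁻¹) by group, hpr, hpr', gT_inv, gT_mul, pow_two,
          gT_mul, ← gT_zero D, D.add_self]
        simp [D.add_self]
      rwa [conj_pow, conj_eq_one_iff] at h1
  three := by
    rw [card_sz D hF, hF]
    intro h
    have h2 : 2 ^ (2 * m + 1) % 3 = 2 := by
      rw [pow_succ, pow_mul, Nat.mul_mod, Nat.pow_mod]
      norm_num
    rcases Nat.prime_three.dvd_mul.1 h with h | h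
    · rcases Nat.prime_three.dvd_mul.1 h with h | h
      · have h3 := Nat.prime_three.dvd_of_dvd_pow h
        omega
      · have h3 : (2 ^ (2 * m + 1)) ^ 2 % 3 = 1 := by rw [Nat.pow_mod, h2]
        omega
    · omega
  borel t x y ht hx hy := by
    obtain ⟨a, k, hta, hk, hC⟩ := centralizer_invol D hF ht
    have hfix : ∀ g, g • a = a → ∃ p r u, k * g * k⁻¹ = gT D p r * gH D u := fun g hg =>
      gfix_inf D hF (by rw [← hk]; exact (conj_fix k g).2 hg)
    obtain ⟨p, r, u, hu⟩ := hfix x ((normalizer_invol D hF ht hta x).1 hx)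
    obtain ⟨p', r', u', hu'⟩ := hfix y ((normalizer_invol D hF ht hta y).1 hy)
    rw [hC, show k * (x * y * x⁻¹ * y⁻¹) * k⁻¹ =
      (k * x * k⁻¹) * (k * y * k⁻¹) * (k * x * k⁻¹)⁻¹ * (k * y * k⁻¹)⁻¹ by group, hu, hu']
    have hn : ∀ (v : Fˣ) (g : Cfsg.Sz F m), g ∈ Q D → gH D v * g * (gH D v)⁻¹ ∈ Q D := by
      rintro v _ ⟨c, d, rfl⟩
      rw [gH_gT]; exact ⟨_, _, rfl⟩
    have hm : ∀ c d, gT D c d ∈ Q D := fun c d => ⟨c, d, rfl⟩
    have hcomm : gH D u * gH D u' = gH D u' * gH D u := by rw [gH_mul, gH_mul, mul_comm]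
    have e : gT D p r * gH D u * (gT D p' r' * gH D u') * (gT D p r * gH D u)⁻¹ * (gT D p' r' * gH D u')⁻¹ =
        gT D p r * (gH D u * gT D p' r' * (gH D u)⁻¹) *
          (gH D u' * (gT D p r)⁻¹ * (gH D u')⁻¹) * (gT D p' r')⁻¹ := by
      have h1 : gH D u * gH D u' * (gH D u)⁻¹ = gH D u' := by rw [hcomm, mul_inv_cancel_right]
      calc _ = gT D p r * (gH D u * gT D p' r' * (gH D u)⁻¹) *
            (gH D u * gH D u' * (gH D u)⁻¹) * (gT D p r)⁻¹ * (gH D u')⁻¹ * (gT D p' r')⁻¹ := by group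
        _ = _ := by rw [h1]; group
    rw [e]
    exact mul_mem (mul_mem (mul_mem (hm _ _) (hn _ _ (hm _ _))) (hn _ _ (inv_mem (hm _ _)))) (inv_mem (hm _ _))
  borel_odd t x ht hx hx1 hxo := by
    obtain ⟨a, k, hta, hk, hC⟩ := centralizer_invol D hF ht
    have hxa := (normalizer_invol D hF ht hta x).1 hx
    rcases fix_trichotomy x with h0 | h1 | ⟨b, c, hbc, hb, hc⟩
    · exact absurd hxa (h0 a)
    · exfalso
      refine hx1 (orderOf_eq_one_iff.1 (Nat.Coprime.eq_one_of_dvd ?_
        (orderOf_dvd_of_pow_eq_one (pow_four_of_oneFix D hF h1))))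
      exact Nat.Coprime.pow_right 2 (Nat.coprime_two_right.2 hxo)
    · rw [centralizer_twoFix D hF hx1 hbc hb hc]
      refine ⟨fun g hg => (normalizer_invol D hF ht hta g).2 ?_, fun y hy => ?_⟩
      · rcases eq_pair_or D hF hx1 hbc hb hc hxa with e | e <;> rw [e]
        exacts [hg.1, hg.2]
      · obtain ⟨g1, g2, g3⟩ := sq_mem_pair D hF hx1 hbc hb hc hy
        rcases g1 with e | e
        · exact mem_pairStab.2 ⟨by rw [pow_two, mul_smul, e, e], by rw [pow_two, mul_smul, g3 e, g3 e]⟩
        · have e' : y • c = b := g2.resolve_right fun e' => hbc (MulAction.injective y (e.trans e'.symm))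
          exact mem_pairStab.2 ⟨by rw [pow_two, mul_smul, e, e'], by rw [pow_two, mul_smul, e', e]⟩

omit D hF in
theorem centralizer_sub {G : Type*} [Group G] (M : Subgroup G) (x : M) :
    Subgroup.centralizer {x} = (Subgroup.centralizer {(x : G)}).subgroupOf M := by
  ext y
  rw [Subgroup.mem_subgroupOf, mem_centralizer_one, mem_centralizer_one]
  exact ⟨fun h => congrArg Subtype.val h, fun h => Subtype.ext h⟩

omit D hF in
/-- The properties pass to subgroups. -/
theorem SzLike.subgroup {G : Type*} [Group G] [Finite G] (S : SzLike G) (M : Subgroup G) : SzLike M where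
  odd_cyc x hx hxo := by
    rw [← Subgroup.orderOf_coe] at hxo
    have hx' : (x : G) ≠ 1 := fun e => hx (Subtype.ext e)
    obtain ⟨h1, h2, h3, h4⟩ := S.odd_cyc (x : G) hx' hxo
    haveI := h1
    rw [centralizer_sub]
    set C := Subgroup.centralizer {(x : G)}
    let f : C.subgroupOf M →* C :=
      (M.subtype.comp (C.subgroupOf M).subtype).codRestrict C fun y => Subgroup.mem_subgroupOf.1 y.2
    have hf : Function.Injective f := fun y z e =>
      Subtype.ext (Subtype.ext (congrArg (fun w : C => (w : G)) e :))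
    refine ⟨isCyclic_of_injective f hf, Odd.of_dvd_nat h2 (Subgroup.card_dvd_of_injective f hf),
      fun y hy hy1 => ?_, ?_⟩
    · rw [centralizer_sub, h3 _ (Subgroup.mem_subgroupOf.1 hy) fun e => hy1 (Subtype.ext e)]
    · set N₁ := Subgroup.normalizer ((C.subgroupOf M : Subgroup M) : Set M)
      have hle : ∀ y ∈ N₁, (y : G) ∈ Subgroup.normalizer (C : Set G) := by
        intro y hy
        have hxm : x ∈ C.subgroupOf M := Subgroup.mem_subgroupOf.2 (self_mem_centralizer _)
        have h5 := Subgroup.mem_subgroupOf.1 ((Subgroup.mem_normalizer_iff.1 hy x).1 hxm)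
        rw [Subgroup.coe_mul, Subgroup.coe_mul, InvMemClass.coe_inv] at h5
        have h6 := h3 _ h5 fun e => hx' (conj_eq_one_iff.1 e)
        rw [Subgroup.mem_normalizer_iff]
        intro z
        conv_rhs => rw [← h6]
        exact conj_mem_centralizer.symm
      let g : N₁ →* Subgroup.normalizer (C : Set G) :=
        (M.subtype.comp N₁.subtype).codRestrict _ fun y => hle y y.2
      have hCN : C ≤ Subgroup.normalizer (C : Set G) := Subgroup.le_normalizer
      set C₂ := C.subgroupOf (Subgroup.normalizer (C : Set G))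
      haveI : C₂.Normal := Subgroup.normal_in_normalizer
      have hker : ((QuotientGroup.mk' C₂).comp g).ker = (C.subgroupOf M).subgroupOf N₁ := by
        ext y
        rw [MonoidHom.mem_ker, MonoidHom.comp_apply, QuotientGroup.mk'_apply, QuotientGroup.eq_one_iff,
          Subgroup.mem_subgroupOf, Subgroup.mem_subgroupOf, Subgroup.mem_subgroupOf]
        rfl
      set K := ((QuotientGroup.mk' C₂).comp g).ker
      have h7 : Nat.card N₁ = K.index * Nat.card K := K.index_mul_card.symm
      have h8 : Nat.card K = Nat.card (C.subgroupOf M) := by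
        rw [hker]; exact Nat.card_congr (Subgroup.subgroupOfEquivOfLe Subgroup.le_normalizer).toEquiv
      have h9 : K.index ∣ C₂.index := by
        rw [Subgroup.index_eq_card K, Subgroup.index_eq_card C₂]
        exact Subgroup.card_dvd_of_injective _ (QuotientGroup.kerLift_injective _)
      have h10 : C₂.index ∣ 4 := by
        have h11 := C₂.index_mul_card
        rw [Nat.card_congr (Subgroup.subgroupOfEquivOfLe hCN).toEquiv] at h11
        rw [← h11] at h4
        exact Nat.dvd_of_mul_dvd_mul_right Nat.card_pos h4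
      rw [h7, h8]
      exact Nat.mul_dvd_mul_right (h9.trans h10) _
  invol t ht := by
    rw [← Subgroup.orderOf_coe] at ht
    obtain ⟨h1, h2, h3, h4⟩ := S.invol (t : G) ht
    rw [centralizer_sub]
    refine ⟨h1.comap_of_injective M.subtype M.subtype_injective, fun u hu hu2 => ?_, fun v hv => ?_,
      fun v hv w hw e => ?_⟩
    · rw [← Subgroup.orderOf_coe] at hu2
      rw [centralizer_sub, h2 _ (Subgroup.mem_subgroupOf.1 hu) hu2]
    · exact Subtype.ext (by simpa using h3 _ (Subgroup.mem_subgroupOf.1 hv))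
    · exact Subtype.ext (by
        simpa using h4 _ (Subgroup.mem_subgroupOf.1 hv) _ (Subgroup.mem_subgroupOf.1 hw)
          (by simpa using congrArg Subtype.val e))
  three h := S.three (h.trans (Subgroup.card_subgroup_dvd_card M))
  borel t x y ht hx hy := by
    rw [← Subgroup.orderOf_coe] at ht
    have hnorm : ∀ z : M, z ∈ Subgroup.normalizer ((Subgroup.centralizer {t} : Subgroup M) : Set M) →
        (z : G) ∈ Subgroup.normalizer ((Subgroup.centralizer {(t : G)} : Subgroup G) : Set G) := by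
      intro z hz
      have h5 := (Subgroup.mem_normalizer_iff.1 hz t).1 (self_mem_centralizer t)
      rw [centralizer_sub, Subgroup.mem_subgroupOf] at h5
      rw [Subgroup.coe_mul, Subgroup.coe_mul, InvMemClass.coe_inv] at h5
      have h6 := (S.invol (t : G) ht).2.1 _ h5 (by
        rw [show (z : G) * t * (z : G)⁻¹ = MulAut.conj (z : G) t from rfl, MulEquiv.orderOf_eq, ht])
      rw [Subgroup.mem_normalizer_iff]
      intro w
      conv_rhs => rw [← h6]
      exact conj_mem_centralizer.symm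
    have := S.borel (t : G) _ _ ht (hnorm x hx) (hnorm y hy)
    rw [centralizer_sub, Subgroup.mem_subgroupOf]
    simpa using this
  borel_odd t x ht hx hx1 hxo := by
    rw [← Subgroup.orderOf_coe] at ht hxo
    have hx1' : (x : G) ≠ 1 := fun e => hx1 (Subtype.ext e)
    have hnorm : ∀ z : M, z ∈ Subgroup.normalizer ((Subgroup.centralizer {t} : Subgroup M) : Set M) →
        (z : G) ∈ Subgroup.normalizer ((Subgroup.centralizer {(t : G)} : Subgroup G) : Set G) := by
      intro z hz
      have h5 := (Subgroup.mem_normalizer_iff.1 hz t).1 (self_mem_centralizer t)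
      rw [centralizer_sub, Subgroup.mem_subgroupOf] at h5
      rw [Subgroup.coe_mul, Subgroup.coe_mul, InvMemClass.coe_inv] at h5
      have h6 := (S.invol (t : G) ht).2.1 _ h5 (by
        rw [show (z : G) * t * (z : G)⁻¹ = MulAut.conj (z : G) t from rfl, MulEquiv.orderOf_eq, ht])
      rw [Subgroup.mem_normalizer_iff]
      intro w
      conv_rhs => rw [← h6]
      exact conj_mem_centralizer.symm
    obtain ⟨hle, hsq⟩ := S.borel_odd (t : G) x ht (hnorm x hx) hx1' hxo
    constructor
    · intro y hy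
      rw [centralizer_sub, Subgroup.mem_subgroupOf] at hy
      have h1 := hle hy
      rw [Subgroup.mem_normalizer_iff] at h1 ⊢
      intro z
      rw [centralizer_sub, Subgroup.mem_subgroupOf, Subgroup.mem_subgroupOf]
      simpa using h1 z
    · intro y hy
      obtain ⟨-, -, h3, -⟩ := S.odd_cyc (x : G) hx1' hxo
      have h5 := (Subgroup.mem_normalizer_iff.1 hy x).1 (self_mem_centralizer x)
      rw [centralizer_sub, Subgroup.mem_subgroupOf] at h5
      rw [Subgroup.coe_mul, Subgroup.coe_mul, InvMemClass.coe_inv] at h5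
      have h6 := h3 _ h5 fun e => hx1' (conj_eq_one_iff.1 e)
      rw [centralizer_sub, Subgroup.mem_subgroupOf]
      simpa using hsq (y : G) (by
        rw [Subgroup.mem_normalizer_iff]
        intro w
        conv_rhs => rw [← h6]
        exact conj_mem_centralizer.symm)

end Cfsg.Agent.Suzuki
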