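/-
The subgroups of a Suzuki group without normal abelian subgroups are subfield subgroups.
-/
import Cfsg.Agent.Lib.Suzuki.SzLikeInst

set_option autoImplicit false

namespace Cfsg.Agent.Suzuki

open scoped Matrix

/-- The fixed elements of a power of Frobenius. -/
def InK {F : Type*} [Monoid F] (z : ℕ) (x : F) : Prop := x ^ z = x

/-- Conjugation preserves the order of a subgroup. -/
theorem card_map_conj {G : Type*} [Group G] (M : Subgroup G) (k : G) :
    Nat.card (M.map (MulAut.conj k).toMonoidHom) = Nat.card M :=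
  (Nat.card_congr (Subgroup.equivMapOfInjective M _ (MulAut.conj k).injective).toEquiv).symm

theorem mem_map_conj {G : Type*} [Group G] (M : Subgroup G) (k y : G) :
    y ∈ M.map (MulAut.conj k).toMonoidHom ↔ k⁻¹ * y * k ∈ M := by
  constructor
  · rintro ⟨w, hw, rfl⟩
    show k⁻¹ * (k * w * k⁻¹) * k ∈ M
    rwa [show k⁻¹ * (k * w * k⁻¹) * k = w by group]
  · exact fun h => ⟨_, h, by show k * (k⁻¹ * y * k) * k⁻¹ = y; group⟩

/-- A normal abelian subgroup of a subgroup, seen in the group. -/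
theorem normal_abelian_map {G : Type*} [Group G] (M : Subgroup G) (A : Subgroup M) (hAn : A.Normal)
    (hA : ∀ A : Subgroup G, A ≤ M → M ≤ Subgroup.normalizer (A : Set G) → (∀ a ∈ A, ∀ b ∈ A, Commute a b) → A = ⊥)
    (hAc : ∀ a ∈ A, ∀ b ∈ A, Commute a b) : A = ⊥ := by
  have h1 := hA (A.map M.subtype) (Subgroup.map_subtype_le A) (fun g hg => by
    rw [Subgroup.mem_normalizer_iff]
    intro y
    constructor
    · rintro ⟨y', hy', rfl⟩
      exact ⟨⟨g, hg⟩ * y' * ⟨g, hg⟩⁻¹, hAn.conj_mem y' hy' _, rfl⟩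
    · rintro ⟨y', hy', e⟩
      refine ⟨⟨g, hg⟩⁻¹ * y' * ⟨g, hg⟩⁻¹⁻¹, hAn.conj_mem y' hy' _, ?_⟩
      show g⁻¹ * (y' : G) * g⁻¹⁻¹ = y
      rw [show (y' : G) = g * y * g⁻¹ from e]
      group) (by
    rintro _ ⟨a, ha, rfl⟩ _ ⟨b, hb, rfl⟩
    exact (hAc a ha b hb).map M.subtype)
  exact (Subgroup.map_eq_bot_iff_of_injective A M.subtype_injective).1 h1

variable {F : Type*} [Field F] [Fintype F] {m : ℕ} (D : Dat F m) (hF : Fintype.card F = 2 ^ (2 * m + 1))
include D hF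

section Field

variable {j : ℕ}

theorem inK_iff (c : F) : InK (2 ^ j) c ↔ frHom D ((j : ℕ) : ZMod (2 * m + 1)) c = c := by
  rw [InK, fr_mod hF]; exact Iff.rfl

theorem inK_add {c e : F} (hc : InK (2 ^ j) c) (he : InK (2 ^ j) e) : InK (2 ^ j) (c + e) := by
  rw [inK_iff D hF] at *; rw [map_add, hc, he]

theorem inK_mul {c e : F} (hc : InK (2 ^ j) c) (he : InK (2 ^ j) e) : InK (2 ^ j) (c * e) := by
  rw [inK_iff D hF] at *; rw [map_mul, hc, he]

theorem inK_theta {c : F} (hc : InK (2 ^ j) c) : InK (2 ^ j) (D.θ c) := by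
  rw [inK_iff D hF] at *; rw [frHom_theta, hc]

theorem inK_inv {c : F} (hc : InK (2 ^ j) c) : InK (2 ^ j) c⁻¹ := by
  rw [inK_iff D hF] at *; rw [map_inv₀, hc]

theorem inK_zero : InK (2 ^ j) (0 : F) := by rw [inK_iff D hF, map_zero]

theorem inK_one : InK (2 ^ j) (1 : F) := by rw [inK_iff D hF, map_one]

theorem inK_sqrt {c : F} (hc : InK (2 ^ j) (c ^ 2)) : InK (2 ^ j) c := by
  rw [inK_iff D hF, map_pow] at *; exact D.sq_inj hc

theorem inK_sqtheta {c : F} (hc : InK (2 ^ j) (D.θ c * c)) : InK (2 ^ j) c := by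
  rw [inK_iff D hF, map_mul, frHom_theta] at *
  exact (Finite.injective_iff_surjective.2 (squares_surjective D hF)) hc

omit D hF in
theorem inK_unit (u : Fˣ) : u ^ (2 ^ j - 1) = 1 ↔ InK (2 ^ j) (u : F) := by
  rw [InK]
  conv_rhs => rw [show 2 ^ j = 2 ^ j - 1 + 1 by have := Nat.one_le_two_pow (n := j); omega, pow_succ]
  rw [mul_left_eq_self₀, or_iff_left u.ne_zero, ← Units.val_pow_eq_pow_val, Units.val_eq_one]

omit D hF in
theorem card_inK (hj : 0 < j) (h : Nat.card {u : Fˣ // u ^ (2 ^ j - 1) = 1} = 2 ^ j - 1) :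
    Nat.card {c : F // InK (2 ^ j) c} = 2 ^ j := by
  classical
  have := Nat.card_eq_of_bijective (fun u : Option {u : Fˣ // u ^ (2 ^ j - 1) = 1} =>
    (u.elim ⟨0, by rw [InK, zero_pow (by positivity)]⟩ fun u => ⟨(u.1 : F), (inK_unit _).1 u.2⟩ :
      {c : F // InK (2 ^ j) c})) ⟨by
    rintro (_ | u) (_ | v) e
    · rfl
    · exact absurd (congrArg Subtype.val e).symm v.1.ne_zero
    · exact absurd (congrArg Subtype.val e) u.1.ne_zero
    · exact congrArg some (Subtype.ext (Units.ext (congrArg Subtype.val e :))), by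
    rintro ⟨c, hc⟩
    by_cases hc0 : c = 0
    · exact ⟨none, Subtype.ext hc0.symm⟩
    exact ⟨some ⟨Units.mk0 c hc0, (inK_unit _).2 hc⟩, rfl⟩⟩
  rw [← this, Finite.card_option, h]
  have := Nat.one_le_two_pow (n := j)
  omega

end Field

/-- The scaling of the centre by the torus. -/
noncomputable def kap (u : Fˣ) : Fˣ := Units.map (D.θ : F →+* F).toMonoidHom u ^ 2 * u ^ 2

omit hF in
theorem kap_val (u : Fˣ) : (kap D u : F) = D.θ u ^ 2 * (u : F) ^ 2 := by simp [kap]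

theorem kap_inj : Function.Injective (kap D) := by
  intro u v e
  have e1 : D.θ (u : F) ^ 2 * (u : F) ^ 2 = D.θ (v : F) ^ 2 * (v : F) ^ 2 := by rw [← kap_val, ← kap_val, e]
  rw [← map_pow, ← map_pow] at e1
  exact Units.ext (D.sq_inj ((Finite.injective_iff_surjective.2 (squares_surjective D hF)) e1))

omit hF in
theorem kap_mul (u v : Fˣ) : kap D (u * v) = kap D u * kap D v := by
  rw [kap, kap, kap, map_mul, mul_pow, mul_pow, mul_mul_mul_comm]

omit hF in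
theorem kap_pow {u : Fˣ} {n : ℕ} (hu : u ^ n = 1) : kap D u ^ n = 1 := by
  rw [kap, mul_pow, ← pow_mul, ← pow_mul, mul_comm 2, pow_mul, pow_mul, hu, ← map_pow, hu, map_one, one_pow, mul_one]

omit hF in
theorem gH_scale (u : Fˣ) (p r : F) :
    gH D u * gT D p r * (gH D u)⁻¹ = gT D ((u : F) ^ 2 * p) ((kap D u : F) * r) := by
  rw [gH_gT, kap_val]

/-- The torus of a subgroup. -/
theorem torus_iff (M : Subgroup (Cfsg.Sz F m)) {a b : Cfsg.suzukiOvoid F m} (hab : a ≠ b) {n : ℕ} (hn : 0 < n)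
    (hcard : Nat.card (pairStab a b ⊓ M : Subgroup (Cfsg.Sz F m)) = n)
    {k : Cfsg.Sz F m} (hka : k • a = oI D) (hkb : k • b = oP D 0 0) :
    (∀ u : Fˣ, gH D u ∈ M.map (MulAut.conj k).toMonoidHom ↔ u ^ n = 1) ∧ Nat.card {u : Fˣ // u ^ n = 1} = n := by
  classical
  set M' := M.map (MulAut.conj k).toMonoidHom
  let U : Subgroup Fˣ :=
    { carrier := {u | gH D u ∈ M'}
      one_mem' := by show gH D 1 ∈ M'; rw [gH_one]; exact one_mem _
      mul_mem' := fun {u v} hu hv => by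
        show gH D (u * v) ∈ M'; rw [← gH_mul]; exact mul_mem hu hv
      inv_mem' := fun {u} hu => by show gH D u⁻¹ ∈ M'; rw [← gH_inv]; exact inv_mem hu }
  have hfix : ∀ u : Fˣ, (k⁻¹ * gH D u * k) ∈ pairStab a b := fun u => mem_pairStab.2
    ⟨by rw [mul_smul, hka, mul_smul, gH_oI, inv_smul_eq_iff, hka],
      by rw [mul_smul, hkb, mul_smul, gH_oP, mul_zero, mul_zero, inv_smul_eq_iff, hkb]⟩
  have hUcard : Nat.card U = n := by
    rw [← hcard]
    refine Nat.card_eq_of_bijective (fun u : U => (⟨k⁻¹ * gH D u * k, hfix u, (mem_map_conj M k _).1 u.2⟩ :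
      (pairStab a b ⊓ M : Subgroup (Cfsg.Sz F m)))) ⟨fun u v e => ?_, fun y => ?_⟩
    · exact Subtype.ext (gH_inj D (mul_left_cancel (mul_right_cancel (congrArg Subtype.val e))))
    · obtain ⟨hy1, hy2⟩ := mem_pairStab.1 y.2.1
      obtain ⟨u, hu⟩ := conj_pair D hF hka hkb hy1 hy2
      have e' : k⁻¹ * gH D u * k = (y : Cfsg.Sz F m) := by rw [← hu]; group
      exact ⟨⟨u, (mem_map_conj M k _).2 (e' ▸ y.2.2)⟩, Subtype.ext e'⟩
  have hpow : ∀ v ∈ U, v ^ n = 1 := by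
    intro v hv
    have h1 : (⟨v, hv⟩ : U) ^ Nat.card U = 1 := pow_card_eq_one'
    rw [hUcard] at h1
    exact congrArg Subtype.val h1
  have hsub : (U : Set Fˣ) = {u : Fˣ | u ^ n = 1} := by
    refine Set.eq_of_subset_of_ncard_le hpow ?_ (Set.toFinite _)
    rw [show (U : Set Fˣ).ncard = Nat.card U from rfl, hUcard, Set.ncard_eq_toFinset_card', Set.toFinset_setOf]
    exact IsCyclic.card_pow_eq_one_le hn
  refine ⟨fun u => Set.ext_iff.1 hsub u, ?_⟩
  refine Eq.trans ?_ hUcard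
  exact Nat.card_congr (Equiv.setCongr hsub).symm

/-- The central elements of the translations, up to scaling. -/
theorem centre_iff {M' : Subgroup (Cfsg.Sz F m)} {j : ℕ} (hj : 0 < j)
    (hU : ∀ u : Fˣ, gH D u ∈ M' ↔ u ^ (2 ^ j - 1) = 1) (hUc : Nat.card {u : Fˣ // u ^ (2 ^ j - 1) = 1} = 2 ^ j - 1)
    (hB : Nat.card {c : F // gT D 0 c ∈ M'} = 2 ^ j) :
    ∃ β : Fˣ, ∀ c : F, gT D 0 c ∈ M' ↔ InK (2 ^ j) ((β : F) * c) := by
  classical
  obtain ⟨⟨β, hβ⟩, hβ0⟩ : ∃ c : {c : F // gT D 0 c ∈ M'}, (c : F) ≠ 0 := by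
    by_contra hc
    push_neg at hc
    have : Nat.card {c : F // gT D 0 c ∈ M'} ≤ 1 := Finite.card_le_one_iff_subsingleton.2
      ⟨fun c e => Subtype.ext ((hc c).trans (hc e).symm)⟩
    have := Nat.pow_le_pow_right (show 0 < 2 by norm_num) hj
    omega
  set β' : Fˣ := Units.mk0 β hβ0
  refine ⟨β'⁻¹, fun c => ?_⟩
  have hscale : ∀ u : Fˣ, u ^ (2 ^ j - 1) = 1 → gT D 0 ((kap D u : F) * β) ∈ M' := by
    intro u hu
    have := mul_mem (mul_mem ((hU u).2 hu) hβ) (inv_mem ((hU u).2 hu))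
    rwa [gH_scale, mul_zero] at this
  set S : Set F := {c | InK (2 ^ j) (((β'⁻¹ : Fˣ) : F) * c)}
  have hsub : S ⊆ {c : F | gT D 0 c ∈ M'} := by
    intro c hc
    show gT D 0 c ∈ M'
    by_cases hc0 : c = 0
    · rw [hc0, gT_zero]; exact one_mem _
    have hw : (β'⁻¹ * Units.mk0 c hc0) ^ (2 ^ j - 1) = 1 := (inK_unit _).2 (by rw [Units.val_mul]; exact hc)
    obtain ⟨⟨u, hu⟩, hue⟩ := ((Finite.injective_iff_surjective
      (f := fun u : {u : Fˣ // u ^ (2 ^ j - 1) = 1} => (⟨kap D u.1, kap_pow D u.2⟩ : {u : Fˣ // u ^ (2 ^ j - 1) = 1}))).1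
      fun u v e => Subtype.ext (kap_inj D hF (congrArg Subtype.val e :))) ⟨_, hw⟩
    have hue' : (kap D u : F) = β⁻¹ * c := by simpa [β'] using congrArg (fun w => ((w.1 : Fˣ) : F)) hue
    have := hscale u hu
    rwa [hue', mul_comm, ← mul_assoc, mul_inv_cancel₀ hβ0, one_mul] at this
  have hScard : S.ncard = 2 ^ j := by
    show Nat.card {c : F // InK (2 ^ j) (((β'⁻¹ : Fˣ) : F) * c)} = _
    exact Eq.trans (Nat.card_congr ((Equiv.mulLeft₀ _ (Units.ne_zero β'⁻¹)).subtypeEquiv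
      (q := fun e => InK (2 ^ j) e) fun c => Iff.rfl)) (card_inK hj hUc)
  have heq := Set.eq_of_subset_of_ncard_le hsub (by
    rw [hScard]; exact le_of_eq hB) (Set.toFinite _)
  exact (Set.ext_iff.1 heq c).symm

/-- The translations of a subgroup have parameters in the subfield. -/
theorem translations_le {M' : Subgroup (Cfsg.Sz F m)} {j : ℕ}
    (hHK : ∀ u : Fˣ, gH D u ∈ M' ↔ InK (2 ^ j) (u : F)) (hBK : ∀ c : F, gT D 0 c ∈ M' ↔ InK (2 ^ j) c)
    {e₁ : F} (he : InK (2 ^ j) e₁) (hene : D.θ e₁ + e₁ ≠ 0) {p r : F} (h : gT D p r ∈ M') :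
    InK (2 ^ j) p ∧ InK (2 ^ j) r := by
  have hsame : ∀ {p r r' : F}, InK (2 ^ j) p → gT D p r ∈ M' → gT D p r' ∈ M' → InK (2 ^ j) (r + r') := by
    intro p r r' hp h1 h2
    have h3 := mul_mem h1 h2
    rw [gT_mul, D.add_self, hBK] at h3
    have h4 := inK_add D hF h3 (inK_mul D hF (inK_theta D hF hp) hp)
    rwa [add_assoc, D.add_self, add_zero] at h4
  have hscale : ∀ {p r : F} (s : Fˣ), InK (2 ^ j) (s : F) → gT D p r ∈ M' →
      gT D ((s : F) ^ 2 * p) ((kap D s : F) * r) ∈ M' := by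
    intro p r s hs h
    rw [← gH_scale]
    exact mul_mem (mul_mem ((hHK s).2 hs) h) (inv_mem ((hHK s).2 hs))
  have hroot : ∀ {c : F}, InK (2 ^ j) c → c ≠ 0 → ∃ s : Fˣ, InK (2 ^ j) (s : F) ∧ (s : F) ^ 2 = c := by
    intro c hc hc0
    obtain ⟨s, hs⟩ := (Finite.injective_iff_surjective.1 fun x y e => D.sq_inj e :
      Function.Surjective fun x : F => x ^ 2) c
    simp only at hs
    refine ⟨Units.mk0 s (fun e => hc0 (by rw [← hs, e]; simp)), inK_sqrt D hF (?_ : InK (2 ^ j) (s ^ 2)), hs⟩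
    rw [hs]; exact hc
  have hone : ∀ c, gT D 1 c ∈ M' → InK (2 ^ j) c := by
    intro c hc
    have he0 : e₁ ≠ 0 := fun e => hene (by rw [e, map_zero, add_zero])
    have he1 : 1 + e₁ ≠ 0 := fun e => hene (by rw [← D.eq_of_add e, map_one, D.add_self])
    obtain ⟨s, hs, hse⟩ := hroot he he0
    obtain ⟨s', hs', hse'⟩ := hroot (inK_add D hF (inK_one D hF) he) he1
    have h1 := hscale s hs hc
    have h2 := hscale s' hs' hc
    rw [kap_val, ← map_pow, hse, mul_one] at h1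
    rw [kap_val, ← map_pow, hse', mul_one] at h2
    have h3 := mul_mem hc h1
    rw [gT_mul, map_one, one_mul] at h3
    have h4 := hsame (inK_add D hF (inK_one D hF) he) h3 h2
    have h5 : (c + D.θ e₁ * e₁ * c + e₁ + D.θ (1 + e₁) * (1 + e₁) * c) = (D.θ e₁ + e₁) * c + e₁ := by
      rw [map_add, map_one]
      linear_combination (c + D.θ e₁ * e₁ * c) * D.two
    rw [h5] at h4
    have h6 := inK_add D hF h4 he
    rw [add_assoc, D.add_self, add_zero] at h6
    have h7 := inK_mul D hF (inK_inv D hF (inK_add D hF (inK_theta D hF he) he)) h6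
    rwa [inv_mul_cancel_left₀ hene] at h7
  have hp : InK (2 ^ j) p := by
    have h2 := mul_mem h h
    rw [gT_mul, D.add_self, D.add_self, zero_add, hBK] at h2
    exact inK_sqtheta D hF h2
  refine ⟨hp, ?_⟩
  by_cases hp0 : p = 0
  · subst hp0; exact (hBK r).1 h
  obtain ⟨s, hs, hsp⟩ := hroot hp hp0
  have h1 := hscale s⁻¹ (by rw [Units.val_inv_eq_inv_val]; exact inK_inv D hF hs) h
  rw [show (((s⁻¹ : Fˣ) : F)) ^ 2 * p = 1 by rw [← hsp, Units.val_inv_eq_inv_val, inv_pow,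
    inv_mul_cancel₀ (pow_ne_zero 2 s.ne_zero)]] at h1
  have hkK : InK (2 ^ j) (kap D s : F) := by
    rw [kap_val, pow_two, pow_two]
    exact inK_mul D hF (inK_mul D hF (inK_theta D hF hs) (inK_theta D hF hs)) (inK_mul D hF hs hs)
  have h2 := inK_mul D hF hkK (hone _ h1)
  rwa [← mul_assoc, ← Units.val_mul, ← kap_mul, mul_inv_cancel,
    show ((kap D 1 : Fˣ) : F) = 1 by simp [kap], one_mul] at h2

/-- The involution swapping the base pair lies in a subgroup containing the subfield Borel subgroup. -/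
theorem gw_mem {M' : Subgroup (Cfsg.Sz F m)} {j : ℕ} (hHK : ∀ u : Fˣ, gH D u ∈ M' ↔ InK (2 ^ j) (u : F))
    (hK : Nat.card {c : F // InK (2 ^ j) c} = 2 ^ j)
    (hT : ∀ p r, InK (2 ^ j) p → InK (2 ^ j) r → gT D p r ∈ M')
    (horb : Nat.card (MulAction.orbit M' (oI D)) = (2 ^ j) ^ 2 + 1)
    {i : Cfsg.Sz F m} (hiM : i ∈ M') (hi2 : i * i = 1) (hswap : i • oI D = oP D 0 0) : gw D ∈ M' := by
  have hswap' : i • oP D 0 0 = oI D := by rw [← hswap, ← mul_smul, hi2, one_smul]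
  obtain ⟨v, hv⟩ := fix_pair_of_gfix D hF (g := i * gw D)
    (by rw [mul_smul, gw_oI, hswap'])
    (by
      have : gw D • oP D 0 0 = oI D := by rw [← gw_oI, ← mul_smul, gw_sq, one_smul]
      rw [mul_smul, this, hswap])
  have hieq : i = gH D v * gw D := by rw [← hv, mul_assoc, gw_sq, mul_one]
  have hmemorb : i • oP D 0 1 ∈ MulAction.orbit M' (oI D) := by
    refine ⟨⟨i * gT D 0 1 * i, mul_mem (mul_mem hiM (hT 0 1 (inK_zero D hF) (inK_one D hF))) hiM⟩, ?_⟩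
    show (i * gT D 0 1 * i) • oI D = _
    rw [mul_smul, mul_smul, hswap, gT_oP]; simp
  let f : Option ({c : F // InK (2 ^ j) c} × {c : F // InK (2 ^ j) c}) → MulAction.orbit M' (oI D) := fun o =>
    o.elim ⟨oI D, MulAction.mem_orbit_self _⟩ fun q => ⟨oP D q.1 q.2,
      ⟨⟨gT D q.1 q.2 * i, mul_mem (hT _ _ q.1.2 q.2.2) hiM⟩, by
        show (gT D (q.1 : F) q.2 * i) • oI D = _
        rw [mul_smul, hswap, gT_oP]; simp⟩⟩
  have hfinj : Function.Injective f := by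
    rintro (_ | ⟨p, r⟩) (_ | ⟨p', r'⟩) e
    · rfl
    · exact absurd (congrArg Subtype.val e) (oI_ne_oP D _ _)
    · exact absurd (congrArg Subtype.val e).symm (oI_ne_oP D _ _)
    · obtain ⟨e1, e2⟩ := pP_inj D (congrArg Subtype.val (congrArg Subtype.val e : oP D (p : F) r = oP D p' r'))
      exact congrArg some (Prod.ext (Subtype.ext e1) (Subtype.ext e2))
  have hfs := (hfinj.bijective_of_nat_card_le (by rw [horb, Finite.card_option, Nat.card_prod, hK, pow_two])).2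
  obtain ⟨o, ho⟩ := hfs ⟨_, hmemorb⟩
  have hw01 : gw D • oP D 0 1 = oP D 1 0 := by
    apply Subtype.ext
    show w F • pP D.θ 0 1 = pP D.θ 1 0
    rw [pP, act_mk _ _ (mulVec_ne _ (vP_ne _ _ _)), pP]
    refine (Projectivization.mk_eq_mk_iff' F _ _ _ _).2 ⟨1, ?_⟩
    funext l
    fin_cases l <;> simp [w_mulVec, vP, ov]
  have hpt : i • oP D 0 1 = oP D ((v : F) ^ 2) 0 := by
    rw [hieq, mul_smul, hw01, gH_oP]; simp
  have hvK : InK (2 ^ j) (v : F) := by
    rcases o with _ | ⟨p, r⟩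
    · exact absurd ((congrArg Subtype.val ho).trans hpt) (oI_ne_oP D _ _)
    · obtain ⟨e1, -⟩ := pP_inj D (congrArg Subtype.val ((congrArg Subtype.val ho).trans hpt : oP D (p : F) r = oP D ((v : F) ^ 2) 0))
      exact inK_sqrt D hF (e1 ▸ p.2)
  have := mul_mem (inv_mem ((hHK v).2 hvK)) hiM
  rwa [hieq, inv_mul_cancel_left] at this

/-- An involution inverting a non-trivial odd element of the torus swaps the base pair. -/
theorem swap_of_inverts {i : Cfsg.Sz F m} {w : Fˣ} (hi2 : i * i = 1) (hwne : gH D w ≠ 1) (hwo : Odd (orderOf (gH D w)))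
    (hix : i * gH D w * i = (gH D w)⁻¹) : i • oI D = oP D 0 0 := by
  have hiinv : i⁻¹ = i := inv_eq_of_mul_eq_one_right hi2
  have hgI := gH_oI D w
  have hgP : gH D w • oP D 0 0 = oP D 0 0 := by rw [gH_oP, mul_zero, mul_zero]
  have hnorm : ∀ p : Cfsg.suzukiOvoid F m, gH D w • p = p → gH D w • (i • p) = i • p := by
    intro p hp
    have : i * (gH D w)⁻¹ * i⁻¹ = gH D w := by
      rw [← hix, hiinv, ← mul_assoc, ← mul_assoc, hi2, one_mul, mul_assoc, hi2, mul_one]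
    rw [← this]
    exact (conj_fix i _).2 (by rw [inv_smul_eq_iff, hp])
  refine (eq_pair_or D hF hwne (oI_ne_oP D 0 0) hgI hgP (hnorm _ hgI)).resolve_left fun e => ?_
  have e' : i • oP D 0 0 = oP D 0 0 :=
    (eq_pair_or D hF hwne (oI_ne_oP D 0 0) hgI hgP (hnorm _ hgP)).resolve_left
      fun e' => oI_ne_oP D 0 0 (MulAction.injective i (e.trans e'.symm))
  obtain ⟨v, hv⟩ := fix_pair_of_gfix D hF e e'
  have h3 : gH D w = (gH D w)⁻¹ := by
    conv_rhs => rw [← hix, hv, gH_mul, mul_comm v, ← gH_mul, mul_assoc, ← hv, hi2, mul_one]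
  have h4 : (gH D w) ^ 2 = 1 := by rw [pow_two]; exact mul_eq_one_iff_eq_inv.2 h3
  exact hwne (orderOf_eq_one_iff.1 (Nat.Coprime.eq_one_of_dvd (Nat.coprime_two_right.2 hwo) (orderOf_dvd_of_pow_eq_one h4)))

/-- The numbers of a subgroup without normal abelian subgroups, in the group. -/
theorem shape_data (M : Subgroup (Cfsg.Sz F m)) (hM : M ≠ ⊥)
    (hA : ∀ A : Subgroup (Cfsg.Sz F m), A ≤ M → M ≤ Subgroup.normalizer (A : Set (Cfsg.Sz F m)) →
      (∀ a ∈ A, ∀ b ∈ A, Commute a b) → A = ⊥) :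
    ∃ (j : ℕ) (a b : Cfsg.suzukiOvoid F m) (t x i : Cfsg.Sz F m), 3 ≤ j ∧ a ≠ b ∧ orderOf t = 2 ∧ t • a = a ∧
      x ∈ M ∧ x • a = a ∧ x • b = b ∧ x ≠ 1 ∧ Odd (orderOf x) ∧ i ∈ M ∧ i * i = 1 ∧ i * x * i = x⁻¹ ∧
      Nat.card M = ((2 ^ j) ^ 2 + 1) * ((2 ^ j) ^ 2 * (2 ^ j - 1)) ∧
      Nat.card (Subgroup.centralizer {t} ⊓ M : Subgroup (Cfsg.Sz F m)) = (2 ^ j) ^ 2 ∧
      Nat.card {v : Cfsg.Sz F m // v ∈ Subgroup.centralizer {t} ∧ v ∈ M ∧ v ^ 2 = 1} = 2 ^ j ∧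
      Nat.card (MulAction.stabilizer (Cfsg.Sz F m) a ⊓ M : Subgroup (Cfsg.Sz F m)) = (2 ^ j) ^ 2 * (2 ^ j - 1) ∧
      Nat.card (pairStab a b ⊓ M : Subgroup (Cfsg.Sz F m)) = 2 ^ j - 1 := by
  haveI : Nontrivial M := (Subgroup.nontrivial_iff_ne_bot _).2 hM
  have hS := szLike D hF
  obtain ⟨z, t, x, i, hz8, ⟨j, rfl⟩, ht, hCcard, hZcard, hMcard, hNcard, hxN, hx1, hxo, hXcard, hi, hix⟩ :=
    (hS.subgroup M).shape fun A hAn hAc => normal_abelian_map M A hAn hA hAc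
  rw [← Subgroup.orderOf_coe] at ht hxo hi
  obtain ⟨a, k₀, hta, -, -⟩ := centralizer_invol D hF ht
  have hstab : ∀ y : M, y ∈ Subgroup.normalizer ((Subgroup.centralizer {t} : Subgroup M) : Set M) ↔
      (y : Cfsg.Sz F m) • a = a := by
    intro y
    rw [← normalizer_invol D hF ht hta]
    constructor
    · intro hy
      have h5 := (Subgroup.mem_normalizer_iff.1 hy t).1 (self_mem_centralizer t)
      rw [centralizer_sub, Subgroup.mem_subgroupOf] at h5
      rw [Subgroup.coe_mul, Subgroup.coe_mul, InvMemClass.coe_inv] at h5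
      have h6 := (hS.invol _ ht).2.1 _ h5 (by
        rw [show (y : Cfsg.Sz F m) * t * (y : Cfsg.Sz F m)⁻¹ = MulAut.conj (y : Cfsg.Sz F m) t from rfl,
          MulEquiv.orderOf_eq, ht])
      rw [Subgroup.mem_normalizer_iff]
      intro w
      conv_rhs => rw [← h6]
      exact conj_mem_centralizer.symm
    · intro hy
      rw [Subgroup.mem_normalizer_iff] at hy ⊢
      intro w
      rw [centralizer_sub, Subgroup.mem_subgroupOf, Subgroup.mem_subgroupOf]
      exact hy w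
  have hxa := (hstab x).1 hxN
  have hx1' : (x : Cfsg.Sz F m) ≠ 1 := fun e => hx1 (Subtype.ext e)
  obtain ⟨b, hab, hxb⟩ : ∃ b, a ≠ b ∧ (x : Cfsg.Sz F m) • b = b := by
    rcases fix_trichotomy (x : Cfsg.Sz F m) with h0 | h1 | ⟨c, d, hcd, hc, hd⟩
    · exact absurd hxa (h0 a)
    · exfalso
      refine hx1' (orderOf_eq_one_iff.1 (Nat.Coprime.eq_one_of_dvd ?_
        (orderOf_dvd_of_pow_eq_one (pow_four_of_oneFix D hF h1))))
      exact Nat.Coprime.pow_right 2 (Nat.coprime_two_right.2 hxo)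
    · rcases eq_pair_or D hF hx1' hcd hc hd hxa with e | e <;> subst e
      · exact ⟨d, hcd, hd⟩
      · exact ⟨c, hcd.symm, hc⟩
  have hj : 3 ≤ j := by
    by_contra hc
    push_neg at hc
    have := Nat.pow_le_pow_right (show 0 < 2 by norm_num) (show j ≤ 2 by omega)
    omega
  have hinf : ∀ (H : Subgroup (Cfsg.Sz F m)), Nat.card (H ⊓ M : Subgroup (Cfsg.Sz F m)) = Nat.card (H.subgroupOf M) := by
    intro H
    rw [← Subgroup.inf_subgroupOf_right]
    exact (Nat.card_congr (Subgroup.subgroupOfEquivOfLe inf_le_right).toEquiv).symm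
  refine ⟨j, a, b, t, x, i, hj, hab, ht, hta, x.2, hxa, hxb, hx1', hxo, i.2, ?_, ?_, hMcard, ?_, ?_, ?_, ?_⟩
  · rw [← pow_two]; exact (orderOf_two_iff.1 hi).2
  · exact congrArg Subtype.val hix
  · rw [hinf, ← centralizer_sub]; exact hCcard
  · rw [← hZcard]
    exact Nat.card_congr
      { toFun := fun v => ⟨⟨v.1, v.2.2.1⟩, mem_centralizer_one.2 (Subtype.ext (mem_centralizer_one.1 v.2.1).eq),
          Subtype.ext v.2.2.2⟩
        invFun := fun v => ⟨v.1, mem_centralizer_one.2 ((mem_centralizer_one.1 v.2.1).map M.subtype), v.1.2,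
          congrArg Subtype.val v.2.2⟩
        left_inv := fun v => rfl
        right_inv := fun v => rfl }
  · rw [hinf, ← hNcard]
    congr 2
    ext y
    rw [Subgroup.mem_subgroupOf, MulAction.mem_stabilizer_iff]
    exact (hstab y).symm
  · rw [hinf, ← hXcard, centralizer_sub, centralizer_twoFix D hF hx1' hab hxa hxb]

/-- The exponent of the subfield divides the degree. -/
theorem exponent_dvd {j : ℕ} (hj : 3 ≤ j) (h : 2 ^ j - 1 ∣ 2 ^ (2 * m + 1) - 1) :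
    ∃ d, 1 ≤ d ∧ j = 2 * d + 1 ∧ 2 * d + 1 ∣ 2 * m + 1 := by
  have h1 := Nat.gcd_eq_left h
  rw [Nat.pow_sub_one_gcd_pow_sub_one] at h1
  have h2 : Nat.gcd j (2 * m + 1) = j := by
    refine Nat.pow_right_injective le_rfl (?_ : 2 ^ Nat.gcd j (2 * m + 1) = 2 ^ j)
    have := Nat.one_le_two_pow (n := Nat.gcd j (2 * m + 1))
    have := Nat.one_le_two_pow (n := j)
    omega
  have h3 : j ∣ 2 * m + 1 := h2 ▸ Nat.gcd_dvd_right j _
  obtain ⟨d, hd⟩ := (Odd.of_dvd_nat (odd_two_mul_add_one m) h3 : Odd j)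
  exact ⟨d, by omega, hd, hd ▸ h3⟩

/-- A subgroup with no non-trivial normal abelian subgroup contains, up to conjugation, the generators of a
subfield subgroup and has its order. -/
theorem classify (M : Subgroup (Cfsg.Sz F m)) (hM : M ≠ ⊥)
    (hA : ∀ A : Subgroup (Cfsg.Sz F m), A ≤ M → M ≤ Subgroup.normalizer (A : Set (Cfsg.Sz F m)) →
      (∀ a ∈ A, ∀ b ∈ A, Commute a b) → A = ⊥) :
    ∃ (d : ℕ) (g : Cfsg.Sz F m), 1 ≤ d ∧ 2 * d + 1 ∣ 2 * m + 1 ∧
      Nat.card M = ((2 ^ (2 * d + 1)) ^ 2 + 1) * ((2 ^ (2 * d + 1)) ^ 2 * (2 ^ (2 * d + 1) - 1)) ∧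
      gw D ∈ M.map (MulAut.conj g).toMonoidHom ∧
      (∀ a b : F, InK (2 ^ (2 * d + 1)) a → InK (2 ^ (2 * d + 1)) b → gT D a b ∈ M.map (MulAut.conj g).toMonoidHom) ∧
      (∀ u : Fˣ, InK (2 ^ (2 * d + 1)) (u : F) → gH D u ∈ M.map (MulAut.conj g).toMonoidHom) := by
  classical
  haveI := D.char2
  obtain ⟨j, a, b, t, x, i, hj, hab, ht, hta, hxM, hxa, hxb, hx1, hxo, hiM, hi2, hix, hMcard, hCcard, hZcard, hScard,
    hPcard⟩ := shape_data D hF M hM hA
  have hn : 0 < 2 ^ j - 1 := by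
    have := Nat.pow_le_pow_right (show 0 < 2 by norm_num) hj
    omega
  -- the centre, for every normalisation
  have hBc : ∀ k : Cfsg.Sz F m, k • a = oI D →
      Nat.card {c : F // gT D 0 c ∈ M.map (MulAut.conj k).toMonoidHom} = 2 ^ j := by
    intro k hka
    rw [← hZcard]
    refine Nat.card_eq_of_bijective (fun c => ⟨k⁻¹ * gT D 0 c.1 * k, ?_, (mem_map_conj M k _).1 c.2, ?_⟩)
      ⟨fun c e h => ?_, fun v => ?_⟩
    · rw [centralizer_invol' D hF ht hta hka]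
      exact ⟨0, c, by group⟩
    · rw [show k⁻¹ * gT D 0 (c : F) * k = k⁻¹ * gT D 0 (c : F) * k⁻¹⁻¹ by group, conj_pow, conj_eq_one_iff,
        pow_two, gT_mul]
      simp [D.add_self, gT_zero]
    · exact Subtype.ext (gT_center_inj D (mul_left_cancel (mul_right_cancel (congrArg Subtype.val h))))
    · obtain ⟨v, hv, hvM, hv2⟩ := v
      rw [centralizer_invol' D hF ht hta hka] at hv
      obtain ⟨p, r, hpr⟩ := hv
      have h2 : (k * v * k⁻¹) ^ 2 = 1 := by rw [conj_pow, hv2, mul_one, mul_inv_cancel]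
      rw [hpr, pow_two, gT_mul, ← gT_zero D, D.add_self, D.add_self, zero_add] at h2
      obtain rfl := (square_zero_iff D hF).1 (gT_inj D h2).2
      have e' : k⁻¹ * gT D 0 r * k = v := by rw [← hpr]; group
      exact ⟨⟨r, (mem_map_conj M k _).2 (e' ▸ hvM)⟩, Subtype.ext e'⟩
  obtain ⟨k₁, hk₁a, hk₁b⟩ := exists_conj_pair D hab
  obtain ⟨hU₁, hUc⟩ := torus_iff D hF M hab hn hPcard hk₁a hk₁b
  obtain ⟨β₁, hβ₁⟩ := centre_iff D hF (by omega) hU₁ hUc (hBc k₁ hk₁a)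
  obtain ⟨v₀, hv₀⟩ := (Finite.injective_iff_surjective.1 (kap_inj D hF)) β₁
  set k := gH D v₀ * k₁ with hk
  have hka : k • a = oI D := by rw [hk, mul_smul, hk₁a, gH_oI]
  have hkb : k • b = oP D 0 0 := by rw [hk, mul_smul, hk₁b, gH_oP, mul_zero, mul_zero]
  set M' := M.map (MulAut.conj k).toMonoidHom with hM'
  obtain ⟨hU, -⟩ := torus_iff D hF M hab hn hPcard hka hkb
  have hHK : ∀ u : Fˣ, gH D u ∈ M' ↔ InK (2 ^ j) (u : F) := fun u => (hU u).trans (inK_unit u)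
  have hBK : ∀ c : F, gT D 0 c ∈ M' ↔ InK (2 ^ j) c := by
    intro c
    have e : k⁻¹ * gT D 0 c * k = k₁⁻¹ * gT D 0 ((kap D v₀⁻¹ : F) * c) * k₁ := by
      have := gH_scale D v₀⁻¹ 0 c
      rw [mul_zero, ← gH_inv, inv_inv] at this
      rw [hk, mul_inv_rev, ← this]
      group
    rw [hM', mem_map_conj, e, ← mem_map_conj, hβ₁, ← mul_assoc, ← Units.val_mul, ← hv₀, ← kap_mul, mul_inv_cancel,
      show ((kap D 1 : Fˣ) : F) = 1 by simp [kap], one_mul]
  obtain ⟨d, hd1, hjd, hdm⟩ := exponent_dvd D hF hj (by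
    rw [← hPcard, ← hF, ← card_pairStab D hF hab]
    exact Subgroup.card_dvd_of_le inf_le_left)
  obtain ⟨wx, hwx⟩ := conj_pair D hF hka hkb hxa hxb
  have hwxM : gH D wx ∈ M' := by rw [← hwx]; exact ⟨x, hxM, rfl⟩
  have hwx1 : gH D wx ≠ 1 := by rw [← hwx]; exact fun e => hx1 (conj_eq_one_iff.1 e)
  have hene : D.θ (wx : F) + wx ≠ 0 := fun h => by
    rcases D.theta_fixed (D.eq_of_add h) with e | e
    · exact wx.ne_zero e
    · exact hwx1 (by rw [show wx = 1 from Units.ext e, gH_one])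
  have hK : Nat.card {c : F // InK (2 ^ j) c} = 2 ^ j := card_inK (by omega) hUc
  -- the translations
  have hTK : ∀ p r, InK (2 ^ j) p → InK (2 ^ j) r → gT D p r ∈ M' := by
    have hQcard : Nat.card {y : Cfsg.Sz F m // y ∈ Q D ∧ y ∈ M'} = (2 ^ j) ^ 2 := by
      rw [← hCcard]
      refine (Nat.card_eq_of_bijective (fun y : (Subgroup.centralizer {t} ⊓ M : Subgroup (Cfsg.Sz F m)) =>
        (⟨k * (y : Cfsg.Sz F m) * k⁻¹, (centralizer_invol' D hF ht hta hka _).1 y.2.1, ⟨_, y.2.2, rfl⟩⟩ :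
          {y : Cfsg.Sz F m // y ∈ Q D ∧ y ∈ M'})) ⟨fun y w e => ?_, ?_⟩).symm
      · exact Subtype.ext (mul_left_cancel (mul_right_cancel (congrArg Subtype.val e)))
      · rintro ⟨y, hyQ, w, hw, rfl⟩
        exact ⟨⟨w, (centralizer_invol' D hF ht hta hka w).2 hyQ, hw⟩, rfl⟩
    have hcoord : ∀ y : {y : Cfsg.Sz F m // y ∈ Q D ∧ y ∈ M'},
        gT D (qA D ⟨y.1, y.2.1⟩) (qB D ⟨y.1, y.2.1⟩) = y.1 := fun y =>
      congrArg Subtype.val (qT_coords D ⟨y.1, y.2.1⟩)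
    let f : {y : Cfsg.Sz F m // y ∈ Q D ∧ y ∈ M'} → {c : F // InK (2 ^ j) c} × {c : F // InK (2 ^ j) c} := fun y =>
      have h := translations_le D hF hHK hBK ((hHK wx).1 hwxM) hene
        (show gT D (qA D ⟨y.1, y.2.1⟩) (qB D ⟨y.1, y.2.1⟩) ∈ M' by rw [hcoord]; exact y.2.2)
      (⟨_, h.1⟩, ⟨_, h.2⟩)
    have hf : Function.Injective f := fun y w e => by
      have e1 : qA D ⟨y.1, y.2.1⟩ = qA D ⟨w.1, w.2.1⟩ := congrArg (fun q => (q.1 : F)) e
      have e2 : qB D ⟨y.1, y.2.1⟩ = qB D ⟨w.1, w.2.1⟩ := congrArg (fun q => (q.2 : F)) e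
      refine Subtype.ext ?_
      rw [← hcoord y, ← hcoord w, e1, e2]
    have hsurj := (hf.bijective_of_nat_card_le (by rw [Nat.card_prod, hK, hQcard, pow_two])).2
    intro p r hp hr
    obtain ⟨y, hy⟩ := hsurj (⟨p, hp⟩, ⟨r, hr⟩)
    have e1 : qA D ⟨y.1, y.2.1⟩ = p := congrArg (fun q => (q.1 : F)) hy
    have e2 : qB D ⟨y.1, y.2.1⟩ = r := congrArg (fun q => (q.2 : F)) hy
    rw [← e1, ← e2, hcoord]
    exact y.2.2
  have hiM' : k * i * k⁻¹ ∈ M' := ⟨i, hiM, rfl⟩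
  have hi2' : k * i * k⁻¹ * (k * i * k⁻¹) = 1 := by
    calc _ = k * (i * i) * k⁻¹ := by group
      _ = 1 := by rw [hi2]; group
  have hswap : (k * i * k⁻¹) • oI D = oP D 0 0 := by
    refine swap_of_inverts D hF hi2' hwx1 ?_ ?_
    · rw [← hwx, show k * x * k⁻¹ = MulAut.conj k x from rfl, MulEquiv.orderOf_eq]; exact hxo
    · rw [← hwx]
      calc k * i * k⁻¹ * (k * x * k⁻¹) * (k * i * k⁻¹) = k * (i * x * i) * k⁻¹ := by group
        _ = _ := by rw [hix]; group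
  have horb : Nat.card (MulAction.orbit M' (oI D)) = (2 ^ j) ^ 2 + 1 := by
    have h1 : Nat.card (MulAction.orbit M' (oI D)) * Nat.card (MulAction.stabilizer M' (oI D)) = Nat.card M' := by
      rw [Nat.card_congr (MulAction.orbitEquivQuotientStabilizer M' (oI D))]
      exact (Subgroup.card_eq_card_quotient_mul_card_subgroup _).symm
    have h2 : Nat.card (MulAction.stabilizer M' (oI D)) = (2 ^ j) ^ 2 * (2 ^ j - 1) := by
      rw [← hScard]
      refine (Nat.card_eq_of_bijective (fun y : (MulAction.stabilizer (Cfsg.Sz F m) a ⊓ M : Subgroup (Cfsg.Sz F m)) =>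
        (⟨⟨k * (y : Cfsg.Sz F m) * k⁻¹, ⟨_, y.2.2, rfl⟩⟩, MulAction.mem_stabilizer_iff.2 (by
          show (k * (y : Cfsg.Sz F m) * k⁻¹) • oI D = oI D
          rw [← hka, conj_fix]; exact y.2.1)⟩ :
          MulAction.stabilizer M' (oI D))) ⟨fun y w e => ?_, ?_⟩).symm
      · exact Subtype.ext (mul_left_cancel (mul_right_cancel
          (congrArg (fun q : MulAction.stabilizer M' (oI D) => ((q : M') : Cfsg.Sz F m)) e)))
      · rintro ⟨⟨_, w, hw, rfl⟩, hs⟩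
        have hs' : (k * w * k⁻¹) • oI D = oI D := hs
        rw [← hka, conj_fix] at hs'
        exact ⟨⟨w, hs', hw⟩, rfl⟩
    rw [h2, hM', card_map_conj, hMcard] at h1
    exact Nat.eq_of_mul_eq_mul_right (Nat.mul_pos (by positivity) hn) h1
  subst hjd
  exact ⟨d, k, hd1, hdm, hMcard, gw_mem D hF hHK hK hTK horb hiM' hi2' hswap, hTK,
    fun u hu => (hHK u).2 hu⟩

end Cfsg.Agent.Suzuki
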