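/-
Subfield subgroups and the subgroup theorem of the Suzuki groups.
-/
import Cfsg.Agent.Lib.Suzuki.SubSz
import Cfsg.Agent.Lib.Suzuki.Structure

set_option autoImplicit false

namespace Cfsg.Agent.Suzuki

open scoped Matrix MatrixGroups

variable {F : Type*} [Field F] [Fintype F] {m : ℕ} (D : Dat F m) (hF : Fintype.card F = 2 ^ (2 * m + 1))
variable {K : Type*} [Field K] [Fintype K] {d : ℕ} (DK : Dat K d) (hK : Fintype.card K = 2 ^ (2 * d + 1))
variable (hdiv : 2 * d + 1 ∣ 2 * m + 1) (σ : K →+* F)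
include D hF DK hK hdiv

theorem theta_compat (x : K) : σ (DK.θ x) = D.θ (σ x) := by
  rw [DK.pow, D.pow, map_pow, ← map_pow σ x (2 ^ (m + 1)), ← map_pow σ]
  congr 1
  obtain ⟨c, hc⟩ := hdiv
  obtain ⟨e, rfl⟩ : Odd c := Odd.of_dvd_nat (odd_two_mul_add_one m) ⟨2 * d + 1, by rw [hc, mul_comm]⟩
  have hm : m + 1 = (2 * d + 1) * e + (d + 1) := by
    have : 2 * m = 2 * ((2 * d + 1) * e + d) := by
      have : 2 * m + 1 = 2 * ((2 * d + 1) * e + d) + 1 := by rw [hc]; ring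
      omega
    omega
  rw [fr_mod hK, fr_mod hK, hm]
  congr 1
  push_cast
  rw [show ((2 : ZMod (2 * d + 1)) * d + 1) = ((2 * d + 1 : ℕ) : ZMod (2 * d + 1)) by push_cast; rfl, ZMod.natCast_self]
  ring

theorem map_T_K (a b : K) : Matrix.SpecialLinearGroup.map σ (T DK.θ a b) = T D.θ (σ a) (σ b) := by
  apply Subtype.ext
  ext r c
  fin_cases r <;> fin_cases c <;> simp [T_val, tMat, ov, theta_compat D hF DK hK hdiv σ]

theorem map_H_K (u : Kˣ) :
    Matrix.SpecialLinearGroup.map σ (H DK.θ u) = H D.θ (Units.map σ.toMonoidHom u) := by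
  apply Subtype.ext
  ext r c
  fin_cases r <;> fin_cases c <;> simp [H_val, hVec, theta_compat D hF DK hK hdiv σ]

omit [Fintype F] [Fintype K] D hF DK hK hdiv in
theorem map_w_K : Matrix.SpecialLinearGroup.map σ (w K) = w F := by
  apply Subtype.ext
  ext r c
  fin_cases r <;> fin_cases c <;> simp [w_val, Cfsg.suzukiForm]

theorem map_mem_K {g : SL(4, K)} (hg : g ∈ Cfsg.Sz K d) :
    Matrix.SpecialLinearGroup.map σ g ∈ Cfsg.Sz F m := by
  rcases normal_form DK hK hg with ⟨a, b, u, rfl⟩ | ⟨a, b, c, e, u, rfl⟩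
  · rw [map_mul, map_T_K D hF DK hK hdiv σ, map_H_K D hF DK hK hdiv σ]; exact mul_mem (T_mem D _ _) (H_mem D _)
  · rw [map_mul, map_mul, map_mul, map_T_K D hF DK hK hdiv σ, map_T_K D hF DK hK hdiv σ,
      map_H_K D hF DK hK hdiv σ, map_w_K]
    exact mul_mem (mul_mem (T_mem D _ _) (w_mem D)) (mul_mem (T_mem D _ _) (H_mem D _))

/-- The embedding of the smaller Suzuki group. -/
def subHom : Cfsg.Sz K d →* Cfsg.Sz F m :=
  ((Matrix.SpecialLinearGroup.map σ).comp (Cfsg.Sz K d).subtype).codRestrict _ fun g =>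
    map_mem_K D hF DK hK hdiv σ g.2

theorem subHom_injective : Function.Injective (subHom D hF DK hK hdiv σ) := by
  intro g k e
  apply Subtype.ext; apply Subtype.ext
  ext r c
  exact σ.injective (congrArg (fun g : Cfsg.Sz F m => g.1.1 r c) e)

/-- A subgroup with the generators and the order of the subfield subgroup is that subgroup. -/
theorem eq_range_subHom {M' : Subgroup (Cfsg.Sz F m)} (hw : gw D ∈ M')
    (hT : ∀ a b : F, InK (2 ^ (2 * d + 1)) a → InK (2 ^ (2 * d + 1)) b → gT D a b ∈ M')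
    (hH : ∀ u : Fˣ, InK (2 ^ (2 * d + 1)) (u : F) → gH D u ∈ M')
    (hcard : Nat.card M' = ((2 ^ (2 * d + 1)) ^ 2 + 1) * ((2 ^ (2 * d + 1)) ^ 2 * (2 ^ (2 * d + 1) - 1))) :
    M' = (subHom D hF DK hK hdiv σ).range := by
  symm
  refine Subgroup.eq_of_le_of_card_ge ?_ (le_of_eq ?_)
  · rintro _ ⟨g, rfl⟩
    have hin : ∀ x : K, InK (2 ^ (2 * d + 1)) (σ x) := fun x => by
      rw [InK, ← map_pow, ← hK, FiniteField.pow_card]
    have eT : ∀ a b, subHom D hF DK hK hdiv σ (gT DK a b) = gT D (σ a) (σ b) := fun a b =>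
      Subtype.ext (map_T_K D hF DK hK hdiv σ a b)
    have eH : ∀ u, subHom D hF DK hK hdiv σ (gH DK u) = gH D (Units.map σ.toMonoidHom u) := fun u =>
      Subtype.ext (map_H_K D hF DK hK hdiv σ u)
    have ew : subHom D hF DK hK hdiv σ (gw DK) = gw D := Subtype.ext (map_w_K σ)
    rcases gnormal_form DK hK g with ⟨a, b, u, rfl⟩ | ⟨a, b, c, e, u, rfl⟩
    · rw [map_mul, eT, eH]; exact mul_mem (hT _ _ (hin a) (hin b)) (hH _ (hin u))
    · rw [map_mul, map_mul, map_mul, eT, eT, eH, ew]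
      exact mul_mem (mul_mem (hT _ _ (hin a) (hin b)) hw) (mul_mem (hT _ _ (hin c) (hin e)) (hH _ (hin u)))
  · rw [hcard, ← Nat.card_congr (MonoidHom.ofInjective (subHom_injective D hF DK hK hdiv σ)).toEquiv, card_sz DK hK, hK]
    ring

omit D hF DK hK hdiv in
theorem exists_ringHom (hF : Fintype.card F = 2 ^ (2 * m + 1)) (hK : Fintype.card K = 2 ^ (2 * d + 1))
    (hdiv : 2 * d + 1 ∣ 2 * m + 1) : Nonempty (K →+* F) := by
  haveI := Fact.mk Nat.prime_two
  haveI : CharP F 2 := charP_of_card_eq_prime_pow (f := 2 * m + 1) hF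
  haveI : CharP K 2 := charP_of_card_eq_prime_pow (f := 2 * d + 1) hK
  letI : Algebra (ZMod 2) F := ZMod.algebra F 2
  letI : Algebra (ZMod 2) K := ZMod.algebra K 2
  have hfr : ∀ (L : Type _) [Field L] [Fintype L] [Algebra (ZMod 2) L] (n : ℕ), Fintype.card L = 2 ^ n →
      Module.finrank (ZMod 2) L = n := by
    intro L _ _ _ n hn
    have h1 := Module.natCard_eq_pow_finrank (K := ZMod 2) (V := L)
    rw [Nat.card_eq_fintype_card, hn, Nat.card_zmod] at h1
    exact (Nat.pow_right_injective le_rfl h1).symm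
  have hKr : Module.finrank (ZMod 2) K = 2 * d + 1 := by
    have h1 := Module.natCard_eq_pow_finrank (K := ZMod 2) (V := K)
    rw [Nat.card_eq_fintype_card, hK, Nat.card_zmod] at h1
    exact (Nat.pow_right_injective le_rfl h1).symm
  obtain ⟨f⟩ := FiniteField.nonempty_algHom_of_finrank_dvd (F := ZMod 2) (K := K) (L := F) (by
    rw [hKr, hfr F _ hF]; exact hdiv)
  exact ⟨f.toRingHom⟩

omit DK hK hdiv in
theorem not_commutative : ∃ a b : Cfsg.Sz F m, ¬ Commute a b := by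
  obtain ⟨k, hk⟩ := exists_nonfixed D hF
  refine ⟨gT D 1 0, gT D k 0, fun h => hk ?_⟩
  have e : gT D 1 0 * gT D k 0 = gT D k 0 * gT D 1 0 := h
  rw [gT_mul, gT_mul, map_one, one_mul, mul_one, zero_add, zero_add] at e
  have := (gT_inj D e).2
  linear_combination (-1 : F) * this + k * D.two

omit DK hK hdiv in
/-- Local subgroups lie in the normalisers of the standard subgroups. -/
theorem local_cases (M A : Subgroup (Cfsg.Sz F m)) (hMA : M ≤ Subgroup.normalizer (A : Set (Cfsg.Sz F m)))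
    (hAc : ∀ a ∈ A, ∀ b ∈ A, Commute a b) (hA : A ≠ ⊥) :
    (∃ p : Cfsg.suzukiOvoid F m, M ≤ MulAction.stabilizer (Cfsg.Sz F m) p) ∨
    ∃ U : Subgroup (Cfsg.Sz F m), ((∃ p p', p ≠ p' ∧ U = pairStab p p') ∨ IsTorus U) ∧
      M ≤ Subgroup.normalizer (U : Set (Cfsg.Sz F m)) := by
  haveI : Nontrivial A := (Subgroup.nontrivial_iff_ne_bot A).2 hA
  obtain ⟨⟨a, haA⟩, ha⟩ := exists_ne (1 : A)
  have ha1 : a ≠ 1 := fun e => ha (Subtype.ext e)
  have hconj : ∀ g ∈ M, g * a * g⁻¹ ∈ A ∧ g * a * g⁻¹ ≠ 1 := fun g hg =>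
    ⟨(Subgroup.mem_normalizer_iff.1 (hMA hg) a).1 haA, fun e => ha1 (conj_eq_one_iff.1 e)⟩
  have hnorm : ∀ U : Subgroup (Cfsg.Sz F m), (∀ y ∈ U, y ≠ 1 → Subgroup.centralizer {y} = U) → a ∈ U →
      M ≤ Subgroup.normalizer (U : Set (Cfsg.Sz F m)) := by
    intro U hU haU g hg
    obtain ⟨h1, h2⟩ := hconj g hg
    have h3 : g * a * g⁻¹ ∈ U := by
      rw [← hU a haU ha1]
      exact mem_centralizer_one.2 (hAc _ h1 _ haA)
    rw [Subgroup.mem_normalizer_iff]
    intro y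
    conv_rhs => rw [← hU _ h3 h2]
    conv_lhs => rw [← hU a haU ha1]
    exact conj_mem_centralizer.symm
  rcases fix_trichotomy a with h0 | ⟨p, hp, hu⟩ | ⟨p, p', hpp, hp, hp'⟩
  · obtain ⟨U, hU, haU⟩ := exists_torus_mem D hF ha1 h0
    exact Or.inr ⟨U, Or.inr hU, hnorm U (fun y hy hy1 => hU.centralizer_eq D hF hy hy1) haU⟩
  · refine Or.inl ⟨p, fun g hg => MulAction.mem_stabilizer_iff.2 ?_⟩
    obtain ⟨h1, h2⟩ := hconj g hg
    obtain ⟨p', hp', hu'⟩ := oneFix_of_commute D hF ⟨p, hp, hu⟩ (hAc _ h1 _ haA) h2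
    have e1 : (g * a * g⁻¹) • p = p := hu _ (smul_fix_of_commute (hAc _ h1 _ haA) hp)
    exact (hu' _ ((conj_fix g a).2 hp)).trans (hu' _ e1).symm
  · exact Or.inr ⟨_, Or.inl ⟨p, p', hpp, rfl⟩, hnorm _
      (fun y hy hy1 => centralizer_twoFix D hF hy1 hpp hy.1 hy.2) (mem_pairStab.2 ⟨hp, hp'⟩)⟩

omit DK hK hdiv in
theorem stabilizer_eq_normalizer (p : Cfsg.suzukiOvoid F m) : ∃ P : Sylow 2 (Cfsg.Sz F m),
    Subgroup.normalizer ((P : Subgroup (Cfsg.Sz F m)) : Set (Cfsg.Sz F m)) = MulAction.stabilizer (Cfsg.Sz F m) p := by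
  obtain ⟨P, hP⟩ := exists_sylow_point D hF p
  exact ⟨P, normalizer_sylow D hF hP⟩

end Cfsg.Agent.Suzuki
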