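/-
Pairs of elements generating solvable subgroups of a Suzuki group.
-/
import Cfsg.Agent.Lib.Suzuki.SubField

set_option autoImplicit false

namespace Cfsg.Agent.Suzuki

open Subgroup

section Abstract

variable {M : Type*} [Group M] [Finite M] (S : SzLike M) (C : OddCls M)
include S

theorem cls_comm {a b : M} (ha : a ∈ C.1) (hb : b ∈ C.1) : Commute a b := by
  obtain ⟨x, hx, hxo, hC⟩ := C.2
  haveI : IsCyclic C.1 := hC ▸ (S.odd_cyc x hx hxo).1
  letI : CommGroup C.1 := IsCyclic.commGroup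
  exact congrArg Subtype.val (mul_comm (⟨a, ha⟩ : C.1) ⟨b, hb⟩)

theorem cls_odd : Odd (Nat.card C.1) := by
  obtain ⟨x, hx, hxo, hC⟩ := C.2
  rw [hC]; exact (S.odd_cyc x hx hxo).2.1

theorem cls_dvd : Nat.card (normalizer (C.1 : Set M)) ∣ 4 * Nat.card C.1 := by
  obtain ⟨x, hx, hxo, hC⟩ := C.2
  rw [hC]; exact (S.odd_cyc x hx hxo).2.2.2

theorem cls_odd_mem {y : M} (hy : y ∈ normalizer (C.1 : Set M)) (ho : Odd (orderOf y)) : y ∈ C.1 := by
  set N := normalizer (C.1 : Set M)
  haveI : (C.1.subgroupOf N).Normal := Subgroup.normal_in_normalizer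
  have hidx : (C.1.subgroupOf N).index ∣ 4 := by
    have h1 := (C.1.subgroupOf N).index_mul_card
    rw [Nat.card_congr (Subgroup.subgroupOfEquivOfLe (Subgroup.le_normalizer (H := C.1))).toEquiv] at h1
    exact Nat.dvd_of_mul_dvd_mul_right Nat.card_pos (h1 ▸ cls_dvd S C)
  have h2 : orderOf (QuotientGroup.mk' (C.1.subgroupOf N) ⟨y, hy⟩) ∣ 4 := by
    refine (_root_.orderOf_dvd_natCard _).trans ?_
    rwa [← Subgroup.index_eq_card]
  have h3 : orderOf (QuotientGroup.mk' (C.1.subgroupOf N) ⟨y, hy⟩) ∣ orderOf y := by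
    exact (orderOf_map_dvd _ _).trans (by rw [← Subgroup.orderOf_coe])
  have h4 := Nat.Coprime.eq_one_of_dvd
    ((Nat.Coprime.pow_right 2 (Nat.coprime_two_right.2 ho)).coprime_dvd_left h3) h2
  rw [orderOf_eq_one_iff, QuotientGroup.mk'_apply, QuotientGroup.eq_one_iff, Subgroup.mem_subgroupOf] at h4
  exact h4

theorem cls_inverts {i : M} (hi : orderOf i = 2) (hiN : i ∈ normalizer (C.1 : Set M)) {c : M} (hc : c ∈ C.1) :
    i * c * i = c⁻¹ := by
  have hi2 : i * i = 1 := by rw [← pow_two]; exact (orderOf_two_iff.1 hi).2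
  have hii : i⁻¹ = i := inv_eq_of_mul_eq_one_right hi2
  have hm : i * c * i ∈ C.1 := by
    have := (Subgroup.mem_normalizer_iff.1 hiN c).1 hc
    rwa [hii] at this
  have hcomm := (cls_comm S C hc hm).eq
  refine eq_inv_of_mul_eq_one_right ?_
  by_contra hy
  have hiy : i ∈ centralizer {c * (i * c * i)} := by
    rw [mem_centralizer_one]
    show i * (c * (i * c * i)) = c * (i * c * i) * i
    calc i * (c * (i * c * i)) = i * ((i * c * i) * c) := by rw [hcomm]
      _ = (i * i) * (c * i * c) := by group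
      _ = c * i * c * (i * i) := by rw [hi2, one_mul, mul_one]
      _ = c * (i * c * i) * i := by group
  rw [(S.mem_cls (mul_mem hc hm) hy).2] at hiy
  have := Odd.of_dvd_nat (cls_odd S C) (Subgroup.orderOf_dvd_natCard _ hiy)
  rw [hi] at this
  exact absurd this (by decide)

theorem card_invol_cls (h2 : 2 ∣ Nat.card (normalizer (C.1 : Set M))) :
    Nat.card {i : M // orderOf i = 2 ∧ i ∈ normalizer (C.1 : Set M)} = Nat.card C.1 := by
  haveI := Fact.mk Nat.prime_two
  obtain ⟨⟨i₀, hi₀N⟩, hi₀⟩ := exists_prime_orderOf_dvd_card' 2 h2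
  rw [← Subgroup.orderOf_coe] at hi₀
  have hi₀2 : i₀ * i₀ = 1 := by rw [← pow_two]; exact (orderOf_two_iff.1 hi₀).2
  have hnot : i₀ ∉ C.1 := fun h => by
    have := Odd.of_dvd_nat (cls_odd S C) (Subgroup.orderOf_dvd_natCard _ h)
    rw [hi₀] at this
    exact absurd this (by decide)
  symm
  refine Nat.card_congr
    { toFun := fun c => ⟨c.1 * i₀, orderOf_two_iff.2 ⟨fun e => hnot ?_, ?_⟩,
        mul_mem (Subgroup.le_normalizer c.2) hi₀N⟩
      invFun := fun i => ⟨i.1 * i₀, ?_⟩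
      left_inv := fun c => Subtype.ext (by simp [mul_assoc, hi₀2])
      right_inv := fun i => Subtype.ext (by simp [mul_assoc, hi₀2]) }
  · rw [eq_inv_of_mul_eq_one_right e]; exact inv_mem c.2
  · rw [pow_two, show c.1 * i₀ * (c.1 * i₀) = c.1 * (i₀ * c.1 * i₀) by group, cls_inverts S C hi₀ hi₀N c.2,
      mul_inv_cancel]
  · obtain ⟨x, hx, hxo, hC⟩ := C.2
    have hxC : x ∈ C.1 := hC ▸ self_mem_centralizer x
    refine hC.ge (?_ : i.1 * i₀ ∈ centralizer {x})
    rw [mem_centralizer_one]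
    have h1 : i₀ * x = x⁻¹ * i₀ := by rw [← cls_inverts S C hi₀ hi₀N hxC, mul_assoc, hi₀2, mul_one]
    have h2 : i.1 * x⁻¹ = x * i.1 := by
      have h3 := cls_inverts S C i.2.1 i.2.2 hxC
      rw [← h3]
      simp [← mul_assoc, ← pow_two, (orderOf_two_iff.1 i.2.1).2]
    show i.1 * i₀ * x = x * (i.1 * i₀)
    rw [mul_assoc, h1, ← mul_assoc, h2, mul_assoc]

/-- The part of a normaliser centralising one of its involutions. -/
theorem cls_point_part {t : M} (ht : orderOf t = 2) (htN : t ∈ normalizer (C.1 : Set M)) {l : ℕ} (hl : l = 2 ∨ l = 4)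
    (hν : Nat.card (normalizer (C.1 : Set M)) = l * Nat.card C.1) :
    Nat.card (centralizer {t} ⊓ normalizer (C.1 : Set M) : Subgroup M) = l ∧
      (l = 4 → Nat.card {y : M // y ∈ (centralizer {t} ⊓ normalizer (C.1 : Set M) : Subgroup M) ∧ y ^ 2 = t} = 2) := by
  classical
  haveI := Fact.mk Nat.prime_two
  set N := normalizer (C.1 : Set M)
  set K := (centralizer {t} ⊓ N : Subgroup M)
  have hle : Nat.card K * Nat.card C.1 ≤ Nat.card N := by
    rw [← Nat.card_prod]
    refine Nat.card_le_card_of_injective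
      (fun p : K × C.1 => (⟨p.1.1 * p.2.1, mul_mem p.1.2.2 (Subgroup.le_normalizer p.2.2)⟩ : N)) fun p p' e => ?_
    have e' : p.1.1 * p.2.1 = p'.1.1 * p'.2.1 := congrArg Subtype.val e
    have h1 : (p'.1.1)⁻¹ * p.1.1 = p'.2.1 * (p.2.1)⁻¹ := by
      rw [eq_mul_inv_iff_mul_eq, mul_assoc, e', inv_mul_cancel_left]
    have h2 : (p'.1.1)⁻¹ * p.1.1 = 1 := by
      refine S.odd_two_disjoint (Odd.of_dvd_nat (cls_odd S C) ?_)
        ((S.invol t ht).2.2.1 _ (mul_mem (inv_mem p'.1.2.1) p.1.2.1))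
      rw [h1]
      exact Subgroup.orderOf_dvd_natCard _ (mul_mem p'.2.2 (inv_mem p.2.2))
    rw [h2] at h1
    exact Prod.ext (Subtype.ext (inv_mul_eq_one.1 h2).symm) (Subtype.ext (mul_inv_eq_one.1 h1.symm).symm)
  rw [hν] at hle
  have hle' := Nat.le_of_mul_le_mul_right hle Nat.card_pos
  have ht2 : 2 ≤ Nat.card K := Finite.one_lt_card_iff_nontrivial.2
    ⟨⟨⟨t, self_mem_centralizer t, htN⟩, 1, fun e => (orderOf_two_iff.1 ht).1 (congrArg Subtype.val e)⟩⟩
  rcases hl with rfl | rfl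
  · exact ⟨le_antisymm hle' ht2, fun h => absurd h (by norm_num)⟩
  · obtain ⟨V, hV, htV⟩ := Sylow.exists_subgroup_card_pow_prime_le 2 (show 2 ^ 2 ∣ Nat.card N from ⟨Nat.card C.1, hν⟩)
      (Subgroup.zpowers (⟨t, htN⟩ : N)) (n := 1) (by rw [Nat.card_zpowers, ← Subgroup.orderOf_coe]; exact ht)
      (by norm_num)
    have hVc : ∀ v ∈ V, (v : M) ∈ K := by
      intro v hv
      refine ⟨mem_centralizer_one.2 ?_, v.2⟩
      haveI : Fact (Nat.card V = 2 ^ 2) := ⟨hV⟩
      letI := IsPGroup.commGroupOfCardEqPrimeSq (p := 2) (G := V) hV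
      exact congrArg (fun w : V => ((w : N) : M)) (mul_comm (⟨v, hv⟩ : V) ⟨_, htV (Subgroup.mem_zpowers _)⟩)
    have h4 : Nat.card K = 4 := by
      refine le_antisymm hle' ?_
      calc 4 = Nat.card V := by rw [hV]; norm_num
        _ ≤ _ := Nat.card_le_card_of_injective (fun v => (⟨(v : N), hVc v v.2⟩ : K))
            fun v w e => Subtype.ext (Subtype.ext (congrArg Subtype.val e :))
    refine ⟨h4, fun _ => ?_⟩
    obtain ⟨x, hx, hxo, hC⟩ := C.2
    obtain ⟨y, hyK, hy⟩ : ∃ y ∈ K, y ^ 2 ≠ 1 := by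
      by_contra hcon
      push_neg at hcon
      exact S.no_four hx hxo K h4 (hC ▸ inf_le_right) hcon
    have hy4 : y ^ 4 = 1 := (S.invol t ht).2.2.1 y hyK.1
    have hoy : orderOf y = 4 := orderOf_eq_prime_pow (p := 2) (n := 1) (by simpa using hy) (by simpa using hy4)
    have hK : Subgroup.zpowers y = K := Subgroup.eq_of_le_of_card_ge (Subgroup.zpowers_le.2 hyK) (by
      rw [Nat.card_zpowers, hoy, h4])
    have hcases : ∀ v ∈ K, v = 1 ∨ v = y ∨ v = y ^ 2 ∨ v = y ^ 3 := by
      intro v hv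
      rw [← hK, ← mem_powers_iff_mem_zpowers] at hv
      obtain ⟨r, rfl⟩ := hv
      show y ^ r = 1 ∨ y ^ r = y ∨ y ^ r = y ^ 2 ∨ y ^ r = y ^ 3
      rw [← pow_mod_orderOf, hoy]
      have := Nat.mod_lt r (show 0 < 4 by norm_num)
      interval_cases r % 4 <;> simp
    have hyt : y ^ 2 = t := by
      rcases hcases t ⟨self_mem_centralizer t, htN⟩ with e | e | e | e
      · exact absurd e (orderOf_two_iff.1 ht).1
      · rw [e, hoy] at ht; norm_num at ht
      · exact e.symm
      · exfalso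
        have h := (orderOf_two_iff.1 ht).2
        rw [e, ← pow_mul, show 3 * 2 = 4 + 2 by norm_num, pow_add, hy4, one_mul] at h
        exact hy h
    have hset : {v : M | v ∈ K ∧ v ^ 2 = t} = {y, y ^ 3} := by
      ext v
      constructor
      · rintro ⟨hv, hv2⟩
        rcases hcases v hv with rfl | rfl | rfl | rfl
        · rw [one_pow] at hv2; exact absurd hv2.symm (orderOf_two_iff.1 ht).1
        · exact Or.inl rfl
        · exfalso; rw [← pow_mul, hy4] at hv2; exact (orderOf_two_iff.1 ht).1 hv2.symm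
        · exact Or.inr rfl
      · rintro (rfl | rfl)
        · exact ⟨hyK, hyt⟩
        · refine ⟨pow_mem hyK 3, ?_⟩
          rw [← pow_mul, show 3 * 2 = 4 + 2 by norm_num, pow_add, hy4, one_mul, hyt]
    show Set.ncard {v : M | v ∈ K ∧ v ^ 2 = t} = 2
    rw [hset, Set.ncard_pair]
    intro e
    exact hy (by
      rw [show y ^ 3 = y * y ^ 2 by rw [← pow_succ'], left_eq_mul] at e
      exact e)

end Abstract

variable {F : Type*} [Field F] [Fintype F] {m : ℕ} (D : Dat F m) (hF : Fintype.card F = 2 ^ (2 * m + 1))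
include D hF

omit D hF in
theorem solvable_of_commutator_le {G : Type*} [Group G] (H N : Subgroup G) (hN : Group.IsSolvable N) (hNH : N ≤ H)
    (h : ∀ a ∈ H, ∀ b ∈ H, a * b * a⁻¹ * b⁻¹ ∈ N) : Group.IsSolvable H := by
  have hn : (N.subgroupOf H).Normal := ⟨fun x hx y => by
    have := mul_mem (h y y.2 x x.2) (Subgroup.mem_subgroupOf.1 hx)
    rw [inv_mul_cancel_right] at this
    rw [Subgroup.mem_subgroupOf]
    simpa using this⟩
  haveI := hn
  haveI : Group.IsSolvable (H ⧸ N.subgroupOf H) := isSolvable_of_comm fun a b => by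
    induction a using QuotientGroup.induction_on with
    | H a =>
      induction b using QuotientGroup.induction_on with
      | H b =>
        rw [← QuotientGroup.mk_mul, ← QuotientGroup.mk_mul, QuotientGroup.eq_iff_div_mem, div_eq_mul_inv, mul_inv_rev,
          Subgroup.mem_subgroupOf]
        have := h a a.2 b b.2
        simpa [mul_assoc] using this
  haveI := hN
  haveI : Group.IsSolvable (N.subgroupOf H) :=
    solvable_of_solvable_injective (f := (Subgroup.subgroupOfEquivOfLe hNH).toMonoidHom)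
      (Subgroup.subgroupOfEquivOfLe hNH).injective
  exact solvable_of_ker_le_range (N.subgroupOf H).subtype (QuotientGroup.mk' (N.subgroupOf H)) (by
    rw [QuotientGroup.ker_mk', Subgroup.range_subtype])

omit D hF in
theorem solvable_of_le {G : Type*} [Group G] {H K : Subgroup G} (h : H ≤ K) (hK : Group.IsSolvable K) :
    Group.IsSolvable H :=
  haveI := hK
  solvable_of_solvable_injective (f := Subgroup.inclusion h) (Subgroup.inclusion_injective h)

theorem solvable_stab (p : Cfsg.suzukiOvoid F m) : Group.IsSolvable (MulAction.stabilizer (Cfsg.Sz F m) p) := by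
  classical
  haveI := Fact.mk Nat.prime_two
  obtain ⟨k, hk⟩ := transitive D p
  obtain ⟨b, hb⟩ : ∃ b : F, b ≠ 0 := exists_ne 0
  have ht : orderOf (k * gT D 0 b * k⁻¹) = 2 := by
    rw [show k * gT D 0 b * k⁻¹ = MulAut.conj k (gT D 0 b) from rfl, MulEquiv.orderOf_eq, orderOf_two_iff]
    refine ⟨fun e => hb ?_, ?_⟩
    · rw [← gT_zero D] at e; exact (gT_inj D e).2
    · rw [pow_two, gT_mul]; simp [D.add_self, gT_zero]
  set t := k * gT D 0 b * k⁻¹ with htdef
  have htp : t • p = p := by rw [← hk]; exact (conj_fix k _).2 (gT_oI D 0 b)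
  have hS := szLike D hF
  refine solvable_of_commutator_le _ (Subgroup.centralizer {t}) ?_ ?_ fun a ha c hc =>
    hS.borel t a c ht ((normalizer_invol D hF ht htp a).2 ha) ((normalizer_invol D hF ht htp c).2 hc)
  · haveI := (hS.invol t ht).1.isNilpotent
    infer_instance
  · exact fun g hg => (normalizer_invol D hF ht htp g).1 (Subgroup.le_normalizer hg)

theorem solvable_norm (C : OddCls (Cfsg.Sz F m)) :
    Group.IsSolvable (Subgroup.normalizer (C.1 : Set (Cfsg.Sz F m))) := by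
  have hS := szLike D hF
  set N := Subgroup.normalizer (C.1 : Set (Cfsg.Sz F m))
  have hle : C.1 ≤ N := Subgroup.le_normalizer
  refine solvable_of_commutator_le _ C.1 ?_ hle ?_
  · exact isSolvable_of_comm fun a b => Subtype.ext (cls_comm hS C a.2 b.2).eq
  · haveI : (C.1.subgroupOf N).Normal := Subgroup.normal_in_normalizer
    haveI := Fact.mk Nat.prime_two
    have hidx : (C.1.subgroupOf N).index ∣ 2 ^ 2 := by
      have h1 := (C.1.subgroupOf N).index_mul_card
      rw [Nat.card_congr (Subgroup.subgroupOfEquivOfLe hle).toEquiv] at h1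
      exact Nat.dvd_of_mul_dvd_mul_right Nat.card_pos (h1 ▸ cls_dvd hS C)
    obtain ⟨i, hi2, hi⟩ := (Nat.dvd_prime_pow Nat.prime_two).1 hidx
    rw [Subgroup.index_eq_card] at hi
    have hcomm : ∀ a b : N ⧸ C.1.subgroupOf N, a * b = b * a := by
      interval_cases i
      · intro a b
        haveI : Subsingleton (N ⧸ C.1.subgroupOf N) := (Nat.card_eq_one_iff_unique.1 (by simpa using hi)).1
        exact Subsingleton.elim _ _
      · haveI := isCyclic_of_prime_card (p := 2) (by simpa using hi : Nat.card (N ⧸ C.1.subgroupOf N) = 2)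
        letI : CommGroup (N ⧸ C.1.subgroupOf N) := IsCyclic.commGroup
        exact mul_comm
      · letI := IsPGroup.commGroupOfCardEqPrimeSq (p := 2) (G := N ⧸ C.1.subgroupOf N) hi
        exact mul_comm
    intro a ha b hb
    have h : (((⟨a, ha⟩ * ⟨b, hb⟩ * (⟨a, ha⟩ : N)⁻¹ * (⟨b, hb⟩ : N)⁻¹ : N)) : N ⧸ C.1.subgroupOf N) = 1 := by
      rw [QuotientGroup.mk_mul, QuotientGroup.mk_mul, QuotientGroup.mk_mul, QuotientGroup.mk_inv, QuotientGroup.mk_inv]
      generalize ((⟨a, ha⟩ : N) : N ⧸ C.1.subgroupOf N) = A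
      generalize ((⟨b, hb⟩ : N) : N ⧸ C.1.subgroupOf N) = B
      rw [hcomm A B]
      group
    exact Subgroup.mem_subgroupOf.1 ((QuotientGroup.eq_one_iff _).1 h)

theorem cls_of_local {U : Subgroup (Cfsg.Sz F m)} (hU : (∃ p p', p ≠ p' ∧ U = pairStab p p') ∨ IsTorus U) :
    ∃ C : OddCls (Cfsg.Sz F m), C.1 = U := by
  have h1 : 1 < Nat.card U ∧ Odd (Nat.card U) := by
    rcases hU with ⟨p, p', hpp, rfl⟩ | hU
    · rw [card_pairStab D hF hpp]
      have := D.card_big hF
      have := Nat.one_le_two_pow (n := m)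
      refine ⟨by omega, ?_⟩
      rw [hF]
      exact Nat.Even.sub_odd Nat.one_le_two_pow (Nat.even_pow.2 ⟨even_two, by omega⟩) odd_one
    · refine ⟨hU.one_lt, Odd.of_dvd_nat ?_ (hU.card_dvd D hF)⟩
      exact Even.add_one (Nat.even_pow.2 ⟨hF ▸ Nat.even_pow.2 ⟨even_two, by omega⟩, two_ne_zero⟩)
  haveI : Nontrivial U := Finite.one_lt_card_iff_nontrivial.1 h1.1
  obtain ⟨x, hx⟩ := exists_ne (1 : U)
  have hx' : (x : Cfsg.Sz F m) ≠ 1 := fun e => hx (Subtype.ext e)
  refine ⟨⟨U, x, hx', Odd.of_dvd_nat h1.2 (Subgroup.orderOf_dvd_natCard U x.2), ?_⟩, rfl⟩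
  rcases hU with ⟨p, p', hpp, rfl⟩ | hU
  · exact (centralizer_twoFix D hF hx' hpp x.2.1 x.2.2).symm
  · exact (hU.centralizer_eq D hF x.2 hx').symm

/-- Solvable two-generated subgroups, for a field of prime degree. -/
theorem solvable_pair_iff (hp : (2 * m + 1).Prime) {x : Cfsg.Sz F m} (hx : x ≠ 1) (y : Cfsg.Sz F m) :
    Group.IsSolvable (Subgroup.closure ({x, y} : Set (Cfsg.Sz F m))) ↔
      (∃ p : Cfsg.suzukiOvoid F m, x • p = p ∧ y • p = p) ∨
      ∃ C : OddCls (Cfsg.Sz F m), x ∈ Subgroup.normalizer (C.1 : Set (Cfsg.Sz F m)) ∧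
        y ∈ Subgroup.normalizer (C.1 : Set (Cfsg.Sz F m)) := by
  set M := Subgroup.closure ({x, y} : Set (Cfsg.Sz F m)) with hM
  have hxM : x ∈ M := Subgroup.subset_closure (Set.mem_insert _ _)
  have hyM : y ∈ M := Subgroup.subset_closure (Set.mem_insert_of_mem _ rfl)
  constructor
  · intro hsol
    have hMne : M ≠ ⊥ := fun e => hx (Subgroup.mem_bot.1 (e ▸ hxM))
    have hMtop : M ≠ ⊤ := by
      intro e
      haveI := simple D hF
      haveI : Group.IsSolvable (⊤ : Subgroup (Cfsg.Sz F m)) := e ▸ hsol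
      haveI : Group.IsSolvable (Cfsg.Sz F m) :=
        solvable_of_solvable_injective (f := (Subgroup.topEquiv (G := Cfsg.Sz F m)).symm.toMonoidHom) fun a b e =>
          (Subgroup.topEquiv (G := Cfsg.Sz F m)).symm.injective e
      obtain ⟨a, b, hab⟩ := not_commutative D hF
      exact hab (IsSimpleGroup.comm_iff_isSolvable.2 inferInstance a b)
    by_cases hA : ∀ A : Subgroup (Cfsg.Sz F m), A ≤ M → M ≤ Subgroup.normalizer (A : Set (Cfsg.Sz F m)) →
        (∀ a ∈ A, ∀ b ∈ A, Commute a b) → A = ⊥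
    · exfalso
      obtain ⟨d, g, hd, hdvd, hcard, -⟩ := classify D hF M hMne hA
      have hdm : d = m := by
        rcases (Nat.dvd_prime hp).1 hdvd with e | e <;> omega
      subst hdm
      refine hMtop (Subgroup.eq_top_of_card_eq M ?_)
      rw [hcard, card_sz D hF, hF]; ring
    · push_neg at hA
      obtain ⟨A, -, hMA, hAc, hA⟩ := hA
      rcases local_cases D hF M A hMA hAc hA with ⟨p, hp'⟩ | ⟨U, hU, hMU⟩
      · exact Or.inl ⟨p, hp' hxM, hp' hyM⟩
      · obtain ⟨C, rfl⟩ := cls_of_local D hF hU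
        exact Or.inr ⟨C, hMU hxM, hMU hyM⟩
  · rintro (⟨p, hxp, hyp⟩ | ⟨C, hxC, hyC⟩)
    · refine solvable_of_le ?_ (solvable_stab D hF p)
      rw [hM, Subgroup.closure_le]
      rintro g (rfl | rfl)
      exacts [hxp, hyp]
    · refine solvable_of_le ?_ (solvable_norm D hF C)
      rw [hM, Subgroup.closure_le]
      rintro g (rfl | rfl)
      exacts [hxC, hyC]

/-- The three kinds of classes. -/
theorem cls_kinds (C : OddCls (Cfsg.Sz F m)) :
    (∃ a b : Cfsg.suzukiOvoid F m, a ≠ b ∧ C.1 = pairStab a b) ∨ IsTorus C.1 := by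
  obtain ⟨x, hx, hxo, hC⟩ := C.2
  rcases fix_trichotomy x with h0 | h1 | ⟨a, b, hab, ha, hb⟩
  · obtain ⟨U, hU, hxU⟩ := exists_torus_mem D hF hx h0
    exact Or.inr (by rw [hC, hU.centralizer_eq D hF hxU hx]; exact hU)
  · exfalso
    refine hx (orderOf_eq_one_iff.1 (Nat.Coprime.eq_one_of_dvd ?_
      (orderOf_dvd_of_pow_eq_one (pow_four_of_oneFix D hF h1))))
    exact Nat.Coprime.pow_right 2 (Nat.coprime_two_right.2 hxo)
  · exact Or.inl ⟨a, b, hab, by rw [hC, centralizer_twoFix D hF hx hab ha hb]⟩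

theorem card_norm_pair {a b : Cfsg.suzukiOvoid F m} (hab : a ≠ b) :
    (∀ y : Cfsg.Sz F m, y ∈ Subgroup.normalizer ((pairStab a b : Subgroup (Cfsg.Sz F m)) : Set (Cfsg.Sz F m)) ↔
      (y • a = a ∧ y • b = b) ∨ (y • a = b ∧ y • b = a)) ∧
    Nat.card (Subgroup.normalizer ((pairStab a b : Subgroup (Cfsg.Sz F m)) : Set (Cfsg.Sz F m))) =
      2 * (Fintype.card F - 1) ∧
    Nat.card {y : Cfsg.Sz F m // y • a = b ∧ y • b = a} = Fintype.card F - 1 := by
  classical
  obtain ⟨C, hC⟩ := cls_of_local D hF (Or.inl ⟨a, b, hab, rfl⟩)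
  obtain ⟨x, hx, hxo, hxC⟩ := C.2
  have hxm : x ∈ pairStab a b := by rw [← hC, hxC]; exact self_mem_centralizer x
  have hiff : ∀ y : Cfsg.Sz F m, y ∈ Subgroup.normalizer ((pairStab a b : Subgroup (Cfsg.Sz F m)) : Set (Cfsg.Sz F m)) ↔
      (y • a = a ∧ y • b = b) ∨ (y • a = b ∧ y • b = a) := by
    intro y
    constructor
    · intro hy
      obtain ⟨g1, g2, g3⟩ := sq_mem_pair D hF hx hab hxm.1 hxm.2 hy
      rcases g1 with e | e
      · exact Or.inl ⟨e, g3 e⟩
      · exact Or.inr ⟨e, g2.resolve_right fun e' => hab (MulAction.injective y (e.trans e'.symm))⟩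
    · intro hy
      rw [Subgroup.mem_normalizer_iff]
      intro g
      rw [mem_pairStab, mem_pairStab]
      rcases hy with ⟨e1, e2⟩ | ⟨e1, e2⟩
      · refine and_congr ?_ ?_
        · conv_rhs => rw [← e1]
          exact (conj_fix y g).symm
        · conv_rhs => rw [← e2]
          exact (conj_fix y g).symm
      · rw [and_comm]
        refine and_congr ?_ ?_
        · conv_rhs => rw [← e2]
          exact (conj_fix y g).symm
        · conv_rhs => rw [← e1]
          exact (conj_fix y g).symm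
  obtain ⟨w, hwa, hwb⟩ := MulAction.is_two_pretransitive_iff.1 (two_transitive D) hab hab.symm
  have hswap : Nat.card {y : Cfsg.Sz F m // y • a = b ∧ y • b = a} = Fintype.card F - 1 := by
    rw [← card_pairStab D hF hab]
    refine Nat.card_congr ((Equiv.mulLeft w⁻¹).subtypeEquiv fun y => ?_)
    show (y • a = b ∧ y • b = a) ↔ (w⁻¹ * y) ∈ pairStab a b
    rw [mem_pairStab, mul_smul, mul_smul, inv_smul_eq_iff, inv_smul_eq_iff, hwa, hwb]
  refine ⟨hiff, ?_, hswap⟩
  rw [Nat.card_congr (Equiv.subtypeEquivRight hiff)]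
  have hd : Disjoint {y : Cfsg.Sz F m | y • a = a ∧ y • b = b} {y : Cfsg.Sz F m | y • a = b ∧ y • b = a} :=
    Set.disjoint_left.2 fun y h1 h2 => hab (h1.1.symm.trans h2.1)
  show Set.ncard ({y : Cfsg.Sz F m | y • a = a ∧ y • b = b} ∪ {y : Cfsg.Sz F m | y • a = b ∧ y • b = a}) = _
  rw [Set.ncard_union_eq hd (Set.toFinite _) (Set.toFinite _),
    show Set.ncard {y : Cfsg.Sz F m | y • a = a ∧ y • b = b} = Nat.card (pairStab a b) from
      Nat.card_congr (Equiv.subtypeEquivRight fun y => mem_pairStab.symm),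
    show Set.ncard {y : Cfsg.Sz F m | y • a = b ∧ y • b = a} = Fintype.card F - 1 from hswap,
    card_pairStab D hF hab, two_mul]

end Cfsg.Agent.Suzuki
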