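/-
The sizes of the solubilizers in a Suzuki group over a field of prime degree.
-/
import Cfsg.Agent.Lib.Suzuki.Solub

set_option autoImplicit false

namespace Cfsg.Agent.Suzuki

open scoped Pointwise

variable {F : Type*} [Field F] [Fintype F] {m : ℕ} (D : Dat F m) (hF : Fintype.card F = 2 ^ (2 * m + 1))
include D hF

/-- The possible sizes of the classes, with the index in the normaliser. -/
def clsType (q r n l : ℕ) : Prop :=
  (n = q - 1 ∧ l = 2) ∨ (n = q + r + 1 ∧ l = 4) ∨ (n = q - r + 1 ∧ l = 4)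

theorem sizes_ne : Fintype.card F - 1 ≠ Fintype.card F + 2 ^ (m + 1) + 1 ∧
    Fintype.card F - 1 ≠ Fintype.card F - 2 ^ (m + 1) + 1 ∧
    Fintype.card F + 2 ^ (m + 1) + 1 ≠ Fintype.card F - 2 ^ (m + 1) + 1 := by
  have := D.card_big hF
  have h4 : 4 ≤ 2 ^ (m + 1) := le_trans (by norm_num) (Nat.pow_le_pow_right (by norm_num) (show 2 ≤ m + 1 by have := D.one_le; omega))
  omega

theorem exists_cls {n l : ℕ} (h : clsType (Fintype.card F) (2 ^ (m + 1)) n l) :
    ∃ C : OddCls (Cfsg.Sz F m), Nat.card C.1 = n ∧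
      Nat.card (Subgroup.normalizer (C.1 : Set (Cfsg.Sz F m))) = l * n := by
  rcases h with ⟨rfl, rfl⟩ | ⟨rfl, rfl⟩ | ⟨rfl, rfl⟩
  · obtain ⟨C, hC⟩ := cls_of_local D hF (Or.inl ⟨oI D, oP D 0 0, oI_ne_oP D 0 0, rfl⟩)
    exact ⟨C, by rw [hC, card_pairStab D hF (oI_ne_oP D 0 0)],
      by rw [hC]; exact (card_norm_pair D hF (oI_ne_oP D 0 0)).2.1⟩
  · obtain ⟨U, hU, h1, h2⟩ := exists_tori D hF _ (Or.inl rfl)
    obtain ⟨C, hC⟩ := cls_of_local D hF (Or.inr hU)
    exact ⟨C, by rw [hC, h1], by rw [hC, h2]⟩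
  · obtain ⟨U, hU, h1, h2⟩ := exists_tori D hF _ (Or.inr rfl)
    obtain ⟨C, hC⟩ := cls_of_local D hF (Or.inr hU)
    exact ⟨C, by rw [hC, h1], by rw [hC, h2]⟩

theorem torus_ne_pair {U : Subgroup (Cfsg.Sz F m)} (hU : IsTorus U) : Nat.card U ≠ Fintype.card F - 1 := by
  obtain ⟨h1, h2, -⟩ := sizes_ne D hF
  rcases torus_card D hF hU with e | e <;> rw [e]
  exacts [h1.symm, h2.symm]

theorem cls_conj {C C' : OddCls (Cfsg.Sz F m)} (h : Nat.card C.1 = Nat.card C'.1) :
    ∃ k : Cfsg.Sz F m, k • C = C' := by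
  rcases cls_kinds D hF C with ⟨a, b, hab, hC⟩ | hC <;> rcases cls_kinds D hF C' with ⟨a', b', hab', hC'⟩ | hC'
  · obtain ⟨k, hka, hkb⟩ := MulAction.is_two_pretransitive_iff.1 (two_transitive D) hab hab'
    refine ⟨k, Subtype.ext ?_⟩
    rw [oddCls_smul, hC, hC']
    ext g
    rw [mem_map_conj, mem_pairStab, mem_pairStab, ← hka, ← hkb]
    rw [mul_smul, mul_smul, mul_smul, mul_smul, inv_smul_eq_iff, inv_smul_eq_iff]
  · rw [hC, card_pairStab D hF hab] at h
    exact absurd h.symm (torus_ne_pair D hF hC')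
  · rw [hC', card_pairStab D hF hab'] at h
    exact absurd h (torus_ne_pair D hF hC)
  · obtain ⟨p, hp, hpd⟩ := Nat.exists_prime_and_dvd hC.one_lt.ne'
    haveI := Fact.mk hp
    obtain ⟨k, hk⟩ := hC.conj_of_dvd D hF hC' hpd (h ▸ hpd)
    exact ⟨k, Subtype.ext hk⟩

theorem cls_type (C : OddCls (Cfsg.Sz F m)) : ∃ l, clsType (Fintype.card F) (2 ^ (m + 1)) (Nat.card C.1) l ∧
    Nat.card (Subgroup.normalizer (C.1 : Set (Cfsg.Sz F m))) = l * Nat.card C.1 := by
  have key : ∀ n l, clsType (Fintype.card F) (2 ^ (m + 1)) n l → Nat.card C.1 = n →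
      Nat.card (Subgroup.normalizer (C.1 : Set (Cfsg.Sz F m))) = l * n := by
    intro n l hnl hn
    obtain ⟨C₀, h0, h0'⟩ := exists_cls D hF hnl
    obtain ⟨k, rfl⟩ := cls_conj D hF (h0.trans hn.symm)
    rw [← h0', ← oddCls_stabilizer, ← oddCls_stabilizer, MulAction.stabilizer_smul_eq_stabilizer_map_conj]
    exact card_map_conj _ k
  rcases cls_kinds D hF C with ⟨a, b, hab, hC⟩ | hC
  · have hn : Nat.card C.1 = Fintype.card F - 1 := by rw [hC, card_pairStab D hF hab]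
    exact ⟨2, Or.inl ⟨hn, rfl⟩, key _ _ (Or.inl ⟨rfl, rfl⟩) hn ▸ by rw [hn]⟩
  · rcases torus_card D hF hC with hn | hn
    · exact ⟨4, Or.inr (Or.inl ⟨hn, rfl⟩), key _ _ (Or.inr (Or.inl ⟨rfl, rfl⟩)) hn ▸ by rw [hn]⟩
    · exact ⟨4, Or.inr (Or.inr ⟨hn, rfl⟩), key _ _ (Or.inr (Or.inr ⟨rfl, rfl⟩)) hn ▸ by rw [hn]⟩

theorem cls_l {C : OddCls (Cfsg.Sz F m)} {n l : ℕ} (h : clsType (Fintype.card F) (2 ^ (m + 1)) n l)
    (hn : Nat.card C.1 = n) : Nat.card (Subgroup.normalizer (C.1 : Set (Cfsg.Sz F m))) = l * n ∧ (l = 2 ∨ l = 4) := by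
  obtain ⟨l', hl', e⟩ := cls_type D hF C
  rw [hn] at hl' e
  obtain ⟨s1, s2, s3⟩ := sizes_ne D hF
  have : l' = l := by
    rcases h with ⟨a1, b1⟩ | ⟨a1, b1⟩ | ⟨a1, b1⟩ <;> rcases hl' with ⟨a2, b2⟩ | ⟨a2, b2⟩ | ⟨a2, b2⟩ <;> omega
  refine ⟨this ▸ e, ?_⟩
  rcases h with ⟨-, b⟩ | ⟨-, b⟩ | ⟨-, b⟩ <;> omega

theorem card_type {n l : ℕ} (h : clsType (Fintype.card F) (2 ^ (m + 1)) n l) :
    Nat.card {C : OddCls (Cfsg.Sz F m) // Nat.card C.1 = n} * (l * n) = Nat.card (Cfsg.Sz F m) := by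
  obtain ⟨C₀, h0, h0'⟩ := exists_cls D hF h
  have e : Nat.card {C : OddCls (Cfsg.Sz F m) // Nat.card C.1 = n} = Nat.card (MulAction.orbit (Cfsg.Sz F m) C₀) := by
    refine Nat.card_congr (Equiv.subtypeEquivRight fun C => ⟨fun hn => ?_, ?_⟩)
    · exact cls_conj D hF (h0.trans hn.symm)
    · rintro ⟨k, rfl⟩
      show Nat.card (k • C₀).1 = n
      rw [oddCls_smul, card_map_conj, h0]
  rw [e, ← h0', ← oddCls_stabilizer, Nat.card_congr (MulAction.orbitEquivQuotientStabilizer _ C₀)]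
  exact (Subgroup.card_eq_card_quotient_mul_card_subgroup _).symm

theorem invol_conj {t t' : Cfsg.Sz F m} (ht : orderOf t = 2) (ht' : orderOf t' = 2) :
    ∃ k : Cfsg.Sz F m, k * t * k⁻¹ = t' := by
  have key : ∀ t : Cfsg.Sz F m, orderOf t = 2 → ∃ (k : Cfsg.Sz F m) (b : Fˣ), k * t * k⁻¹ = gT D 0 (b : F) := by
    intro t ht
    obtain ⟨a, k, hta, hk, hC⟩ := centralizer_invol D hF ht
    obtain ⟨p, r, hpr⟩ := (hC t).1 (self_mem_centralizer t)
    have h2 : (k * t * k⁻¹) ^ 2 = 1 := by rw [conj_pow, (orderOf_two_iff.1 ht).2, mul_one, mul_inv_cancel]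
    rw [hpr, pow_two, gT_mul, ← gT_zero D, D.add_self, D.add_self, zero_add] at h2
    obtain rfl := (square_zero_iff D hF).1 (gT_inj D h2).2
    exact ⟨k, Units.mk0 r (fun e => (orderOf_two_iff.1 ht).1 (conj_eq_one_iff.1 (by rw [hpr, e, gT_zero]))), hpr⟩
  obtain ⟨k, b, hk⟩ := key t ht
  obtain ⟨k', b', hk'⟩ := key t' ht'
  obtain ⟨u, hu⟩ := (Finite.injective_iff_surjective.1 (kap_inj D hF)) (b' * b⁻¹)
  refine ⟨k'⁻¹ * gH D u * k, ?_⟩
  have h1 := gH_scale D u 0 (b : F)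
  rw [mul_zero, hu, ← Units.val_mul, inv_mul_cancel_right, ← hk', ← hk] at h1
  calc k'⁻¹ * gH D u * k * t * (k'⁻¹ * gH D u * k)⁻¹ = k'⁻¹ * (gH D u * (k * t * k⁻¹) * (gH D u)⁻¹) * k' := by group
    _ = t' := by rw [h1]; group

theorem card_centralizer_invol {t : Cfsg.Sz F m} (ht : orderOf t = 2) :
    Nat.card (Subgroup.centralizer {t}) = Fintype.card F ^ 2 := by
  obtain ⟨a, k, hta, hk, hC⟩ := centralizer_invol D hF ht
  rw [← card_Q D]
  exact Nat.card_congr ((MulAut.conj k).toEquiv.subtypeEquiv fun g => hC g)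

theorem card_invol {t : Cfsg.Sz F m} (ht : orderOf t = 2) :
    Nat.card {s : Cfsg.Sz F m // orderOf s = 2} * Fintype.card F ^ 2 = Nat.card (Cfsg.Sz F m) := by
  classical
  haveI : Fintype {s : Cfsg.Sz F m // orderOf s = 2} := Fintype.ofFinite _
  let f : Cfsg.Sz F m → {s : Cfsg.Sz F m // orderOf s = 2} := fun k => ⟨k * t * k⁻¹, by
    rw [show k * t * k⁻¹ = MulAut.conj k t from rfl, MulEquiv.orderOf_eq, ht]⟩
  rw [← Nat.card_congr (Equiv.sigmaFiberEquiv f), Nat.card_sigma]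
  have hfib : ∀ s, Nat.card {k // f k = s} = Fintype.card F ^ 2 := by
    rintro ⟨s, hs⟩
    obtain ⟨k, hk⟩ := invol_conj D hF ht hs
    rw [← card_centralizer_invol D hF ht]
    refine Nat.card_congr ((Equiv.mulLeft k⁻¹).subtypeEquiv fun g => ?_)
    show f g = ⟨s, hs⟩ ↔ k⁻¹ * g ∈ Subgroup.centralizer {t}
    rw [mem_centralizer_one, Subtype.ext_iff]
    show g * t * g⁻¹ = s ↔ k⁻¹ * g * t = t * (k⁻¹ * g)
    rw [← hk]
    constructor
    · intro e
      calc k⁻¹ * g * t = k⁻¹ * (g * t * g⁻¹) * g := by group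
        _ = t * (k⁻¹ * g) := by rw [e]; group
    · intro e
      calc g * t * g⁻¹ = k * (k⁻¹ * g * t) * g⁻¹ := by group
        _ = k * t * k⁻¹ := by rw [e]; group
  rw [Finset.sum_congr rfl fun s _ => hfib s, Finset.sum_const, Finset.card_univ, smul_eq_mul, Nat.card_eq_fintype_card]

omit D hF in
theorem mem_norm_conj (k : Cfsg.Sz F m) (C : OddCls (Cfsg.Sz F m)) (g : Cfsg.Sz F m) :
    k * g * k⁻¹ ∈ Subgroup.normalizer ((k • C).1 : Set (Cfsg.Sz F m)) ↔
      g ∈ Subgroup.normalizer (C.1 : Set (Cfsg.Sz F m)) := by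
  rw [← oddCls_stabilizer, ← oddCls_stabilizer, MulAction.mem_stabilizer_iff, MulAction.mem_stabilizer_iff,
    ← mul_smul, inv_mul_cancel_right, mul_smul, smul_left_cancel_iff]

theorem type_two {n l : ℕ} (h : clsType (Fintype.card F) (2 ^ (m + 1)) n l) {t : Cfsg.Sz F m} (ht : orderOf t = 2) :
    Nat.card {C : OddCls (Cfsg.Sz F m) // Nat.card C.1 = n ∧ t ∈ Subgroup.normalizer (C.1 : Set (Cfsg.Sz F m))} * l =
      Fintype.card F ^ 2 := by
  classical
  set T := fun s : Cfsg.Sz F m =>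
    Nat.card {C : OddCls (Cfsg.Sz F m) // Nat.card C.1 = n ∧ s ∈ Subgroup.normalizer (C.1 : Set (Cfsg.Sz F m))}
  show T t * l = _
  have hconst : ∀ s : Cfsg.Sz F m, orderOf s = 2 → T s = T t := by
    intro s hs
    obtain ⟨k, hk⟩ := invol_conj D hF ht hs
    refine (Nat.card_congr ((MulAction.toPerm k).subtypeEquiv fun C => ?_)).symm
    show _ ↔ Nat.card (k • C).1 = n ∧ s ∈ Subgroup.normalizer ((k • C).1 : Set (Cfsg.Sz F m))
    rw [← hk, mem_norm_conj, oddCls_smul, card_map_conj]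
  haveI : Fintype {s : Cfsg.Sz F m // orderOf s = 2} := Fintype.ofFinite _
  haveI : Fintype {C : OddCls (Cfsg.Sz F m) // Nat.card C.1 = n} := Fintype.ofFinite _
  have hsw : Nat.card {s : Cfsg.Sz F m // orderOf s = 2} * T t = Nat.card {C : OddCls (Cfsg.Sz F m) // Nat.card C.1 = n} * n := by
    have h1 : Nat.card (Σ s : {s : Cfsg.Sz F m // orderOf s = 2},
        {C : OddCls (Cfsg.Sz F m) // Nat.card C.1 = n ∧ s.1 ∈ Subgroup.normalizer (C.1 : Set (Cfsg.Sz F m))}) =
        Nat.card (Σ C : {C : OddCls (Cfsg.Sz F m) // Nat.card C.1 = n},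
          {s : Cfsg.Sz F m // orderOf s = 2 ∧ s ∈ Subgroup.normalizer (C.1.1 : Set (Cfsg.Sz F m))}) :=
      Nat.card_congr
        { toFun := fun p => ⟨⟨p.2.1, p.2.2.1⟩, ⟨p.1.1, p.1.2, p.2.2.2⟩⟩
          invFun := fun p => ⟨⟨p.2.1, p.2.2.1⟩, ⟨p.1.1, p.1.2, p.2.2.2⟩⟩
          left_inv := fun p => rfl
          right_inv := fun p => rfl }
    rw [Nat.card_sigma, Nat.card_sigma] at h1
    rw [Finset.sum_congr rfl fun (s : {s : Cfsg.Sz F m // orderOf s = 2}) _ => hconst s.1 s.2,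
      Finset.sum_congr rfl fun (C : {C : OddCls (Cfsg.Sz F m) // Nat.card C.1 = n}) _ =>
        (card_invol_cls (szLike D hF) C.1 (by
          obtain ⟨e, hl⟩ := cls_l D hF h C.2
          rw [e]; rcases hl with rfl | rfl
          exacts [dvd_mul_right _ _, (by norm_num : 2 ∣ 4).mul_right _])).trans C.2,
      Finset.sum_const, Finset.sum_const, Finset.card_univ, Finset.card_univ, smul_eq_mul, smul_eq_mul,
      ← Nat.card_eq_fintype_card, ← Nat.card_eq_fintype_card] at h1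
    exact h1
  have h2 := card_type D hF h
  have h3 := card_invol D hF ht
  have hpos : 0 < Nat.card {s : Cfsg.Sz F m // orderOf s = 2} := by
    haveI : Nonempty {s : Cfsg.Sz F m // orderOf s = 2} := ⟨⟨t, ht⟩⟩
    exact Nat.card_pos
  apply Nat.eq_of_mul_eq_mul_left hpos
  rw [← mul_assoc, hsw, h3, mul_assoc, mul_comm n, h2]

theorem point_part {t : Cfsg.Sz F m} (ht : orderOf t = 2) {p : Cfsg.suzukiOvoid F m} (htp : t • p = p)
    {C : OddCls (Cfsg.Sz F m)} (htC : t ∈ Subgroup.normalizer (C.1 : Set (Cfsg.Sz F m))) (y : Cfsg.Sz F m) :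
    (y ∈ Subgroup.normalizer (C.1 : Set (Cfsg.Sz F m)) ∧ y • p = p) ↔
      y ∈ (Subgroup.centralizer {t} ⊓ Subgroup.normalizer (C.1 : Set (Cfsg.Sz F m)) : Subgroup (Cfsg.Sz F m)) := by
  have hS := szLike D hF
  constructor
  · rintro ⟨hy, hyp⟩
    refine ⟨?_, hy⟩
    obtain ⟨a, k, hta, hk, hC⟩ := centralizer_invol D hF ht
    have hap : a = p := by
      obtain ⟨a', -, hu⟩ := oneFix_of_order_two D hF ht
      exact (hu _ hta).trans (hu _ htp).symm
    subst hap
    by_cases hy1 : y = 1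
    · rw [hy1]; exact one_mem _
    rcases fix_trichotomy y with h0 | h1 | ⟨c, d, hcd, hc, hd⟩
    · exact absurd hyp (h0 _)
    · obtain ⟨c, hc, hu⟩ := h1
      refine (hC y).2 ((conj_Q D hF hk).2 (Or.inr ⟨hyp, fun p' hp' => (hu p' hp').trans (hu _ hyp).symm⟩))
    · exfalso
      have ho : Odd (orderOf y) := odd_orderOf_of_twoFix D hF ⟨c, d, hcd, hc, hd⟩
      have hyC := cls_odd_mem hS C hy ho
      have h2 := cls_inverts hS C ht htC hyC
      have h3 := hS.mem_cls hyC hy1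
      rw [centralizer_twoFix D hF hy1 hcd hc hd] at h3
      have hmem : a = c ∨ a = d := eq_pair_or D hF hy1 hcd hc hd hyp
      have hsw : t • a = a := htp
      have ht2 : t * t = 1 := by rw [← pow_two]; exact (orderOf_two_iff.1 ht).2
      have htn : t ∈ Subgroup.normalizer ((pairStab c d : Subgroup (Cfsg.Sz F m)) : Set (Cfsg.Sz F m)) := h3.2 ▸ htC
      obtain ⟨-, -, g3⟩ := sq_mem_pair D hF hy1 hcd hc hd htn
      have hfix : t ∈ pairStab c d := by
        rcases hmem with e | e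
        · exact mem_pairStab.2 ⟨e ▸ hsw, g3 (e ▸ hsw)⟩
        · refine mem_pairStab.2 ⟨?_, e ▸ hsw⟩
          rcases (sq_mem_pair D hF hy1 hcd hc hd htn).1 with e1 | e1
          · exact e1
          · exact absurd (MulAction.injective t (e1.trans (e ▸ hsw).symm)) hcd
      have := Odd.of_dvd_nat (cls_odd hS C) (Subgroup.orderOf_dvd_natCard C.1 (h3.2 ▸ hfix))
      rw [ht] at this
      exact absurd this (by decide)
  · rintro ⟨hy1, hy2⟩
    exact ⟨hy2, (normalizer_invol D hF ht htp y).1 (Subgroup.le_normalizer hy1)⟩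

theorem cls_unique {t : Cfsg.Sz F m} (ht : orderOf t = 2) {p : Cfsg.suzukiOvoid F m} (htp : t • p = p)
    {C C' : OddCls (Cfsg.Sz F m)} {y : Cfsg.Sz F m} (hyp : y • p ≠ p)
    (h1 : t ∈ Subgroup.normalizer (C.1 : Set (Cfsg.Sz F m))) (h2 : y ∈ Subgroup.normalizer (C.1 : Set (Cfsg.Sz F m)))
    (h1' : t ∈ Subgroup.normalizer (C'.1 : Set (Cfsg.Sz F m)))
    (h2' : y ∈ Subgroup.normalizer (C'.1 : Set (Cfsg.Sz F m))) : C = C' := by
  have hS := szLike D hF
  obtain ⟨z, hz1, hz, hz'⟩ : ∃ z, z ≠ 1 ∧ z ∈ C.1 ∧ z ∈ C'.1 := by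
    by_cases ho : Odd (orderOf y)
    · exact ⟨y, fun e => hyp (by rw [e, one_smul]), cls_odd_mem hS C h2 ho, cls_odd_mem hS C' h2' ho⟩
    · obtain ⟨r, hr⟩ := hS.exists_invol_pow ho
      set s := y ^ r
      obtain ⟨a, ha, hua⟩ := oneFix_of_order_two D hF hr
      have hya : y • a = a := hua _ (by rw [← mul_smul, ← (Commute.self_pow y r).eq, mul_smul, ha])
      have hne : s • p ≠ p := fun h => hyp (by rw [hua _ h]; exact hya)
      refine ⟨s * t, fun e => hne ?_, ?_, ?_⟩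
      · rw [eq_inv_of_mul_eq_one_left e, inv_smul_eq_iff, htp]
      all_goals
        first
        | refine cls_odd_mem hS C (mul_mem (pow_mem h2 r) h1) ?_
        | refine cls_odd_mem hS C' (mul_mem (pow_mem h2' r) h1') ?_
        by_contra he
        obtain ⟨n, hn⟩ := hS.exists_invol_pow he
        obtain ⟨hs1, hs2⟩ := orderOf_two_iff.1 hr
        obtain ⟨ht1, ht2⟩ := orderOf_two_iff.1 ht
        rw [pow_two] at hs2 ht2
        have hsi : s⁻¹ = s := inv_eq_of_mul_eq_one_right hs2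
        set c := (s * t) ^ n
        have hci : c⁻¹ = c := inv_eq_of_mul_eq_one_right (by rw [← pow_two]; exact (orderOf_two_iff.1 hn).2)
        have hsc : s * c * s⁻¹ = c := by
          conv_rhs => rw [← hci]
          rw [← conj_pow, hsi, ← inv_pow, mul_inv_rev, hsi, inv_eq_of_mul_eq_one_right ht2]
          congr 1
          calc s * (s * t) * s = (s * s) * t * s := by group
            _ = t * s := by rw [hs2, one_mul]
        have hsC : Commute s c := mul_inv_eq_iff_eq_mul.1 hsc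
        have htC : Commute t c := by
          have h := hsC.mul_left ((Commute.refl (s * t)).pow_right n)
          rwa [← mul_assoc, hs2, one_mul] at h
        obtain ⟨e, -, hue⟩ := oneFix_of_order_two D hF hn
        obtain ⟨p', -, hup⟩ := oneFix_of_order_two D hF ht
        obtain ⟨f, hf, -⟩ := oneFix_of_order_two D hF hn
        have hfe : f = e := hue _ hf
        subst hfe
        apply hne
        have hsf : s • f = f := hue _ (smul_fix_of_commute hsC hf)
        have htf : t • f = f := hue _ (smul_fix_of_commute htC hf)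
        have : p = f := (hup _ htp).trans (hup _ htf).symm
        rw [this]; exact hsf
  exact Subtype.ext ((hS.mem_cls hz hz1).2.symm.trans (hS.mem_cls hz' hz1).2)

/-- The number of elements off the point of an involution in a common local subgroup. -/
theorem card_off {x t : Cfsg.Sz F m} (ht : orderOf t = 2) {p : Cfsg.suzukiOvoid F m} (htp : t • p = p)
    (hxt : x = t ∨ x ^ 2 = t) (T : ℕ → ℕ)
    (hT : ∀ n l, clsType (Fintype.card F) (2 ^ (m + 1)) n l →
      Nat.card {C : OddCls (Cfsg.Sz F m) // Nat.card C.1 = n ∧ x ∈ Subgroup.normalizer (C.1 : Set (Cfsg.Sz F m))} = T n) :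
    Nat.card {y : Cfsg.Sz F m // y • p ≠ p ∧
        ∃ C : OddCls (Cfsg.Sz F m), x ∈ Subgroup.normalizer (C.1 : Set (Cfsg.Sz F m)) ∧
          y ∈ Subgroup.normalizer (C.1 : Set (Cfsg.Sz F m))} =
      T (Fintype.card F - 1) * (2 * (Fintype.card F - 1 - 1)) +
      (T (Fintype.card F + 2 ^ (m + 1) + 1) * (4 * (Fintype.card F + 2 ^ (m + 1) + 1 - 1)) +
      T (Fintype.card F - 2 ^ (m + 1) + 1) * (4 * (Fintype.card F - 2 ^ (m + 1) + 1 - 1))) := by
  classical
  have htmem : ∀ C : OddCls (Cfsg.Sz F m), x ∈ Subgroup.normalizer (C.1 : Set (Cfsg.Sz F m)) →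
      t ∈ Subgroup.normalizer (C.1 : Set (Cfsg.Sz F m)) := by
    intro C hC
    rcases hxt with e | e <;> rw [← e]
    exacts [hC, pow_mem hC 2]
  set X := {C : OddCls (Cfsg.Sz F m) // x ∈ Subgroup.normalizer (C.1 : Set (Cfsg.Sz F m))}
  haveI : Fintype X := Fintype.ofFinite _
  haveI : Fintype (OddCls (Cfsg.Sz F m)) := Fintype.ofFinite _
  have e1 : {y : Cfsg.Sz F m // y • p ≠ p ∧ ∃ C : OddCls (Cfsg.Sz F m), x ∈ Subgroup.normalizer (C.1 : Set (Cfsg.Sz F m)) ∧
      y ∈ Subgroup.normalizer (C.1 : Set (Cfsg.Sz F m))} ≃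
      Σ C : X, {y : Cfsg.Sz F m // y ∈ Subgroup.normalizer (C.1.1 : Set (Cfsg.Sz F m)) ∧ y • p ≠ p} :=
    (Equiv.ofBijective (fun q : (Σ C : X, {y : Cfsg.Sz F m // y ∈ Subgroup.normalizer (C.1.1 : Set (Cfsg.Sz F m)) ∧ y • p ≠ p}) =>
        (⟨q.2.1, q.2.2.2, q.1.1, q.1.2, q.2.2.1⟩ : {y : Cfsg.Sz F m // y • p ≠ p ∧
          ∃ C : OddCls (Cfsg.Sz F m), x ∈ Subgroup.normalizer (C.1 : Set (Cfsg.Sz F m)) ∧
            y ∈ Subgroup.normalizer (C.1 : Set (Cfsg.Sz F m))})) ⟨by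
      rintro ⟨C, y, hy, hyp⟩ ⟨C', y', hy', hyp'⟩ e
      obtain rfl : y = y' := congrArg Subtype.val e
      obtain rfl : C = C' := Subtype.ext (cls_unique D hF ht htp hyp (htmem _ C.2) hy (htmem _ C'.2) hy')
      rfl, by
      rintro ⟨y, hyp, C, hxC, hyC⟩
      exact ⟨⟨⟨C, hxC⟩, y, hyC, hyp⟩, rfl⟩⟩).symm
  rw [Nat.card_congr e1, Nat.card_sigma]
  have hfib : ∀ (C : X) (n l : ℕ), clsType (Fintype.card F) (2 ^ (m + 1)) n l → Nat.card C.1.1 = n →
      Nat.card {y : Cfsg.Sz F m // y ∈ Subgroup.normalizer (C.1.1 : Set (Cfsg.Sz F m)) ∧ y • p ≠ p} = l * (n - 1) := by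
    intro C n l hnl hn
    obtain ⟨hν, hl⟩ := cls_l D hF hnl hn
    obtain ⟨hK, -⟩ := cls_point_part (szLike D hF) C.1 ht (htmem _ C.2) hl (hn.symm ▸ hν)
    have hsplit : Nat.card {y : Cfsg.Sz F m // y ∈ Subgroup.normalizer (C.1.1 : Set (Cfsg.Sz F m)) ∧ y • p ≠ p} + l = l * n := by
      have h1 := Set.ncard_inter_add_ncard_diff_eq_ncard
        ((Subgroup.normalizer (C.1.1 : Set (Cfsg.Sz F m)) : Subgroup (Cfsg.Sz F m)) : Set (Cfsg.Sz F m))
        {y : Cfsg.Sz F m | y • p = p} (Set.toFinite _)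
      have e2 : (((Subgroup.normalizer (C.1.1 : Set (Cfsg.Sz F m)) : Subgroup (Cfsg.Sz F m)) : Set (Cfsg.Sz F m)) ∩
          {y : Cfsg.Sz F m | y • p = p}).ncard = l := by
        rw [← hK]
        exact Nat.card_congr (Equiv.subtypeEquivRight fun y => point_part D hF ht htp (htmem _ C.2) y)
      rw [e2, show ((Subgroup.normalizer (C.1.1 : Set (Cfsg.Sz F m)) : Subgroup (Cfsg.Sz F m)) : Set (Cfsg.Sz F m)).ncard =
        l * n from hν] at h1
      rw [← h1, add_comm]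
      rfl
    rw [Nat.mul_sub, mul_one]
    omega
  set n₁ := Fintype.card F - 1
  set n₂ := Fintype.card F + 2 ^ (m + 1) + 1
  set n₃ := Fintype.card F - 2 ^ (m + 1) + 1
  obtain ⟨s1, s2, s3⟩ := sizes_ne D hF
  set g : X → ℕ := fun C =>
    (if Nat.card C.1.1 = n₁ then 2 * (n₁ - 1) else 0) + ((if Nat.card C.1.1 = n₂ then 4 * (n₂ - 1) else 0) +
      (if Nat.card C.1.1 = n₃ then 4 * (n₃ - 1) else 0))
  have hg : ∀ C : X, Nat.card {y : Cfsg.Sz F m // y ∈ Subgroup.normalizer (C.1.1 : Set (Cfsg.Sz F m)) ∧ y • p ≠ p} = g C := by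
    intro C
    obtain ⟨l, hl, -⟩ := cls_type D hF C.1
    rw [hfib C _ l hl rfl]
    simp only [g]
    rcases hl with ⟨e, rfl⟩ | ⟨e, rfl⟩ | ⟨e, rfl⟩ <;> rw [e]
    · rw [if_pos rfl, if_neg s1, if_neg s2, add_zero, add_zero]
    · rw [if_neg s1.symm, if_pos rfl, if_neg s3, zero_add, add_zero]
    · rw [if_neg s2.symm, if_neg s3.symm, if_pos rfl, zero_add, zero_add]
  rw [Finset.sum_congr rfl fun C _ => hg C]
  simp only [g, Finset.sum_add_distrib]
  have hcount : ∀ (n l c : ℕ), clsType (Fintype.card F) (2 ^ (m + 1)) n l →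
      ∑ C : X, (if Nat.card C.1.1 = n then c else 0) = T n * c := by
    intro n l c hnl
    rw [← hT n l hnl, ← Finset.sum_filter, Finset.sum_const, smul_eq_mul]
    congr 1
    rw [← Fintype.card_subtype, ← Nat.card_eq_fintype_card]
    exact Nat.card_congr
      { toFun := fun C => ⟨C.1.1, C.2, C.1.2⟩
        invFun := fun C => ⟨⟨C.1, C.2.2⟩, C.2.1⟩
        left_inv := fun C => rfl
        right_inv := fun C => rfl }
  rw [hcount _ 2 _ (Or.inl ⟨rfl, rfl⟩), hcount _ 4 _ (Or.inr (Or.inl ⟨rfl, rfl⟩)), hcount _ 4 _ (Or.inr (Or.inr ⟨rfl, rfl⟩))]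

theorem conj_four {a : F} (ha : a ≠ 0) (b' : F) :
    ∃ p : F, D.θ p * a + D.θ a * p = b' ∨ D.θ p * a + D.θ a * p = b' + D.θ a * a := by
  classical
  let f : F →+ F := AddMonoidHom.mk' (fun p => D.θ p * a + D.θ a * p) fun p q => by simp only [map_add]; ring
  have hker : ∀ p, f p = 0 → p = 0 ∨ p = a := by
    intro p hp
    have h1 : D.θ (p / a) + p / a = 0 := by
      have h0 : D.θ p * a + D.θ a * p = 0 := hp
      have hθa : D.θ a ≠ 0 := (map_ne_zero D.θ).2 ha
      rw [map_div₀]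
      field_simp
      linear_combination h0
    rcases D.theta_fixed (D.eq_of_add h1) with e | e
    · exact Or.inl ((div_eq_zero_iff.1 e).resolve_right ha)
    · exact Or.inr ((div_eq_one_iff_eq ha).1 e)
  have hcard : Fintype.card F ≤ 2 * Nat.card f.range := by
    rw [← Nat.card_eq_fintype_card, ← AddSubgroup.card_mul_index f.ker, AddSubgroup.index_ker]
    refine Nat.mul_le_mul_right _ ?_
    refine le_trans (le_of_eq ?_) ((Set.ncard_insert_le (0 : F) {a}).trans (by rw [Set.ncard_singleton]) : Set.ncard ({0, a} : Set F) ≤ 2)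
    show Set.ncard (f.ker : Set F) = _
    congr 1
    ext p
    refine ⟨fun hp => hker p hp, ?_⟩
    intro hp'
    rcases hp' with h | h
    · rw [show p = 0 from h]; exact map_zero f
    · rw [show p = a from h]
      show D.θ a * a + D.θ a * a = 0
      exact D.add_self _
  have hnot : D.θ a * a ∉ f.range := by
    rintro ⟨p, hp⟩
    have h0 : D.θ p * a + D.θ a * p = D.θ a * a := hp
    have hθa : D.θ a ≠ 0 := (map_ne_zero D.θ).2 ha
    have h1 : D.θ (p / a) + p / a = 1 := by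
      rw [map_div₀]
      field_simp
      linear_combination h0
    have h2 : D.θ (p / a) = p / a + 1 := by linear_combination h1 - (p / a) * D.two
    have h3 : p / a * (p / a) = p / a := by
      have := D.sq (p / a)
      rw [h2, map_add, map_one, h2] at this
      linear_combination (-1 : F) * this + D.two
    rcases mul_left_eq_self₀.1 h3 with e | e
    · rw [e, map_one] at h1
      exact one_ne_zero (by linear_combination (-1 : F) * h1 + D.two : (1 : F) = 0)
    · rw [e, map_zero] at h1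
      exact one_ne_zero (by linear_combination (-1 : F) * h1 : (1 : F) = 0)
  by_contra hcon
  push_neg at hcon
  set R : Set F := (f.range : Set F)
  have hd : Disjoint R ((fun r => r + D.θ a * a) '' R) := by
    rw [Set.disjoint_left]
    rintro _ h1 ⟨r, hr, rfl⟩
    exact hnot (by simpa using f.range.sub_mem h1 hr)
  have h2 : (R ∪ (fun r => r + D.θ a * a) '' R).ncard = 2 * Nat.card f.range := by
    rw [Set.ncard_union_eq hd (Set.toFinite _) (Set.toFinite _), Set.ncard_image_of_injective _ (add_left_injective _), two_mul]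
    rfl
  have hlt : (R ∪ (fun r => r + D.θ a * a) '' R) ⊂ Set.univ := by
    refine ⟨Set.subset_univ _, fun hall => ?_⟩
    rcases hall (Set.mem_univ b') with ⟨p, hp⟩ | ⟨r, ⟨p, hp⟩, hr⟩
    · exact (hcon p).1 hp
    · refine (hcon p).2 ?_
      have hp' : D.θ p * a + D.θ a * p = r := hp
      rw [hp', ← hr]
      linear_combination (-(D.θ a * a)) * D.two
  have := Set.ncard_lt_ncard hlt (Set.toFinite _)
  rw [h2, Set.ncard_univ] at this
  simp only [Nat.card_eq_fintype_card] at *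
  omega

theorem type_four {n l : ℕ} (h : clsType (Fintype.card F) (2 ^ (m + 1)) n l) {x t : Cfsg.Sz F m}
    (ht : orderOf t = 2) (hx : x ^ 2 = t) :
    Nat.card {C : OddCls (Cfsg.Sz F m) // Nat.card C.1 = n ∧ x ∈ Subgroup.normalizer (C.1 : Set (Cfsg.Sz F m))} * 2 =
      if l = 4 then Fintype.card F else 0 := by
  classical
  have hS := szLike D hF
  obtain ⟨hl2, hl24⟩ : True ∧ (l = 2 ∨ l = 4) := ⟨trivial, by rcases h with ⟨-, b⟩ | ⟨-, b⟩ | ⟨-, b⟩ <;> omega⟩
  obtain ⟨p, k, htp, hk, hC⟩ := centralizer_invol D hF ht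
  have hxC : ∀ y : Cfsg.Sz F m, y ^ 2 = t → y ∈ Subgroup.centralizer {t} := fun y hy =>
    mem_centralizer_one.2 (hy ▸ Commute.self_pow y 2)
  rcases hl24 with rfl | rfl
  · rw [if_neg (by norm_num)]
    have : Nat.card {C : OddCls (Cfsg.Sz F m) // Nat.card C.1 = n ∧ x ∈ Subgroup.normalizer (C.1 : Set (Cfsg.Sz F m))} = 0 := by
      rw [Nat.card_eq_zero]
      left
      refine ⟨fun C => ?_⟩
      have htN : t ∈ Subgroup.normalizer (C.1.1 : Set (Cfsg.Sz F m)) := hx ▸ pow_mem C.2.2 2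
      obtain ⟨e, -⟩ := cls_l D hF h C.2.1
      obtain ⟨hK, -⟩ := cls_point_part hS C.1 ht htN (Or.inl rfl) (by rw [C.2.1]; exact e)
      have hd := Subgroup.orderOf_dvd_natCard _ (show x ∈ (Subgroup.centralizer {t} ⊓ Subgroup.normalizer
        (C.1.1 : Set (Cfsg.Sz F m)) : Subgroup (Cfsg.Sz F m)) from ⟨hxC x hx, C.2.2⟩)
      rw [hK] at hd
      exact (orderOf_two_iff.1 ht).1 (hx ▸ orderOf_dvd_iff_pow_eq_one.1 hd)
    rw [this, zero_mul]
  · rw [if_pos rfl]
    haveI : Fintype {y : Cfsg.Sz F m // y ^ 2 = t} := Fintype.ofFinite _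
    haveI : Fintype {C : OddCls (Cfsg.Sz F m) // Nat.card C.1 = n ∧ t ∈ Subgroup.normalizer (C.1 : Set (Cfsg.Sz F m))} :=
      Fintype.ofFinite _
    obtain ⟨a₀, b₀, hx0⟩ := (hC x).1 (hxC x hx)
    obtain ⟨pt, rt, ht0⟩ := (hC t).1 (self_mem_centralizer t)
    have hsq : gT D pt rt = gT D 0 (D.θ a₀ * a₀) := by
      rw [← ht0, ← hx, ← conj_pow, hx0, pow_two, gT_mul, D.add_self, D.add_self, zero_add]
    rw [hsq] at ht0
    have ha0 : a₀ ≠ 0 := by
      intro e
      rw [e, mul_zero, gT_zero, conj_eq_one_iff] at ht0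
      exact (orderOf_two_iff.1 ht).1 ht0
    -- the square roots
    have hroots : Nat.card {y : Cfsg.Sz F m // y ^ 2 = t} = Fintype.card F := by
      rw [← Nat.card_eq_fintype_card (α := F)]
      refine (Nat.card_eq_of_bijective (fun b : F => (⟨k⁻¹ * gT D a₀ b * k, ?_⟩ : {y : Cfsg.Sz F m // y ^ 2 = t}))
        ⟨fun b b' e => ?_, fun y => ?_⟩).symm
      · have h1 : (k * (k⁻¹ * gT D a₀ b * k) * k⁻¹) ^ 2 = k * t * k⁻¹ := by
          rw [show k * (k⁻¹ * gT D a₀ b * k) * k⁻¹ = gT D a₀ b by group, ht0, pow_two, gT_mul, D.add_self, D.add_self,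
            zero_add]
        rw [conj_pow] at h1
        exact mul_left_cancel (mul_right_cancel h1)
      · exact (gT_inj D (mul_left_cancel (mul_right_cancel (congrArg Subtype.val e)))).2
      · obtain ⟨a, b, hab⟩ := (hC y.1).1 (hxC _ y.2)
        have h1 : (k * y.1 * k⁻¹) ^ 2 = k * t * k⁻¹ := by rw [conj_pow, y.2]
        rw [hab, ht0, pow_two, gT_mul, D.add_self, D.add_self, zero_add] at h1
        obtain rfl : a = a₀ := (Finite.injective_iff_surjective.2 (squares_surjective D hF)) (gT_inj D h1).2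
        exact ⟨b, Subtype.ext (show k⁻¹ * gT D a b * k = y.1 by rw [← hab]; group)⟩
    set T := fun y : Cfsg.Sz F m =>
      Nat.card {C : OddCls (Cfsg.Sz F m) // Nat.card C.1 = n ∧ y ∈ Subgroup.normalizer (C.1 : Set (Cfsg.Sz F m))}
    have hinv : T x⁻¹ = T x := Nat.card_congr (Equiv.subtypeEquivRight fun C => and_congr_right fun _ => inv_mem_iff)
    have hconj : ∀ g : Cfsg.Sz F m, T (g * x * g⁻¹) = T x := by
      intro g
      refine (Nat.card_congr ((MulAction.toPerm g).subtypeEquiv fun C => ?_)).symm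
      show _ ↔ Nat.card (g • C).1 = n ∧ g * x * g⁻¹ ∈ Subgroup.normalizer ((g • C).1 : Set (Cfsg.Sz F m))
      rw [mem_norm_conj, oddCls_smul, card_map_conj]
    have hinv' : ∀ g : Cfsg.Sz F m, T (g * x⁻¹ * g⁻¹) = T x := by
      intro g
      rw [← hinv]
      refine (Nat.card_congr ((MulAction.toPerm g).subtypeEquiv fun C => ?_)).symm
      show _ ↔ Nat.card (g • C).1 = n ∧ g * x⁻¹ * g⁻¹ ∈ Subgroup.normalizer ((g • C).1 : Set (Cfsg.Sz F m))
      rw [mem_norm_conj, oddCls_smul, card_map_conj]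
    have hall : ∀ y : Cfsg.Sz F m, y ^ 2 = t → T y = T x := by
      intro y hy
      obtain ⟨a, b, hab⟩ := (hC y).1 (hxC _ hy)
      have h1 : (k * y * k⁻¹) ^ 2 = k * t * k⁻¹ := by rw [conj_pow, hy]
      rw [hab, ht0, pow_two, gT_mul, D.add_self, D.add_self, zero_add] at h1
      obtain rfl : a = a₀ := (Finite.injective_iff_surjective.2 (squares_surjective D hF)) (gT_inj D h1).2
      obtain ⟨q, hq⟩ := conj_four D hF ha0 (b + b₀)
      have hg : ∀ b₁, gT D q 0 * gT D a b₁ * (gT D q 0)⁻¹ = gT D a (b₁ + (D.θ q * a + D.θ a * q)) := by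
        intro b₁
        rw [mul_inv_eq_iff_eq_mul, gT_mul, gT_mul, add_comm q a]
        congr 1
        linear_combination (-(D.θ a * q)) * D.two
      have hxi : k * x⁻¹ * k⁻¹ = gT D a (b₀ + D.θ a * a) := by
        rw [← gT_inv, ← hx0]; group
      rcases hq with e | e
      · have : y = (k⁻¹ * gT D q 0 * k) * x * (k⁻¹ * gT D q 0 * k)⁻¹ := by
          calc y = k⁻¹ * (k * y * k⁻¹) * k := by group
            _ = k⁻¹ * (gT D q 0 * (k * x * k⁻¹) * (gT D q 0)⁻¹) * k := by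
              rw [hab, hx0, hg, e]; congr 3; linear_combination (-b₀) * D.two
            _ = _ := by group
        rw [this, hconj]
      · have : y = (k⁻¹ * gT D q 0 * k) * x⁻¹ * (k⁻¹ * gT D q 0 * k)⁻¹ := by
          calc y = k⁻¹ * (k * y * k⁻¹) * k := by group
            _ = k⁻¹ * (gT D q 0 * (k * x⁻¹ * k⁻¹) * (gT D q 0)⁻¹) * k := by
              rw [hab, hxi, hg, e]; congr 3; linear_combination (-b₀ - D.θ a * a) * D.two
            _ = _ := by group
        rw [this, hinv']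
    have hsum : Nat.card {y : Cfsg.Sz F m // y ^ 2 = t} * T x =
        Nat.card {C : OddCls (Cfsg.Sz F m) // Nat.card C.1 = n ∧ t ∈ Subgroup.normalizer (C.1 : Set (Cfsg.Sz F m))} * 2 := by
      have h1 : Nat.card (Σ y : {y : Cfsg.Sz F m // y ^ 2 = t},
          {C : OddCls (Cfsg.Sz F m) // Nat.card C.1 = n ∧ y.1 ∈ Subgroup.normalizer (C.1 : Set (Cfsg.Sz F m))}) =
          Nat.card (Σ C : {C : OddCls (Cfsg.Sz F m) // Nat.card C.1 = n ∧ t ∈ Subgroup.normalizer (C.1 : Set (Cfsg.Sz F m))},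
            {y : Cfsg.Sz F m // y ∈ (Subgroup.centralizer {t} ⊓ Subgroup.normalizer (C.1.1 : Set (Cfsg.Sz F m)) :
              Subgroup (Cfsg.Sz F m)) ∧ y ^ 2 = t}) :=
        Nat.card_congr
          { toFun := fun q => ⟨⟨q.2.1, q.2.2.1, by
              have := pow_mem q.2.2.2 2
              rwa [q.1.2] at this⟩, ⟨q.1.1, ⟨hxC _ q.1.2, q.2.2.2⟩, q.1.2⟩⟩
            invFun := fun q => ⟨⟨q.2.1, q.2.2.2⟩, ⟨q.1.1, q.1.2.1, q.2.2.1.2⟩⟩
            left_inv := fun q => rfl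
            right_inv := fun q => rfl }
      rw [Nat.card_sigma, Nat.card_sigma] at h1
      rw [Finset.sum_congr rfl fun (y : {y : Cfsg.Sz F m // y ^ 2 = t}) _ => hall y.1 y.2,
        Finset.sum_congr rfl fun (C : {C : OddCls (Cfsg.Sz F m) // Nat.card C.1 = n ∧
            t ∈ Subgroup.normalizer (C.1 : Set (Cfsg.Sz F m))}) _ =>
          (cls_point_part hS C.1 ht C.2.2 (Or.inr rfl) (by rw [C.2.1]; exact (cls_l D hF h C.2.1).1)).2 rfl,
        Finset.sum_const, Finset.sum_const, Finset.card_univ, Finset.card_univ, smul_eq_mul, smul_eq_mul,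
        ← Nat.card_eq_fintype_card, ← Nat.card_eq_fintype_card] at h1
      exact h1
    have h2 := type_two D hF h ht
    rw [hroots] at hsum
    show T x * 2 = _
    apply Nat.eq_of_mul_eq_mul_left (Fintype.card_pos : 0 < Fintype.card F)
    rw [← pow_two, ← h2, ← mul_assoc, hsum]
    ring

/-- The solubilizer of an element, as a set. -/
def solSet (x : Cfsg.Sz F m) : Set (Cfsg.Sz F m) :=
  {y | Group.IsSolvable (Subgroup.closure ({x, y} : Set (Cfsg.Sz F m)))}

variable (hp : (2 * m + 1).Prime)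
include hp

theorem sol_two_elt {x t : Cfsg.Sz F m} (ht : orderOf t = 2) (hxt : x = t ∨ x ^ 2 = t) {p : Cfsg.suzukiOvoid F m}
    (htp : t • p = p) :
    Nat.card (solSet x) = Fintype.card F ^ 2 * (Fintype.card F - 1) +
      Nat.card {y : Cfsg.Sz F m // y • p ≠ p ∧
        ∃ C : OddCls (Cfsg.Sz F m), x ∈ Subgroup.normalizer (C.1 : Set (Cfsg.Sz F m)) ∧
          y ∈ Subgroup.normalizer (C.1 : Set (Cfsg.Sz F m))} := by
  classical
  obtain ⟨a, hxa, hu⟩ := oneFix_of_order_two D hF ht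
  have hx : x ≠ 1 := by
    rintro rfl
    rcases hxt with e | e
    · exact (orderOf_two_iff.1 ht).1 e.symm
    · rw [one_pow] at e; exact (orderOf_two_iff.1 ht).1 e.symm
  have hxp : x • p = p := by
    rcases hxt with e | e
    · rw [e]; exact htp
    · refine (hu _ ?_).trans (hu _ htp).symm
      exact smul_fix_of_commute (show Commute x t by rw [← e]; exact Commute.self_pow x 2) htp
  have huniq : ∀ q, x • q = q → q = p := by
    intro q hq
    refine (hu _ ?_).trans (hu _ htp).symm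
    rcases hxt with e | e
    · rw [← e]; exact hq
    · rw [← e, pow_two, mul_smul, hq, hq]
  have hset : solSet x = {y : Cfsg.Sz F m | y • p = p} ∪ {y : Cfsg.Sz F m | y • p ≠ p ∧
      ∃ C : OddCls (Cfsg.Sz F m), x ∈ Subgroup.normalizer (C.1 : Set (Cfsg.Sz F m)) ∧
        y ∈ Subgroup.normalizer (C.1 : Set (Cfsg.Sz F m))} := by
    ext y
    show Group.IsSolvable _ ↔ _
    rw [solvable_pair_iff D hF hp hx]
    constructor
    · rintro (⟨q, hxq, hyq⟩ | h)
      · exact Or.inl (show y • p = p from huniq q hxq ▸ hyq)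
      · by_cases hyp : y • p = p
        exacts [Or.inl hyp, Or.inr ⟨hyp, h⟩]
    · rintro (h | ⟨-, h⟩)
      exacts [Or.inl ⟨p, hxp, h⟩, Or.inr h]
  rw [hset]
  show Set.ncard _ = _
  rw [Set.ncard_union_eq (Set.disjoint_left.2 fun y h1 h2 => h2.1 h1) (Set.toFinite _) (Set.toFinite _)]
  congr 1
  exact (card_stab_point D hF p)

theorem card_sol_invol {t : Cfsg.Sz F m} (ht : orderOf t = 2) :
    Nat.card (solSet t) = Fintype.card F ^ 2 * (4 * Fintype.card F - 3) := by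
  obtain ⟨p, htp, -⟩ := oneFix_of_order_two D hF ht
  set T : ℕ → ℕ := fun n =>
    Nat.card {C : OddCls (Cfsg.Sz F m) // Nat.card C.1 = n ∧ t ∈ Subgroup.normalizer (C.1 : Set (Cfsg.Sz F m))}
  rw [sol_two_elt D hF hp ht (Or.inl rfl) htp, card_off D hF ht htp (Or.inl rfl) T fun n l _ => rfl]
  have e1 : T (Fintype.card F - 1) * 2 = Fintype.card F ^ 2 := type_two D hF (Or.inl ⟨rfl, rfl⟩) ht
  have e2 : T (Fintype.card F + 2 ^ (m + 1) + 1) * 4 = Fintype.card F ^ 2 :=
    type_two D hF (Or.inr (Or.inl ⟨rfl, rfl⟩)) ht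
  have e3 : T (Fintype.card F - 2 ^ (m + 1) + 1) * 4 = Fintype.card F ^ 2 :=
    type_two D hF (Or.inr (Or.inr ⟨rfl, rfl⟩)) ht
  rw [← mul_assoc, e1, ← mul_assoc, e2, ← mul_assoc, e3, ← mul_add, ← mul_add, ← mul_add]
  congr 1
  have := D.card_big hF
  have := Nat.one_le_two_pow (n := m)
  omega

theorem card_sol_four {x : Cfsg.Sz F m} (hx : orderOf x = 4) :
    Nat.card (solSet x) = Fintype.card F ^ 2 * (Fintype.card F + 3) := by
  have ht : orderOf (x ^ 2) = 2 := by rw [orderOf_pow' x two_ne_zero, hx]; norm_num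
  obtain ⟨p, htp, -⟩ := oneFix_of_order_two D hF ht
  set T : ℕ → ℕ := fun n =>
    Nat.card {C : OddCls (Cfsg.Sz F m) // Nat.card C.1 = n ∧ x ∈ Subgroup.normalizer (C.1 : Set (Cfsg.Sz F m))}
  rw [sol_two_elt D hF hp ht (Or.inr rfl) htp, card_off D hF ht htp (Or.inr rfl) T fun n l _ => rfl]
  have e1 : T (Fintype.card F - 1) * 2 = 0 := by
    have := type_four D hF (n := Fintype.card F - 1) (l := 2) (Or.inl ⟨rfl, rfl⟩) ht rfl
    rwa [if_neg (by norm_num)] at this
  have e2 : T (Fintype.card F + 2 ^ (m + 1) + 1) * 2 = Fintype.card F := by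
    have := type_four D hF (n := Fintype.card F + 2 ^ (m + 1) + 1) (l := 4) (Or.inr (Or.inl ⟨rfl, rfl⟩)) ht rfl
    rwa [if_pos rfl] at this
  have e3 : T (Fintype.card F - 2 ^ (m + 1) + 1) * 2 = Fintype.card F := by
    have := type_four D hF (n := Fintype.card F - 2 ^ (m + 1) + 1) (l := 4) (Or.inr (Or.inr ⟨rfl, rfl⟩)) ht rfl
    rwa [if_pos rfl] at this
  rw [← mul_assoc, e1, zero_mul, zero_add, ← mul_assoc, ← mul_assoc,
    show (4 : ℕ) = 2 * 2 by norm_num, ← mul_assoc, e2, ← mul_assoc, e3, mul_assoc, mul_assoc]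
  have h1 := D.card_big hF
  rw [Nat.add_sub_cancel, Nat.add_sub_cancel]
  have h2 : 2 * (Fintype.card F + 2 ^ (m + 1)) + 2 * (Fintype.card F - 2 ^ (m + 1)) = 4 * Fintype.card F := by omega
  rw [← mul_add, h2]
  obtain ⟨q', hq'⟩ : ∃ q', Fintype.card F = q' + 1 := ⟨Fintype.card F - 1, by have := Fintype.card_pos (α := F); omega⟩
  rw [hq', Nat.add_sub_cancel]
  ring

theorem card_sol_split {x : Cfsg.Sz F m} (hx1 : x ≠ 1) (hx : orderOf x ∣ Fintype.card F - 1) :
    Nat.card (solSet x) = 2 * Fintype.card F ^ 2 * (Fintype.card F - 1) := by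
  classical
  obtain ⟨c1, c2, c3, -⟩ := coprime_facts D hF
  rcases fix_trichotomy x with h0 | h1 | ⟨a, b, hab, ha, hb⟩
  · exfalso
    obtain ⟨U, hU, hxU⟩ := exists_torus_mem D hF hx1 h0
    exact hx1 (orderOf_eq_one_iff.1 (Nat.Coprime.eq_one_of_dvd (c1.coprime_dvd_left hx)
      ((Subgroup.orderOf_dvd_natCard U hxU).trans (hU.card_dvd D hF))))
  · exfalso
    exact hx1 (orderOf_eq_one_iff.1 (Nat.Coprime.eq_one_of_dvd ((c3.symm).coprime_dvd_left hx)
      (orderOf_dvd_of_pow_eq_one (pow_four_of_oneFix D hF h1))))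
  have hS := szLike D hF
  have ho : Odd (orderOf x) := odd_orderOf_of_twoFix D hF ⟨a, b, hab, ha, hb⟩
  obtain ⟨hiff, hN, hsw⟩ := card_norm_pair D hF hab
  have hset : solSet x = ({y : Cfsg.Sz F m | y • a = a} ∪ {y : Cfsg.Sz F m | y • b = b}) ∪
      {y : Cfsg.Sz F m | y • a = b ∧ y • b = a} := by
    ext y
    show Group.IsSolvable _ ↔ _
    rw [solvable_pair_iff D hF hp hx1]
    constructor
    · rintro (⟨q, hxq, hyq⟩ | ⟨C, hxC, hyC⟩)
      · rcases eq_pair_or D hF hx1 hab ha hb hxq with rfl | rfl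
        exacts [Or.inl (Or.inl hyq), Or.inl (Or.inr hyq)]
      · have hxC' := cls_odd_mem hS C hxC ho
        have e := (hS.mem_cls hxC' hx1).2
        rw [centralizer_twoFix D hF hx1 hab ha hb] at e
        rw [← e, hiff] at hyC
        rcases hyC with ⟨e1, -⟩ | h
        exacts [Or.inl (Or.inl e1), Or.inr h]
    · rintro ((h | h) | h)
      · exact Or.inl ⟨a, ha, h⟩
      · exact Or.inl ⟨b, hb, h⟩
      · obtain ⟨C, hC⟩ := cls_of_local D hF (Or.inl ⟨a, b, hab, rfl⟩)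
        exact Or.inr ⟨C, by rw [hC, hiff]; exact Or.inl ⟨ha, hb⟩, by rw [hC, hiff]; exact Or.inr h⟩
  rw [hset]
  show Set.ncard _ = _
  have hd : Disjoint ({y : Cfsg.Sz F m | y • a = a} ∪ {y : Cfsg.Sz F m | y • b = b})
      {y : Cfsg.Sz F m | y • a = b ∧ y • b = a} := by
    rw [Set.disjoint_left]
    rintro y (h | h) ⟨e1, e2⟩
    · exact hab (h.symm.trans e1)
    · exact hab (e2.symm.trans h)
  rw [Set.ncard_union_eq hd (Set.toFinite _) (Set.toFinite _),
    show Set.ncard {y : Cfsg.Sz F m | y • a = b ∧ y • b = a} = Fintype.card F - 1 from hsw]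
  have h1 := Set.ncard_union_add_ncard_inter {y : Cfsg.Sz F m | y • a = a} {y : Cfsg.Sz F m | y • b = b}
    (Set.toFinite _) (Set.toFinite _)
  have e3 : ({y : Cfsg.Sz F m | y • a = a} ∩ {y : Cfsg.Sz F m | y • b = b}).ncard = Fintype.card F - 1 := by
    rw [← card_pairStab D hF hab]
    exact Nat.card_congr (Equiv.subtypeEquivRight fun y => mem_pairStab.symm)
  rw [e3, show Set.ncard {y : Cfsg.Sz F m | y • a = a} = _ from card_stab_point D hF a,
    show Set.ncard {y : Cfsg.Sz F m | y • b = b} = _ from card_stab_point D hF b] at h1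
  rw [h1]; ring

theorem card_sol_torus {x : Cfsg.Sz F m} (hx1 : x ≠ 1) {k : ℕ}
    (hk : k = Fintype.card F + 2 ^ (m + 1) + 1 ∨ k = Fintype.card F - 2 ^ (m + 1) + 1) (hx : orderOf x ∣ k) :
    Nat.card (solSet x) = 4 * k := by
  classical
  obtain ⟨c1, c2, c3, c4⟩ := coprime_facts D hF
  have hS := szLike D hF
  have hkd : k ∣ Fintype.card F ^ 2 + 1 := by
    obtain ⟨U, hU, hUc, -⟩ := exists_tori D hF k hk
    exact hUc ▸ hU.card_dvd D hF
  rcases fix_trichotomy x with h0 | h1 | h2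
  · obtain ⟨U, hU, hxU⟩ := exists_torus_mem D hF hx1 h0
    have hUk : Nat.card U = k := by
      have hd := Subgroup.orderOf_dvd_natCard U hxU
      by_contra hne
      refine hx1 (orderOf_eq_one_iff.1 ?_)
      rcases torus_card D hF hU with e | e <;> rcases hk with e' | e' <;> rw [e] at hd hne <;> rw [e'] at hx hne
      · exact absurd rfl hne
      · exact Nat.Coprime.eq_one_of_dvd (c4.coprime_dvd_left hd) hx
      · exact Nat.Coprime.eq_one_of_dvd (c4.coprime_dvd_left hx) hd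
      · exact absurd rfl hne
    obtain ⟨C, hC⟩ := cls_of_local D hF (Or.inr hU)
    have hset : solSet x = ((Subgroup.normalizer (C.1 : Set (Cfsg.Sz F m)) : Subgroup (Cfsg.Sz F m)) : Set (Cfsg.Sz F m)) := by
      ext y
      show Group.IsSolvable _ ↔ _
      rw [solvable_pair_iff D hF hp hx1]
      constructor
      · rintro (⟨q, hxq, -⟩ | ⟨C', hxC, hyC⟩)
        · exact absurd hxq (h0 q)
        · have ho : Odd (orderOf x) := odd_orderOf_of_fpf D hF h0
          have e := (hS.mem_cls (cls_odd_mem hS C' hxC ho) hx1).2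
          rw [hU.centralizer_eq D hF hxU hx1] at e
          rwa [Subtype.ext (hC.trans e) (a1 := C) (a2 := C')]
      · exact fun h => Or.inr ⟨C, Subgroup.le_normalizer (hC.symm ▸ hxU), h⟩
    rw [hset]
    obtain ⟨l, hl, e⟩ := cls_type D hF C
    rw [hC, hUk] at hl
    have hl4 : l = 4 := by
      obtain ⟨s1, s2, -⟩ := sizes_ne D hF
      rcases hl with ⟨e1, -⟩ | ⟨-, e1⟩ | ⟨-, e1⟩
      · rcases hk with e2 | e2 <;> omega
      all_goals exact e1
    show Nat.card (Subgroup.normalizer (C.1 : Set (Cfsg.Sz F m))) = _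
    rw [e, hl4, hC, hUk]
  · exfalso
    exact hx1 (orderOf_eq_one_iff.1 (Nat.Coprime.eq_one_of_dvd (c2.symm.coprime_dvd_left (hx.trans hkd))
      (orderOf_dvd_of_pow_eq_one (pow_four_of_oneFix D hF h1))))
  · exfalso
    exact hx1 (orderOf_eq_one_iff.1 (Nat.Coprime.eq_one_of_dvd (c1.symm.coprime_dvd_left (hx.trans hkd))
      (orderOf_dvd_of_pow_eq_one (pow_card_sub_one_of_twoFix D hF h2))))

end Cfsg.Agent.Suzuki
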