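/-
Binary actions of a Suzuki group.
-/
import Cfsg.Agent.Lib.Suzuki.SolubCount

set_option autoImplicit false

namespace Cfsg.Agent.Suzuki

/-- Relational complexity two of the action on the cosets. -/
def BinaryAct {G : Type*} [Group G] (H : Subgroup G) : Prop :=
  ∀ (n : ℕ) (I J : Fin n → G ⧸ H), 2 ≤ n →
    (∀ i j : Fin n, i ≠ j → ∃ g : G, g • I i = J i ∧ g • I j = J j) → ∃ g : G, ∀ i, g • I i = J i

/-- The intersection of the conjugates of `H` containing `c`. -/
def capConj {G : Type*} [Group G] (H : Subgroup G) (c : G) : Subgroup G where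
  carrier := {y | ∀ g : G, g⁻¹ * c * g ∈ H → g⁻¹ * y * g ∈ H}
  one_mem' := fun g _ => by simp
  mul_mem' := fun {y z} hy hz g hg => by
    rw [show g⁻¹ * (y * z) * g = g⁻¹ * y * g * (g⁻¹ * z * g) by group]
    exact mul_mem (hy g hg) (hz g hg)
  inv_mem' := fun {y} hy g hg => by
    rw [show g⁻¹ * y⁻¹ * g = (g⁻¹ * y * g)⁻¹ by group]
    exact inv_mem (hy g hg)

section Abstract

variable {G : Type*} [Group G]

theorem self_mem_capConj (H : Subgroup G) (c : G) : c ∈ capConj H c := fun _ h => h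

theorem fix_coset_iff (H : Subgroup G) (y g : G) :
    y • (g : G ⧸ H) = (g : G ⧸ H) ↔ g⁻¹ * y * g ∈ H := by
  rw [MulAction.Quotient.smul_coe, smul_eq_mul, eq_comm, QuotientGroup.eq, ← mul_assoc]

/-- A product relation in three intersections without a common point destroys binarity. -/
theorem not_binary [Finite G] {H : Subgroup G} {a b c : G} (habc : a = b * c)
    (ha : ∃ g, g⁻¹ * a * g ∈ H) (hb : ∃ g, g⁻¹ * b * g ∈ H)
    (hno : ∀ g, g ∈ capConj H a → g ∈ capConj H b → g⁻¹ * a ∈ capConj H c → False) : ¬ BinaryAct H := by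
  classical
  intro hbin
  set S₀ := {g : G // g⁻¹ * a * g ∈ H}
  set S₁ := {g : G // g⁻¹ * b * g ∈ H}
  set S₂ := {g : G // g⁻¹ * c * g ∈ H}
  haveI : Fintype (S₀ ⊕ S₁ ⊕ S₂) := Fintype.ofFinite _
  let I' : S₀ ⊕ S₁ ⊕ S₂ → G ⧸ H := Sum.elim (fun g => (g.1 : G ⧸ H)) (Sum.elim (fun g => (g.1 : G ⧸ H)) fun g => (g.1 : G ⧸ H))
  let J' : S₀ ⊕ S₁ ⊕ S₂ → G ⧸ H :=
    Sum.elim (fun g => (g.1 : G ⧸ H)) (Sum.elim (fun g => (g.1 : G ⧸ H)) fun g => a • (g.1 : G ⧸ H))
  let e := (Fintype.equivFin (S₀ ⊕ S₁ ⊕ S₂)).symm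
  obtain ⟨g₀, hg₀⟩ := ha
  obtain ⟨g₁, hg₁⟩ := hb
  have hn : 2 ≤ Fintype.card (S₀ ⊕ S₁ ⊕ S₂) :=
    Fintype.one_lt_card_iff.2 ⟨Sum.inl ⟨g₀, hg₀⟩, Sum.inr (Sum.inl ⟨g₁, hg₁⟩), by simp⟩
  have hpair : ∀ u v : S₀ ⊕ S₁ ⊕ S₂, ∃ g : G, g • I' u = J' u ∧ g • I' v = J' v := by
    have h02 : ∀ (u : S₀) (v : S₂), ∃ g : G, g • (u.1 : G ⧸ H) = (u.1 : G ⧸ H) ∧ g • (v.1 : G ⧸ H) = a • (v.1 : G ⧸ H) :=
      fun u v => ⟨a, (fix_coset_iff H a u.1).2 u.2, rfl⟩
    have h12 : ∀ (u : S₁) (v : S₂), ∃ g : G, g • (u.1 : G ⧸ H) = (u.1 : G ⧸ H) ∧ g • (v.1 : G ⧸ H) = a • (v.1 : G ⧸ H) :=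
      fun u v => ⟨b, (fix_coset_iff H b u.1).2 u.2, by rw [habc, mul_smul, (fix_coset_iff H c v.1).2 v.2]⟩
    rintro (u | u | u) (v | v | v)
    · exact ⟨1, one_smul _ _, one_smul _ _⟩
    · exact ⟨1, one_smul _ _, one_smul _ _⟩
    · exact h02 u v
    · exact ⟨1, one_smul _ _, one_smul _ _⟩
    · exact ⟨1, one_smul _ _, one_smul _ _⟩
    · exact h12 u v
    · obtain ⟨g, e1, e2⟩ := h02 v u; exact ⟨g, e2, e1⟩
    · obtain ⟨g, e1, e2⟩ := h12 v u; exact ⟨g, e2, e1⟩
    · exact ⟨a, rfl, rfl⟩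
  obtain ⟨g, hg⟩ := hbin _ (I' ∘ e) (J' ∘ e) hn fun i j _ => hpair (e i) (e j)
  have hall : ∀ u, g • I' u = J' u := fun u => by simpa using hg (e.symm u)
  refine hno g (fun x hx => (fix_coset_iff H g x).1 (hall (Sum.inl ⟨x, hx⟩)))
    (fun x hx => (fix_coset_iff H g x).1 (hall (Sum.inr (Sum.inl ⟨x, hx⟩)))) fun x hx => ?_
  have h : g • (x : G ⧸ H) = a • (x : G ⧸ H) := hall (Sum.inr (Sum.inr ⟨x, hx⟩))
  rw [← fix_coset_iff, mul_smul, ← h, inv_smul_smul]

theorem binary_of_equiv {G' : Type*} [Group G'] (e : G ≃* G') (H : Subgroup G) (H' : Subgroup G')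
    (h : ∀ g, g ∈ H ↔ e g ∈ H') (hb : BinaryAct H) : BinaryAct H' := by
  let φ : G ⧸ H ≃ G' ⧸ H' := Quotient.congr e.toEquiv fun a b => by
    show QuotientGroup.leftRel H a b ↔ QuotientGroup.leftRel H' (e a) (e b)
    rw [QuotientGroup.leftRel_apply, QuotientGroup.leftRel_apply, h, map_mul, map_inv]
  have hφ : ∀ (g : G) (x : G ⧸ H), φ (g • x) = e g • φ x := by
    intro g x
    induction x using QuotientGroup.induction_on with
    | H x =>
      show ((e (g * x) : G') : G' ⧸ H') = e g • ((e x : G') : G' ⧸ H')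
      rw [map_mul, MulAction.Quotient.smul_coe, smul_eq_mul]
  intro n I J hn hp
  obtain ⟨g, hg⟩ := hb n (φ.symm ∘ I) (φ.symm ∘ J) hn fun i j hij => by
    obtain ⟨g', h1, h2⟩ := hp i j hij
    refine ⟨e.symm g', ?_, ?_⟩ <;> apply φ.injective <;>
      simp only [Function.comp_apply, hφ, Equiv.apply_symm_apply, MulEquiv.apply_symm_apply]
    exacts [h1, h2]
  exact ⟨e g, fun i => by
    have := congrArg φ (hg i)
    rwa [hφ, Function.comp_apply, Equiv.apply_symm_apply, Function.comp_apply, Equiv.apply_symm_apply] at this⟩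

theorem binary_bot : BinaryAct (⊥ : Subgroup G) := by
  intro n I J hn h
  obtain ⟨g, hg, -⟩ := h ⟨0, by omega⟩ ⟨1, by omega⟩ (by simp)
  refine ⟨g, fun i => ?_⟩
  by_cases hi : (⟨0, by omega⟩ : Fin n) = i
  · subst hi; exact hg
  obtain ⟨g', h0, hi'⟩ := h _ i hi
  have : g = g' := by
    obtain ⟨r, hr⟩ := QuotientGroup.mk_surjective (I ⟨0, by omega⟩)
    have h1 : (g⁻¹ * g') • I ⟨0, by omega⟩ = I ⟨0, by omega⟩ := by rw [mul_smul, h0, ← hg, inv_smul_smul]
    rw [← hr, fix_coset_iff, Subgroup.mem_bot] at h1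
    have h2 : g⁻¹ * g' = 1 := by
      have h3 := congrArg (fun v => r * v * r⁻¹) h1
      simpa [mul_assoc] using h3
    exact inv_mul_eq_one.1 h2
  rw [this]; exact hi'

end Abstract

variable {F : Type*} [Field F] [Fintype F] {m : ℕ} (D : Dat F m) (hF : Fintype.card F = 2 ^ (2 * m + 1))
include D hF

theorem invol_gT {c : F} (hc : c ≠ 0) : orderOf (gT D 0 c) = 2 := by
  rw [orderOf_two_iff]
  refine ⟨fun e => hc (gT_inj D (e.trans (gT_zero D).symm)).2, ?_⟩
  rw [pow_two, gT_mul]; simp [D.add_self, gT_zero]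

theorem gw_conj_gw (g : Cfsg.Sz F m) : gw D * (gw D * g * gw D) * gw D = g := by
  rw [← mul_assoc, ← mul_assoc, gw_sq, one_mul, mul_assoc, gw_sq, mul_one]

theorem gw_inv : (gw D)⁻¹ = gw D := inv_eq_of_mul_eq_one_right (gw_sq D)

theorem gw_oP0 : gw D • oP D 0 0 = oI D := by rw [← gw_oI, ← mul_smul, gw_sq, one_smul]

/-- An element fixing infinity scales the centre. -/
theorem fix_inf_scale {g : Cfsg.Sz F m} (hg : g • oI D = oI D) :
    ∃ u : Fˣ, ∀ c : F, g * gT D 0 c * g⁻¹ = gT D 0 ((kap D u : F) * c) := by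
  obtain ⟨a, b, u, rfl⟩ := gfix_inf D hF hg
  refine ⟨u, fun c => ?_⟩
  have h1 := gH_scale D u 0 c
  rw [mul_zero] at h1
  rw [mul_inv_rev, show gT D a b * gH D u * gT D 0 c * ((gH D u)⁻¹ * (gT D a b)⁻¹) =
    gT D a b * (gH D u * gT D 0 c * (gH D u)⁻¹) * (gT D a b)⁻¹ by group, h1, mul_inv_eq_iff_eq_mul]
  exact (commute_central D hF ⟨gT D a b, a, b, rfl⟩).eq.symm

theorem exists_scale (l : F) (hl : l ≠ 0) : ∃ v : Fˣ, (kap D v : F) = l := by
  obtain ⟨v, hv⟩ := (Finite.injective_iff_surjective.1 (kap_inj D hF)) (Units.mk0 l hl)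
  exact ⟨v, by rw [hv]; rfl⟩

/-- Conjugation by a torus element scales a pair of involutions at the base points. -/
theorem scale_pair (v : Fˣ) (b c : F) :
    gH D v * gT D 0 ((kap D v : F)⁻¹ * b) * (gH D v)⁻¹ = gT D 0 b ∧
      gH D v * (gw D * gT D 0 ((kap D v : F) * c) * gw D) * (gH D v)⁻¹ = gw D * gT D 0 c * gw D := by
  constructor
  · rw [gH_scale, mul_zero, ← mul_assoc, mul_inv_cancel₀ (Units.ne_zero _), one_mul]
  · have h1 : gH D v * gw D = gw D * gH D v⁻¹ := by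
      calc gH D v * gw D = (gw D * gw D) * (gH D v * gw D) := by rw [gw_sq, one_mul]
        _ = gw D * (gw D * gH D v * gw D) := by group
        _ = _ := by rw [gw_gH]
    have h2 : gw D * (gH D v)⁻¹ = gH D v⁻¹⁻¹ * gw D := by
      rw [gH_inv, inv_inv]
      calc gw D * gH D v⁻¹ = gw D * (gw D * gH D v * gw D) := by rw [gw_gH]
        _ = (gw D * gw D) * gH D v * gw D := by group
        _ = _ := by rw [gw_sq, one_mul]
    calc gH D v * (gw D * gT D 0 ((kap D v : F) * c) * gw D) * (gH D v)⁻¹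
        = (gH D v * gw D) * gT D 0 ((kap D v : F) * c) * (gw D * (gH D v)⁻¹) := by group
      _ = gw D * (gH D v⁻¹ * gT D 0 ((kap D v : F) * c) * (gH D v⁻¹)⁻¹) * gw D := by
          rw [h1, h2, gH_inv D v⁻¹]; group
      _ = gw D * gT D 0 c * gw D := by
          rw [gH_scale, mul_zero, ← mul_assoc, ← Units.val_mul, ← kap_mul, inv_mul_cancel,
            show ((kap D 1 : Fˣ) : F) = 1 by simp [kap], one_mul]

/-- Pairs of involutions with one product are conjugate. -/
theorem pair_conj {b c b' c' : F} (hb : b ≠ 0) (hb' : b' ≠ 0) (h : b * c = b' * c') :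
    ∃ g : Cfsg.Sz F m, g * gT D 0 b * g⁻¹ = gT D 0 b' ∧
      g * (gw D * gT D 0 c * gw D) * g⁻¹ = gw D * gT D 0 c' * gw D := by
  obtain ⟨v, hv⟩ := exists_scale D hF (b' / b) (div_ne_zero hb' hb)
  refine ⟨gH D v, ?_, ?_⟩
  · have := (scale_pair D hF v b' c').1
    rwa [hv, inv_div, div_mul_cancel₀ b hb'] at this
  · have := (scale_pair D hF v b' c').2
    rwa [hv, show b' / b * c' = c by field_simp; linear_combination (-1 : F) * h] at this

/-- Two involutions with different points can be moved to the base points. -/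
theorem pair_normal {i j : Cfsg.Sz F m} (hi : orderOf i = 2) (hj : orderOf j = 2) {p p' : Cfsg.suzukiOvoid F m}
    (hip : i • p = p) (hjp : j • p' = p') (hne : p ≠ p') :
    ∃ (k : Cfsg.Sz F m) (b c : F), b ≠ 0 ∧ c ≠ 0 ∧ k * i * k⁻¹ = gT D 0 b ∧ k * j * k⁻¹ = gw D * gT D 0 c * gw D := by
  obtain ⟨k, hk, hk'⟩ := exists_conj_pair D hne
  have key : ∀ (t g : Cfsg.Sz F m) (q : Cfsg.suzukiOvoid F m), orderOf t = 2 → t • q = q → g • q = oI D →
      ∃ b : F, b ≠ 0 ∧ g * t * g⁻¹ = gT D 0 b := by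
    intro t g q ht htq hgq
    obtain ⟨a, b, hab⟩ := (centralizer_invol' D hF ht htq hgq t).1 (self_mem_centralizer t)
    have h2 : (g * t * g⁻¹) ^ 2 = 1 := by rw [conj_pow, (orderOf_two_iff.1 ht).2, mul_one, mul_inv_cancel]
    rw [hab, pow_two, gT_mul, ← gT_zero D, D.add_self, D.add_self, zero_add] at h2
    obtain rfl := (square_zero_iff D hF).1 (gT_inj D h2).2
    exact ⟨b, fun e => (orderOf_two_iff.1 ht).1 (conj_eq_one_iff.1 (by rw [hab, e, gT_zero])), hab⟩
  obtain ⟨b, hb, eb⟩ := key i k p hi hip hk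
  obtain ⟨c, hc, ec⟩ := key j (gw D * k) p' hj hjp (by rw [mul_smul, hk', gw_oP0 D hF])
  refine ⟨k, b, c, hb, hc, eb, ?_⟩
  rw [← ec, mul_inv_rev, gw_inv D hF, ← gw_conj_gw D hF (k * j * k⁻¹)]
  group

/-- Triangles of involutions with all three products conjugate and no common normaliser. -/
theorem exists_triangle {i j : Cfsg.Sz F m} (hi : orderOf i = 2) (hj : orderOf j = 2) (hij1 : i * j ≠ 1)
    (hij : Odd (orderOf (i * j))) :
    ∃ k : Cfsg.Sz F m, orderOf k = 2 ∧ (∃ g, g * (i * j) * g⁻¹ = i * k) ∧ (∃ g, g * (i * j) * g⁻¹ = j * k) ∧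
      k ∉ Subgroup.normalizer ((Subgroup.centralizer {i * j} : Subgroup (Cfsg.Sz F m)) : Set (Cfsg.Sz F m)) := by
  classical
  haveI := D.char2
  have hS := szLike D hF
  obtain ⟨p, hip, -⟩ := oneFix_of_order_two D hF hi
  obtain ⟨p', hjp, -⟩ := oneFix_of_order_two D hF hj
  have hne : p ≠ p' := by
    rintro rfl
    have hmem : j ∈ Subgroup.centralizer {i} := by
      obtain ⟨k, hk⟩ := transitive D p
      have hkp : k⁻¹ • p = oI D := by rw [← hk, inv_smul_smul]
      rw [centralizer_invol' D hF hi hip hkp, ← centralizer_invol' D hF hj hjp hkp]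
      exact self_mem_centralizer j
    have h2 : (i * j) ^ 2 = 1 := by
      rw [(mem_centralizer_one.1 hmem).symm.mul_pow, (orderOf_two_iff.1 hi).2, (orderOf_two_iff.1 hj).2, one_mul]
    exact hij1 (orderOf_eq_one_iff.1 (Nat.Coprime.eq_one_of_dvd (Nat.coprime_two_right.2 hij)
      (orderOf_dvd_of_pow_eq_one h2)))
  obtain ⟨k₀, b, c, hb, hc, hki, hkj⟩ := pair_normal D hF hi hj hip hjp hne
  -- a triangle for each orbit of the torus
  have hY : ∀ Y : F, ∃ (v : Fˣ) (k : Cfsg.Sz F m), orderOf k = 2 ∧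
      k • (gH D v • oP D 1 Y) = gH D v • oP D 1 Y ∧
      (∃ g, g * (gT D 0 b * (gw D * gT D 0 c * gw D)) * g⁻¹ = gT D 0 b * k) ∧
      (∃ g, g * (gT D 0 b * (gw D * gT D 0 c * gw D)) * g⁻¹ = gw D * gT D 0 c * gw D * k) := by
    intro Y
    set τ := gT D 1 Y with hτ
    have hτ0 : τ • oP D 0 0 = oP D 1 Y := by rw [hτ, gT_oP]; simp
    obtain ⟨g, hg0, hgp⟩ := exists_conj_pair D (a := oP D 0 0) (b := oP D 1 Y) (fun e =>
      one_ne_zero (pP_inj D (congrArg Subtype.val e)).1.symm)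
    obtain ⟨u, hu⟩ := fix_inf_scale D hF (g := g * gw D) (by rw [mul_smul, gw_oI, hg0])
    obtain ⟨u', hu'⟩ := fix_inf_scale D hF (g := gw D * (g * τ) * gw D)
      (by rw [mul_smul, gw_oI, mul_smul, mul_smul, hτ0, hgp, gw_oP0 D hF])
    obtain ⟨l, hl⟩ := (Finite.injective_iff_surjective.1 fun x y e => D.sq_inj e :
      Function.Surjective fun x : F => x ^ 2) ((kap D u : F) * (kap D u' : F) * c / b)
    simp only at hl
    have hl0 : l ≠ 0 := fun e => by
      rw [e, zero_pow two_ne_zero] at hl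
      exact div_ne_zero (mul_ne_zero (mul_ne_zero (Units.ne_zero _) (Units.ne_zero _)) hc) hb hl.symm
    obtain ⟨v, hv⟩ := exists_scale D hF l⁻¹ (inv_ne_zero hl0)
    set c' := l⁻¹ * c with hc'
    set b' := l * b with hb'
    have e1 : gH D v * gT D 0 b' * (gH D v)⁻¹ = gT D 0 b := by
      have := (scale_pair D hF v b c).1
      rwa [hv, inv_inv] at this
    have e2 : gH D v * (gw D * gT D 0 c' * gw D) * (gH D v)⁻¹ = gw D * gT D 0 c * gw D := by
      have := (scale_pair D hF v b c).2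
      rwa [hv] at this
    set k₁ := τ * (gw D * gT D 0 c' * gw D) * τ⁻¹ with hk₁
    have hk₁2 : orderOf k₁ = 2 := by
      rw [hk₁, show τ * (gw D * gT D 0 c' * gw D) * τ⁻¹ = MulAut.conj τ (MulAut.conj (gw D) (gT D 0 c')) by
        simp [gw_inv D hF], MulEquiv.orderOf_eq, MulEquiv.orderOf_eq]
      exact invol_gT D hF (mul_ne_zero (inv_ne_zero hl0) hc)
    refine ⟨v, gH D v * k₁ * (gH D v)⁻¹, ?_, ?_, ?_, ?_⟩
    · rw [show gH D v * k₁ * (gH D v)⁻¹ = MulAut.conj (gH D v) k₁ from rfl, MulEquiv.orderOf_eq, hk₁2]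
    · refine (conj_fix (gH D v) k₁).2 ?_
      rw [hk₁, ← hτ0]
      refine (conj_fix τ _).2 ?_
      rw [mul_smul, mul_smul, gw_oP0 D hF, gT_oI, gw_oI]
    · -- the first pair
      have ei : τ * gT D 0 b' * τ⁻¹ = gT D 0 b' :=
        mul_inv_eq_iff_eq_mul.2 (commute_central D hF ⟨τ, 1, Y, rfl⟩).eq.symm
      refine ⟨gH D v * τ * (gH D v)⁻¹, ?_⟩
      rw [← e1, ← e2]
      conv_rhs => rw [← ei, hk₁]
      group
    · -- the second pair
      set J' := gw D * gT D 0 c' * gw D with hJ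
      have f1 : g * J' * g⁻¹ = gT D 0 ((kap D u : F) * c') := by
        rw [← hu, mul_inv_rev, gw_inv D hF, hJ]; group
      have f2 : g * k₁ * g⁻¹ = gw D * gT D 0 ((kap D u' : F) * c') * gw D := by
        rw [← gw_conj_gw D hF (g * k₁ * g⁻¹), ← hu', hk₁, hJ, mul_inv_rev, mul_inv_rev, mul_inv_rev, gw_inv D hF]
        group
      have hprod : b' * c' = (kap D u : F) * c' * ((kap D u' : F) * c') := by
        rw [hb', hc']
        field_simp
        field_simp at hl
        linear_combination hl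
      obtain ⟨r, hr1, hr2⟩ := pair_conj D hF (mul_ne_zero hl0 hb)
        (mul_ne_zero (Units.ne_zero _) (mul_ne_zero (inv_ne_zero hl0) hc)) hprod
      rw [← f1] at hr1
      rw [← f2] at hr2
      refine ⟨gH D v * g⁻¹ * r * (gH D v)⁻¹, ?_⟩
      rw [← e1, ← e2]
      have k1 : g⁻¹ * (r * gT D 0 b' * r⁻¹) * g = J' := by rw [hr1]; group
      have k2 : g⁻¹ * (r * J' * r⁻¹) * g = k₁ := by rw [hr2]; group
      conv_rhs => rw [← k2]
      conv_rhs => arg 1; arg 1; rw [← k1]
      group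
  choose v k hk2 hkp hk1' hk2' using hY
  -- distinct orbits give distinct third involutions
  have hinj : Function.Injective k := by
    intro Y Y' e
    obtain ⟨a, -, hu⟩ := oneFix_of_order_two D hF (hk2 Y)
    have h := (hu _ (hkp Y)).trans (hu _ (e ▸ hkp Y')).symm
    rw [gH_oP, gH_oP, mul_one, mul_one] at h
    obtain ⟨h1, h2⟩ := pP_inj D (congrArg Subtype.val h)
    have hv : v Y = v Y' := Units.ext (D.sq_inj h1)
    rw [hv] at h2
    exact mul_left_cancel₀ (mul_ne_zero (pow_ne_zero 2 ((map_ne_zero D.θ).2 (Units.ne_zero _))) (pow_ne_zero 2 (Units.ne_zero _))) h2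
  -- transport back
  set kk : F → Cfsg.Sz F m := fun Y => k₀⁻¹ * k Y * k₀ with hkk
  have hi' : i = k₀⁻¹ * gT D 0 b * k₀ := by rw [← hki]; group
  have hj' : j = k₀⁻¹ * (gw D * gT D 0 c * gw D) * k₀ := by rw [← hkj]; group
  have hprop : ∀ Y, orderOf (kk Y) = 2 ∧ (∃ g, g * (i * j) * g⁻¹ = i * kk Y) ∧ ∃ g, g * (i * j) * g⁻¹ = j * kk Y := by
    intro Y
    refine ⟨?_, ?_, ?_⟩
    · simp only [hkk]; rw [show k₀⁻¹ * k Y * k₀ = MulAut.conj k₀⁻¹ (k Y) by simp, MulEquiv.orderOf_eq]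
      exact hk2 Y
    · obtain ⟨g, hg⟩ := hk1' Y
      refine ⟨k₀⁻¹ * g * k₀, ?_⟩
      have e : i * kk Y = k₀⁻¹ * (gT D 0 b * k Y) * k₀ := by rw [hi', hkk]; group
      rw [e, ← hg, hi', hj']; group
    · obtain ⟨g, hg⟩ := hk2' Y
      refine ⟨k₀⁻¹ * g * k₀, ?_⟩
      have e : j * kk Y = k₀⁻¹ * (gw D * gT D 0 c * gw D * k Y) * k₀ := by rw [hj', hkk]; group
      rw [e, ← hg, hi', hj']; group
  by_contra hcon
  push_neg at hcon
  set C : OddCls (Cfsg.Sz F m) := clsOf hij1 hij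
  set N := Subgroup.normalizer (C.1 : Set (Cfsg.Sz F m))
  have hall : ∀ Y, kk Y ∈ N := fun Y => hcon _ (hprop Y).1 (hprop Y).2.1 (hprop Y).2.2
  have hiN : i ∈ N := by
    rw [Subgroup.mem_normalizer_iff]
    intro y
    obtain ⟨-, hT, -⟩ := (hS.odd_cyc _ hij1 hij).2
    have h1 : i * (i * j) * i⁻¹ ∈ C.1 := by
      have e : i * (i * j) * i⁻¹ = (i * j)⁻¹ := by
        have hi2 : i * i = 1 := by rw [← pow_two]; exact (orderOf_two_iff.1 hi).2
        rw [mul_inv_rev, inv_eq_of_mul_eq_one_right hi2,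
          inv_eq_of_mul_eq_one_right (show j * j = 1 by rw [← pow_two]; exact (orderOf_two_iff.1 hj).2),
          ← mul_assoc i i j, hi2, one_mul]
      rw [e]; exact inv_mem (self_mem_centralizer _)
    conv_rhs => rw [← (hS.mem_cls h1 (fun e => hij1 (conj_eq_one_iff.1 e))).2]
    exact conj_mem_centralizer.symm
  choose g hg using fun Y => (hprop Y).2.1
  have hgN : ∀ Y, g Y ∈ N := by
    intro Y
    have hmem : g Y * (i * j) * (g Y)⁻¹ ∈ C.1 := by
      rw [hg Y]
      refine cls_odd_mem hS C (mul_mem hiN (hall Y)) ?_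
      rw [← hg Y, show g Y * (i * j) * (g Y)⁻¹ = MulAut.conj (g Y) (i * j) from rfl, MulEquiv.orderOf_eq]
      exact hij
    rw [Subgroup.mem_normalizer_iff]
    intro y
    conv_rhs => rw [← (hS.mem_cls hmem (fun e => hij1 (conj_eq_one_iff.1 e))).2]
    exact conj_mem_centralizer.symm
  haveI : (C.1.subgroupOf N).Normal := Subgroup.normal_in_normalizer
  have hle := Nat.card_le_card_of_injective (fun Y : F => ((⟨g Y, hgN Y⟩ : N) : N ⧸ C.1.subgroupOf N)) fun Y Y' e => by
    apply hinj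
    have h1 : (g Y)⁻¹ * g Y' ∈ C.1 := Subgroup.mem_subgroupOf.1 (QuotientGroup.eq.1 e)
    have h2 := (mem_centralizer_one.1 h1).eq
    have h3 : g Y' * (i * j) * (g Y')⁻¹ = g Y * (i * j) * (g Y)⁻¹ := by
      calc g Y' * (i * j) * (g Y')⁻¹ = g Y * (((g Y)⁻¹ * g Y') * (i * j)) * (g Y')⁻¹ := by group
        _ = _ := by rw [h2]; group
    rw [hg, hg] at h3
    have h4 := mul_left_cancel h3
    simp only [hkk] at h4
    exact (mul_left_cancel (mul_right_cancel h4)).symm
  have hidx : (C.1.subgroupOf N).index ∣ 4 := by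
    have h1 := (C.1.subgroupOf N).index_mul_card
    rw [Nat.card_congr (Subgroup.subgroupOfEquivOfLe (Subgroup.le_normalizer (H := C.1))).toEquiv] at h1
    exact Nat.dvd_of_mul_dvd_mul_right Nat.card_pos (h1 ▸ cls_dvd hS C)
  rw [← Subgroup.index_eq_card, Nat.card_eq_fintype_card (α := F)] at hle
  have := Nat.le_of_dvd (by norm_num) hidx
  have := D.card_big hF
  have := Nat.one_le_two_pow (n := m)
  omega

/-- An odd element is a product of two involutions normalising its centraliser. -/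
theorem exists_invol_pair {x : Cfsg.Sz F m} (hx : x ≠ 1) (hxo : Odd (orderOf x)) :
    ∃ i j : Cfsg.Sz F m, orderOf i = 2 ∧ orderOf j = 2 ∧ i * j = x ∧ i * x * i = x⁻¹ := by
  have hS := szLike D hF
  haveI := Fact.mk Nat.prime_two
  set C := clsOf hx hxo
  obtain ⟨l, hl, hν⟩ := cls_type D hF C
  obtain ⟨⟨i, hiN⟩, hi⟩ := exists_prime_orderOf_dvd_card' (G := Subgroup.normalizer (C.1 : Set (Cfsg.Sz F m))) 2 (by
    rw [hν]
    rcases hl with ⟨-, rfl⟩ | ⟨-, rfl⟩ | ⟨-, rfl⟩
    exacts [dvd_mul_right _ _, (by norm_num : 2 ∣ 4).mul_right _, (by norm_num : 2 ∣ 4).mul_right _])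
  rw [← Subgroup.orderOf_coe] at hi
  have hinv := cls_inverts hS C hi hiN (show x ∈ C.1 from self_mem_centralizer x)
  have hi2 : i * i = 1 := by rw [← pow_two]; exact (orderOf_two_iff.1 hi).2
  refine ⟨i, i * x, hi, orderOf_two_iff.2 ⟨fun e => ?_, ?_⟩, by rw [← mul_assoc, hi2, one_mul], hinv⟩
  · have h : x = i := by rw [eq_inv_of_mul_eq_one_right e, inv_eq_of_mul_eq_one_right hi2]
    rw [h, hi] at hxo
    exact absurd hxo (by decide)
  · rw [pow_two, ← mul_assoc, hinv, inv_mul_cancel]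

/-- A subgroup inside one cyclic class is not binary. -/
theorem not_binary_cyclic {H : Subgroup (Cfsg.Sz F m)} {x : Cfsg.Sz F m} (hx : x ≠ 1) (hxo : Odd (orderOf x))
    (hxH : x ∈ H) (hle : H ≤ Subgroup.centralizer {x}) : ¬ BinaryAct H := by
  have hS := szLike D hF
  obtain ⟨-, -, hT, -⟩ := hS.odd_cyc x hx hxo
  obtain ⟨i, j, hi, hj, hij, hix⟩ := exists_invol_pair D hF hx hxo
  obtain ⟨k, hk, ⟨g₁, hg₁⟩, ⟨g₂, hg₂⟩, hkN⟩ := exists_triangle D hF hi hj (hij ▸ hx) (hij ▸ hxo)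
  have hi2 : i * i = 1 := by rw [← pow_two]; exact (orderOf_two_iff.1 hi).2
  have hk2 : k * k = 1 := by rw [← pow_two]; exact (orderOf_two_iff.1 hk).2
  rw [hij] at hg₁ hg₂ hkN
  have hcap : ∀ y : Cfsg.Sz F m, (∃ g, g⁻¹ * y * g ∈ H) → y ≠ 1 → capConj H y ≤ Subgroup.centralizer {y} := by
    rintro y ⟨g, hg⟩ hy z hz
    have hz' := hle (hz g hg)
    have hy' := hle hg
    have hne : g⁻¹ * y * g ≠ 1 := fun e => hy (by
      have h := congrArg (fun w => g * w * g⁻¹) e
      simpa [mul_assoc] using h)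
    rw [← hT _ hy' hne] at hz'
    refine (conj_mem_centralizer (k := g⁻¹)).1 ?_
    rwa [inv_inv]
  have hconjH : ∀ g : Cfsg.Sz F m, ∃ r, r⁻¹ * (g * x * g⁻¹) * r ∈ H := fun g => ⟨g, by
    rwa [show g⁻¹ * (g * x * g⁻¹) * g = x by group]⟩
  have ha : ∃ g, g⁻¹ * x * g ∈ H := ⟨1, by simpa using hxH⟩
  have hb : ∃ g, g⁻¹ * (i * k) * g ∈ H := hg₁ ▸ hconjH g₁
  have hc : ∃ g, g⁻¹ * (k * j) * g ∈ H := by
    obtain ⟨r, hr⟩ := hconjH g₂
    refine ⟨r, ?_⟩
    rw [hg₂] at hr
    have hj2 : j * j = 1 := by rw [← pow_two]; exact (orderOf_two_iff.1 hj).2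
    rw [show k * j = (j * k)⁻¹ by rw [mul_inv_rev, inv_eq_of_mul_eq_one_right hj2, inv_eq_of_mul_eq_one_right hk2],
      show r⁻¹ * (j * k)⁻¹ * r = (r⁻¹ * (j * k) * r)⁻¹ by group]
    exact inv_mem hr
  have hik : i * k ≠ 1 := by rw [← hg₁]; exact fun e => hx (conj_eq_one_iff.1 e)
  have hnotmem : i * k ∉ Subgroup.centralizer {x} := by
    intro h
    apply hkN
    have hiN : i ∈ Subgroup.normalizer ((Subgroup.centralizer {x} : Subgroup (Cfsg.Sz F m)) : Set (Cfsg.Sz F m)) := by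
      rw [Subgroup.mem_normalizer_iff]
      intro y
      have h1 : i * x * i⁻¹ ∈ Subgroup.centralizer {x} := by
        rw [inv_eq_of_mul_eq_one_right hi2, hix]; exact inv_mem (self_mem_centralizer x)
      conv_rhs => rw [← hT _ h1 (fun e => hx (conj_eq_one_iff.1 e))]
      exact conj_mem_centralizer.symm
    have h2 := mul_mem hiN (Subgroup.le_normalizer h)
    rwa [← mul_assoc, hi2, one_mul] at h2
  refine not_binary (a := x) (b := i * k) (c := k * j)
    (by rw [← hij, mul_assoc, ← mul_assoc k k j, hk2, one_mul]) ha hb fun g ga gb gc => ?_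
  have g1 : g = 1 := by
    by_contra hne
    have h1 := hcap x ha hx ga
    obtain ⟨-, -, hT', -⟩ := hS.odd_cyc (i * k) hik (by
      rw [← hg₁, show g₁ * x * g₁⁻¹ = MulAut.conj g₁ x from rfl, MulEquiv.orderOf_eq]; exact hxo)
    have h2 := hcap _ hb hik gb
    apply hnotmem
    rw [← hT _ h1 hne, hT' _ h2 hne]
    exact self_mem_centralizer _
  rw [g1, inv_one, one_mul] at gc
  have hkj : k * j ≠ 1 := by
    intro e
    have : k = j := by
      rw [eq_inv_of_mul_eq_one_left e, inv_eq_of_mul_eq_one_right (by rw [← pow_two]; exact (orderOf_two_iff.1 hj).2)]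
    apply hkN
    rw [this, show j = i * x by rw [← hij, ← mul_assoc, hi2, one_mul]]
    refine mul_mem ?_ (Subgroup.le_normalizer (self_mem_centralizer x))
    rw [Subgroup.mem_normalizer_iff]
    intro y
    have h1 : i * x * i⁻¹ ∈ Subgroup.centralizer {x} := by
      rw [inv_eq_of_mul_eq_one_right hi2, hix]; exact inv_mem (self_mem_centralizer x)
    conv_rhs => rw [← hT _ h1 (fun e => hx (conj_eq_one_iff.1 e))]
    exact conj_mem_centralizer.symm
  have h3 : k * j ∈ Subgroup.centralizer {x} :=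
    mem_centralizer_one.2 (mem_centralizer_one.1 (hcap _ hc hkj gc)).symm
  apply hnotmem
  have h4 := mul_mem (self_mem_centralizer x) (inv_mem h3)
  rwa [show x * (k * j)⁻¹ = i * k by
    rw [← hij, mul_inv_rev, inv_eq_of_mul_eq_one_right (show j * j = 1 by rw [← pow_two]; exact (orderOf_two_iff.1 hj).2),
      inv_eq_of_mul_eq_one_right hk2]
    calc i * j * (j * k) = i * (j * j) * k := by group
      _ = i * k := by rw [show j * j = 1 by rw [← pow_two]; exact (orderOf_two_iff.1 hj).2, mul_one]] at h4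

/-- A subgroup meeting the centre of a Sylow subgroup properly is not binary. -/
theorem not_binary_centre {H : Subgroup (Cfsg.Sz F m)} (hH : H ≠ ⊤) (h1 : gT D 0 1 ∈ H)
    (hpart : ∃ c, gT D 0 c ∉ H) : ¬ BinaryAct H := by
  classical
  haveI := D.char2
  let W : F → Set F := fun c => {d | gT D 0 d ∈ capConj H (gT D 0 c)}
  have hconjH : ∀ c : F, c ≠ 0 → ∃ g, g⁻¹ * gT D 0 c * g ∈ H := by
    intro c hc
    obtain ⟨v, hv⟩ := exists_scale D hF c hc
    refine ⟨gH D v, ?_⟩
    rw [show gT D 0 c = gH D v * gT D 0 1 * (gH D v)⁻¹ by rw [gH_scale, mul_zero, hv, mul_one]]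
    rwa [show (gH D v)⁻¹ * (gH D v * gT D 0 1 * (gH D v)⁻¹) * gH D v = gT D 0 1 by group]
  have hW : ∀ (v : Fˣ) (c d : F), d ∈ W c → (kap D v : F) * d ∈ W ((kap D v : F) * c) := by
    intro v c d hd g hg
    have e : ∀ d : F, gT D 0 ((kap D v : F) * d) = gH D v * gT D 0 d * (gH D v)⁻¹ := fun d => by
      rw [gH_scale, mul_zero]
    rw [e] at hg ⊢
    have := hd ((gH D v)⁻¹ * g) (by
      convert hg using 1
      group)
    convert this using 1
    group
  have hWcard : ∀ c : F, c ≠ 0 → (W c).ncard = (W 1).ncard := by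
    intro c hc
    obtain ⟨v, hv⟩ := exists_scale D hF c hc
    refine le_antisymm ?_ ?_
    · refine Set.ncard_le_ncard_of_injOn (fun d => c⁻¹ * d) (fun d hd => ?_)
        (fun a _ b _ e => mul_left_cancel₀ (inv_ne_zero hc) e) (Set.toFinite _)
      have := hW v⁻¹ c d hd
      rwa [show ((kap D v⁻¹ : Fˣ) : F) = c⁻¹ by
        rw [← hv]
        apply eq_inv_of_mul_eq_one_left
        rw [← Units.val_mul, ← kap_mul, inv_mul_cancel]
        simp [kap], inv_mul_cancel₀ hc] at this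
    · refine Set.ncard_le_ncard_of_injOn (fun d => c * d) (fun d hd => ?_)
        (fun a _ b _ e => mul_left_cancel₀ hc e) (Set.toFinite _)
      have := hW v 1 d hd
      rwa [hv, mul_one] at this
  have hWeq : ∀ c d : F, c ≠ 0 → d ≠ 0 → d ∈ W c → W d = W c := by
    intro c d hc hd h
    refine Set.eq_of_subset_of_ncard_le (fun e he g hg => ?_) (le_of_eq ?_) (Set.toFinite _)
    · exact he g (h g hg)
    · rw [hWcard c hc, hWcard d hd]
  have hself : ∀ c, c ∈ W c := fun c => self_mem_capConj H _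
  obtain ⟨x, hx⟩ : ∃ x, x ∉ W 1 := by
    obtain ⟨c, hc⟩ := hpart
    exact ⟨c, fun h => hc (by simpa using h 1 (by simpa using h1))⟩
  have h0 : ∀ c, (0 : F) ∈ W c := fun c => by
    show gT D 0 0 ∈ capConj H (gT D 0 c)
    rw [gT_zero]; exact one_mem _
  have hadd : ∀ c d e, d ∈ W c → e ∈ W c → d + e ∈ W c := fun c d e hd he => by
    have := mul_mem (show gT D 0 d ∈ capConj H (gT D 0 c) from hd) (show gT D 0 e ∈ capConj H (gT D 0 c) from he)
    rw [gT_mul, map_zero, zero_mul, add_zero, add_zero] at this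
    exact this
  have hx0 : x ≠ 0 := fun e => hx (e ▸ h0 1)
  have hx1 : 1 + x ≠ 0 := fun e => hx (by rw [← D.eq_of_add e]; exact hself 1)
  refine not_binary (a := gT D 0 1) (b := gT D 0 x) (c := gT D 0 (1 + x)) (by
      rw [gT_mul, map_zero, zero_mul, add_zero, add_zero]
      congr 1
      linear_combination (-x) * D.two)
    (hconjH 1 one_ne_zero) (hconjH x hx0) fun g ga gb gc => ?_
  have g1 : g = 1 := by
    set K := capConj H (gT D 0 1) ⊓ capConj H (gT D 0 x) with hK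
    have hnorm : ∀ q ∈ Q D, ∀ y ∈ K, q * y * q⁻¹ ∈ K := by
      intro q hq y hy
      have key : ∀ c, y ∈ capConj H (gT D 0 c) → q * y * q⁻¹ ∈ capConj H (gT D 0 c) := by
        intro c hy r hr
        have h := hy (q⁻¹ * r) (by
          have e : (q⁻¹ * r)⁻¹ * gT D 0 c * (q⁻¹ * r) = r⁻¹ * (q * gT D 0 c * q⁻¹) * r := by group
          rw [e, show q * gT D 0 c * q⁻¹ = gT D 0 c from
            mul_inv_eq_iff_eq_mul.2 (commute_central D hF ⟨q, hq⟩).eq.symm]
          exact hr)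
        convert h using 1
        group
      exact ⟨key 1 hy.1, key x hy.2⟩
    have hKH : K ≤ H := fun y hy => by simpa using hy.1 1 (by simpa using h1)
    have hKI : ∀ y ∈ K, y • oI D = oI D := by
      obtain ⟨P, hP⟩ : ∃ P : Sylow 2 (Cfsg.Sz F m), ∀ y, y ∈ (P : Subgroup (Cfsg.Sz F m)) ↔
          y = 1 ∨ (y • oI D = oI D ∧ ∀ p, y • p = p → p = oI D) := exists_sylow_point D hF (oI D)
      intro y hy
      by_contra hne
      have hQN : Q D ≤ Subgroup.normalizer (K : Set (Cfsg.Sz F m)) := by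
        intro q hq
        rw [Subgroup.mem_normalizer_iff]
        refine fun z => ⟨fun hz => hnorm q hq z hz, fun hz => ?_⟩
        have := hnorm q⁻¹ (inv_mem hq) _ hz
        convert this using 1
        group
      have htop := eq_top_of_sylow_le D hF hP (M := Subgroup.normalizer (K : Set (Cfsg.Sz F m)))
        (fun z hz => hQN ((mem_Q_iff D hF).2 ((hP z).1 hz))) (Subgroup.le_normalizer hy) hne
      haveI := simple D hF
      haveI : K.Normal := Subgroup.normalizer_eq_top_iff.1 htop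
      rcases (inferInstance : K.Normal).eq_bot_or_eq_top with e | e
      · rw [e, Subgroup.mem_bot] at hy; exact hne (by rw [hy, one_smul])
      · exact hH (top_le_iff.1 (e ▸ hKH))
    have hW0 : ∀ d, gT D 0 d ∈ K → d = 0 := by
      intro d hd
      by_contra hd0
      apply hx
      rw [← hWeq 1 d one_ne_zero hd0 hd.1, hWeq x d hx0 hd0 hd.2]
      exact hself x
    have hKQ : ∀ a b, gT D a b ∈ K → a = 0 ∧ b = 0 := by
      intro a b hab
      have h2 := mul_mem hab hab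
      rw [gT_mul, D.add_self, D.add_self, zero_add] at h2
      obtain rfl := (square_zero_iff D hF).1 (hW0 _ h2)
      exact ⟨rfl, hW0 _ hab⟩
    have hgK : g ∈ K := ⟨ga, gb⟩
    obtain ⟨a, b, u, hgu⟩ := gfix_inf D hF (hKI g hgK)
    -- the commutator with a translation is a translation in the intersection
    have hu : u = 1 := by
      by_contra hu
      have hmem : gT D 1 0 * g * (gT D 1 0)⁻¹ * g⁻¹ ∈ K :=
        mul_mem (hnorm _ ⟨1, 0, rfl⟩ g hgK) (inv_mem hgK)
      have hq : g * (gT D 1 0)⁻¹ * g⁻¹ = gT D a b * gT D ((u : F) ^ 2 * 1) ((kap D u : F) * (0 + D.θ 1 * 1)) * (gT D a b)⁻¹ := by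
        rw [← gH_scale, ← gT_inv, hgu]; group
      rw [show gT D 1 0 * g * (gT D 1 0)⁻¹ * g⁻¹ = gT D 1 0 * (g * (gT D 1 0)⁻¹ * g⁻¹) by group, hq, gT_inv,
        gT_mul, gT_mul, gT_mul] at hmem
      have h0 := (hKQ _ _ hmem).1
      apply hu
      refine Units.ext (D.sq_inj ?_)
      rw [Units.val_one, one_pow]
      linear_combination h0 + (-(1 : F) - a) * D.two
    rw [hu, gH_one, mul_one] at hgu
    obtain ⟨ea, eb⟩ := hKQ a b (hgu ▸ hgK)
    rw [hgu, ea, eb, gT_zero]
  rw [g1, inv_one, one_mul] at gc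
  apply hx
  have hmem := hadd (1 + x) 1 (1 + x) gc (hself _)
  rw [show (1 : F) + (1 + x) = x by linear_combination D.two] at hmem
  rw [← hWeq (1 + x) 1 hx1 one_ne_zero gc] at hmem
  exact hmem

/-- A point subgroup with elements of both kinds is not binary. -/
theorem not_binary_mixed {H : Subgroup (Cfsg.Sz F m)} (hle : ∀ g ∈ H, g • oI D = oI D) {t x : Cfsg.Sz F m}
    (htH : t ∈ H) (ht : orderOf t = 2) (hxH : x ∈ H) (hx : x ≠ 1) (hxo : Odd (orderOf x)) : ¬ BinaryAct H := by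
  have hS := szLike D hF
  obtain ⟨i, j, hi, hj, hij, hix⟩ := exists_invol_pair D hF hx hxo
  have hi2 : i * i = 1 := by rw [← pow_two]; exact (orderOf_two_iff.1 hi).2
  obtain ⟨r, hr, hxr⟩ : ∃ r, oI D ≠ r ∧ x • r = r := by
    rcases fix_trichotomy x with h0 | h1 | ⟨c, d, hcd, hc, hd⟩
    · exact absurd (hle x hxH) (h0 _)
    · exfalso
      refine hx (orderOf_eq_one_iff.1 (Nat.Coprime.eq_one_of_dvd ?_
        (orderOf_dvd_of_pow_eq_one (pow_four_of_oneFix D hF h1))))
      exact Nat.Coprime.pow_right 2 (Nat.coprime_two_right.2 hxo)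
    · rcases eq_pair_or D hF hx hcd hc hd (hle x hxH) with e | e
      · exact ⟨d, e ▸ hcd, hd⟩
      · exact ⟨c, e ▸ hcd.symm, hc⟩
  have hxI := hle x hxH
  have hodd : Odd (Nat.card (pairStab (oI D) r)) := by
    rw [← centralizer_twoFix D hF hx hr hxI hxr]; exact (hS.odd_cyc x hx hxo).2.1
  -- the involutions swap the pair
  have hswap : ∀ s : Cfsg.Sz F m, orderOf s = 2 → s * x * s = x⁻¹ → s • oI D = r ∧ s • r = oI D := by
    intro s hs hsx
    have hs2 : s * s = 1 := by rw [← pow_two]; exact (orderOf_two_iff.1 hs).2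
    have hfix : ∀ p : Cfsg.suzukiOvoid F m, x • p = p → x • (s • p) = s • p := by
      intro p hp
      have e : s * x⁻¹ * s⁻¹ = x := by
        rw [← hsx, inv_eq_of_mul_eq_one_right hs2, ← mul_assoc, ← mul_assoc, hs2, one_mul, mul_assoc, hs2, mul_one]
      conv_lhs => rw [← e]
      exact (conj_fix s _).2 (by rw [inv_smul_eq_iff, hp])
    rcases eq_pair_or D hF hx hr hxI hxr (hfix _ hxI) with e | e
    · exfalso
      have e' : s • r = r := (eq_pair_or D hF hx hr hxI hxr (hfix _ hxr)).resolve_left fun e' =>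
        hr (smul_left_cancel s (e.trans e'.symm))
      have := Odd.of_dvd_nat hodd (Subgroup.orderOf_dvd_natCard _ (mem_pairStab.2 ⟨e, e'⟩))
      rw [hs] at this
      exact absurd this (by decide)
    · exact ⟨e, by rw [← e, ← mul_smul, hs2, one_smul]⟩
  have hj2 : j * j = 1 := by rw [← pow_two]; exact (orderOf_two_iff.1 hj).2
  obtain ⟨hiI, hir⟩ := hswap i hi hix
  obtain ⟨hjI, hjr⟩ := hswap j hj (by
    rw [show j = i * x by rw [← hij, ← mul_assoc, hi2, one_mul]]
    calc i * x * x * (i * x) = i * x * (x * i * x) := by group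
      _ = i * x * ((i * i) * x * i * x) := by rw [hi2, one_mul]
      _ = i * x * (i * (i * x * i) * x) := by group
      _ = i * x * (i * x⁻¹ * x) := by rw [hix]
      _ = i * x * i := by group
      _ = _ := hix)
  -- the points of the two involutions
  obtain ⟨pi, hpi, -⟩ := oneFix_of_order_two D hF hi
  obtain ⟨pj, hpj, -⟩ := oneFix_of_order_two D hF hj
  have hcap : ∀ (s : Cfsg.Sz F m) (p : Cfsg.suzukiOvoid F m), orderOf s = 2 → s • p = p →
      (∃ g, g⁻¹ * s * g ∈ H) ∧ ∀ y ∈ capConj H s, y • p = p := by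
    intro s p hs hp
    obtain ⟨k, hk⟩ := invol_conj D hF ht hs
    have hmem : k⁻¹ * s * k ∈ H := by rw [← hk]; rwa [show k⁻¹ * (k * t * k⁻¹) * k = t by group]
    refine ⟨⟨k, hmem⟩, fun y hy => ?_⟩
    have h1 := hle _ (hy k hmem)
    obtain ⟨p', -, hu⟩ := oneFix_of_order_two D hF hs
    have h2 : s • (k • oI D) = k • oI D := by
      have := (conj_fix k _).2 (hle _ hmem)
      rwa [show k * (k⁻¹ * s * k) * k⁻¹ = s by group] at this
    have h3 : p = k • oI D := (hu _ hp).trans (hu _ h2).symm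
    have := (conj_fix k _).2 h1
    rwa [show k * (k⁻¹ * y * k) * k⁻¹ = y by group, ← h3] at this
  obtain ⟨hA, hAf⟩ := hcap j pj hj hpj
  obtain ⟨hB, hBf⟩ := hcap i pi hi hpi
  refine not_binary (a := j) (b := i) (c := x) (by rw [← hij, ← mul_assoc, hi2, one_mul]) hA hB fun g ga gb gc => ?_
  have hc1 := hle _ (by simpa using gc 1 (by simpa using hxH) : g⁻¹ * j ∈ H)
  have hc2 : (g⁻¹ * j) • r = r := by
    have hmem : i⁻¹ * x * i ∈ H := by rw [inv_eq_of_mul_eq_one_right hi2, hix]; exact inv_mem hxH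
    have := (conj_fix i _).2 (hle _ (gc i hmem))
    rwa [show i * (i⁻¹ * (g⁻¹ * j) * i) * i⁻¹ = g⁻¹ * j by group, hiI] at this
  have hgI : g • oI D = r := by
    rw [mul_smul, hjI] at hc1
    rw [inv_smul_eq_iff] at hc1
    exact hc1.symm
  have hgr : g • r = oI D := by
    rw [mul_smul, hjr, inv_smul_eq_iff] at hc2
    exact hc2.symm
  have hpij : pi ≠ pj := by
    intro e
    subst e
    have hxp : x • pi = pi := by rw [← hij, mul_smul, hpj, hpi]
    rcases eq_pair_or D hF hx hr hxI hxr hxp with e | e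
    · rw [e, hiI] at hpi; exact hr hpi.symm
    · rw [e, hir] at hpi; exact hr hpi
  have hgne : g ≠ 1 := fun e => hr (by rw [e, one_smul] at hgI; exact hgI)
  have hgo : Odd (orderOf g) := odd_orderOf_of_twoFix D hF ⟨pi, pj, hpij, hBf g gb, hAf g ga⟩
  have hsq : g ^ 2 ∈ pairStab (oI D) r :=
    mem_pairStab.2 ⟨by rw [pow_two, mul_smul, hgI, hgr], by rw [pow_two, mul_smul, hgr, hgI]⟩
  by_cases hg2 : g ^ 2 = 1
  · exact hgne (orderOf_eq_one_iff.1 (Nat.Coprime.eq_one_of_dvd (Nat.coprime_two_right.2 hgo)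
      (orderOf_dvd_of_pow_eq_one hg2)))
  have hfix2 : ∀ p : Cfsg.suzukiOvoid F m, g • p = p → (g ^ 2) • p = p := fun p hp => by rw [pow_two, mul_smul, hp, hp]
  rcases eq_pair_or D hF hg2 hr hsq.1 hsq.2 (hfix2 _ (hBf g gb)) with e | e
  · rw [e, hiI] at hpi; exact hr hpi.symm
  · rw [e, hir] at hpi; exact hr hpi

/-- A subgroup of a Sylow subgroup above the centre, proper in it, is not binary. -/
theorem not_binary_layer {H : Subgroup (Cfsg.Sz F m)} (hle : H ≤ Q D) (hZ : ∀ c, gT D 0 c ∈ H) {a₁ b₁ : F}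
    (ha : a₁ ≠ 0) (hab : gT D a₁ b₁ ∈ H) {a₂ b₂ : F} (hno : gT D a₂ b₂ ∉ H) : ¬ BinaryAct H := by
  classical
  haveI := D.char2
  let W : F → Set F := fun c => {d | gT D d 0 ∈ capConj H (gT D c 0)}
  have hpt : ∀ c, c ≠ 0 → ∀ g, g⁻¹ * gT D c 0 * g ∈ H → g • oI D = oI D := by
    intro c hc g hg
    have h1 : (g⁻¹ * gT D c 0 * g) • oI D = oI D := by
      obtain ⟨a, b, e⟩ := hle hg; rw [e, gT_oI]
    have h2 := (conj_fix g _).2 h1
    rw [show g * (g⁻¹ * gT D c 0 * g) * g⁻¹ = gT D c 0 by group] at h2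
    exact unique_fix D hF (Or.inl hc) h2
  have hZcap : ∀ c, c ≠ 0 → ∀ d, gT D 0 d ∈ capConj H (gT D c 0) := by
    intro c hc d g hg
    have hgI := hpt c hc g hg
    obtain ⟨u, hu⟩ := fix_inf_scale D hF (g := g⁻¹) (by rw [inv_smul_eq_iff, hgI])
    have := hu d
    rw [inv_inv] at this
    rw [this]; exact hZ _
  have hW : ∀ (v : Fˣ) (c d : F), d ∈ W c → (v : F) ^ 2 * d ∈ W ((v : F) ^ 2 * c) := by
    intro v c d hd g hg
    have e : ∀ d : F, gT D ((v : F) ^ 2 * d) 0 = gH D v * gT D d 0 * (gH D v)⁻¹ := fun d => by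
      rw [gH_scale, mul_zero]
    rw [e] at hg ⊢
    have := hd ((gH D v)⁻¹ * g) (by convert hg using 1; group)
    convert this using 1
    group
  have hroot : ∀ l : F, l ≠ 0 → ∃ v : Fˣ, (v : F) ^ 2 = l := by
    intro l hl
    obtain ⟨s, hs⟩ := (Finite.injective_iff_surjective.1 fun x y e => D.sq_inj e :
      Function.Surjective fun x : F => x ^ 2) l
    exact ⟨Units.mk0 s (fun e => hl (by rw [← hs]; simp [e])), hs⟩
  have hWcard : ∀ c : F, c ≠ 0 → (W c).ncard = (W a₁).ncard := by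
    intro c hc
    refine le_antisymm ?_ ?_
    · obtain ⟨v, hv⟩ := hroot (a₁ / c) (div_ne_zero ha hc)
      refine Set.ncard_le_ncard_of_injOn (fun d => a₁ / c * d) (fun d hd => ?_)
        (fun a _ b _ e => mul_left_cancel₀ (div_ne_zero ha hc) e) (Set.toFinite _)
      have := hW v c d hd
      rwa [hv, div_mul_cancel₀ a₁ hc] at this
    · obtain ⟨v, hv⟩ := hroot (c / a₁) (div_ne_zero hc ha)
      refine Set.ncard_le_ncard_of_injOn (fun d => c / a₁ * d) (fun d hd => ?_)
        (fun a _ b _ e => mul_left_cancel₀ (div_ne_zero hc ha) e) (Set.toFinite _)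
      have := hW v a₁ d hd
      rwa [hv, div_mul_cancel₀ c ha] at this
  have hWeq : ∀ c d : F, c ≠ 0 → d ≠ 0 → d ∈ W c → W d = W c := by
    intro c d hc hd h
    refine Set.eq_of_subset_of_ncard_le (fun e he g hg => he g (h g hg)) (le_of_eq ?_) (Set.toFinite _)
    rw [hWcard c hc, hWcard d hd]
  have hself : ∀ c, c ∈ W c := fun c => self_mem_capConj H _
  have hcoord : ∀ c, c ≠ 0 → ∀ d b, gT D d b ∈ capConj H (gT D c 0) → d ∈ W c := by
    intro c hc d b h
    have := mul_mem h (hZcap c hc b)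
    rw [gT_mul, add_zero, mul_zero, add_zero, D.add_self] at this
    exact this
  have hlift : ∀ c, c ≠ 0 → ∀ d b, d ∈ W c → gT D d b ∈ capConj H (gT D c 0) := by
    intro c hc d b h
    have := mul_mem (show gT D d 0 ∈ capConj H (gT D c 0) from h) (hZcap c hc b)
    rwa [gT_mul, add_zero, mul_zero, add_zero, zero_add] at this
  have h₁ : gT D a₁ 0 ∈ H := by
    have := mul_mem hab (hZ b₁)
    rwa [gT_mul, add_zero, mul_zero, add_zero, D.add_self] at this
  obtain ⟨x, hx⟩ : ∃ x, x ∉ W a₁ := by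
    refine ⟨a₂, fun h => hno ?_⟩
    have h2 : gT D a₂ 0 ∈ H := by simpa using h 1 (by simpa using h₁)
    have := mul_mem h2 (hZ b₂)
    rwa [gT_mul, add_zero, mul_zero, add_zero, zero_add] at this
  have h0 : (0 : F) ∈ W a₁ := by
    show gT D 0 0 ∈ capConj H (gT D a₁ 0)
    exact hZcap a₁ ha 0
  have hx0 : x ≠ 0 := fun e => hx (e ▸ h0)
  have hx1 : x + a₁ ≠ 0 := fun e => hx (by rw [D.eq_of_add e]; exact hself _)
  have hconjH : ∀ c, c ≠ 0 → ∃ g, g⁻¹ * gT D c 0 * g ∈ H := by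
    intro c hc
    obtain ⟨v, hv⟩ := hroot (c / a₁) (div_ne_zero hc ha)
    refine ⟨gH D v, ?_⟩
    rw [show gT D c 0 = gH D v * gT D a₁ 0 * (gH D v)⁻¹ by rw [gH_scale, mul_zero, hv, div_mul_cancel₀ c ha]]
    rwa [show (gH D v)⁻¹ * (gH D v * gT D a₁ 0 * (gH D v)⁻¹) * gH D v = gT D a₁ 0 by group]
  have hc3 : (gT D x 0)⁻¹ * gT D a₁ 0 = gT D (x + a₁) (0 + D.θ x * x + 0 + D.θ x * a₁) := by rw [gT_inv, gT_mul]
  have hb : ∃ g, g⁻¹ * gT D x 0 * g ∈ H := hconjH x hx0
  refine not_binary (a := gT D a₁ 0) (b := gT D x 0) (c := (gT D x 0)⁻¹ * gT D a₁ 0) (by group)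
    (hconjH a₁ ha) hb fun g ga gb gc => ?_
  obtain ⟨p, q, hg⟩ : g ∈ Q D := hle (by simpa using ga 1 (by simpa using h₁))
  rw [hg] at ga gb gc
  have hp0 : p = 0 := by
    by_contra hp
    apply hx
    rw [← hWeq a₁ p ha hp (hcoord a₁ ha p q ga), hWeq x p hx0 hp (hcoord x hx0 p q gb)]
    exact hself x
  subst hp0
  have hmem : gT D (x + a₁) 0 ∈ capConj H ((gT D x 0)⁻¹ * gT D a₁ 0) ∧
      ∀ r, r ∈ capConj H ((gT D x 0)⁻¹ * gT D a₁ 0) → r ∈ capConj H (gT D (x + a₁) 0) := by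
    constructor
    · intro r hr
      rw [hc3] at hr
      have hrI : r • oI D = oI D := by
        have h1 : (r⁻¹ * gT D (x + a₁) (0 + D.θ x * x + 0 + D.θ x * a₁) * r) • oI D = oI D := by
          obtain ⟨a, b, e⟩ := hle hr; rw [e, gT_oI]
        have h2 := (conj_fix r _).2 h1
        rw [show r * (r⁻¹ * gT D (x + a₁) (0 + D.θ x * x + 0 + D.θ x * a₁) * r) * r⁻¹ =
          gT D (x + a₁) (0 + D.θ x * x + 0 + D.θ x * a₁) by group] at h2
        exact unique_fix D hF (Or.inl hx1) h2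
      obtain ⟨u, hu⟩ := fix_inf_scale D hF (g := r⁻¹) (by rw [inv_smul_eq_iff, hrI])
      have h3 := hu (0 + D.θ x * x + 0 + D.θ x * a₁)
      rw [inv_inv] at h3
      have := mul_mem hr (h3 ▸ hZ _ : r⁻¹ * gT D 0 (0 + D.θ x * x + 0 + D.θ x * a₁) * r ∈ H)
      rw [show r⁻¹ * gT D (x + a₁) (0 + D.θ x * x + 0 + D.θ x * a₁) * r *
        (r⁻¹ * gT D 0 (0 + D.θ x * x + 0 + D.θ x * a₁) * r) = r⁻¹ * (gT D (x + a₁) (0 + D.θ x * x + 0 + D.θ x * a₁) *
        gT D 0 (0 + D.θ x * x + 0 + D.θ x * a₁)) * r by group, gT_mul, add_zero, mul_zero, add_zero, D.add_self] at this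
      exact this
    · intro r hr g hg
      refine hr g ?_
      rw [hc3]
      exact hlift (x + a₁) hx1 _ _ (hself _) g hg
  have h4 := hmem.2 _ gc
  rw [show (gT D 0 q)⁻¹ = gT D 0 q by rw [gT_inv, map_zero, zero_mul, add_zero], gT_mul, map_zero,
    zero_mul, add_zero, zero_add] at h4
  apply hx
  have h5 := hcoord (x + a₁) hx1 a₁ _ h4
  have h6 := mul_mem (show gT D a₁ 0 ∈ capConj H (gT D (x + a₁) 0) from h5) (self_mem_capConj H (gT D (x + a₁) 0))
  rw [gT_mul] at h6
  have h7 := hcoord (x + a₁) hx1 _ _ h6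
  rw [show a₁ + (x + a₁) = x by linear_combination a₁ * D.two, ← hWeq (x + a₁) a₁ hx1 ha h5] at h7
  exact h7

/-- The Sylow subgroup is not binary. -/
theorem not_binary_sylow {H : Subgroup (Cfsg.Sz F m)} (hH : ∀ g, g ∈ H ↔ g ∈ Q D) : ¬ BinaryAct H := by
  classical
  have hS := szLike D hF
  obtain ⟨C, hCn, hν⟩ := exists_cls D hF (n := Fintype.card F + 2 ^ (m + 1) + 1) (l := 4) (Or.inr (Or.inl ⟨rfl, rfl⟩))
  obtain ⟨⟨t, htN⟩, ht⟩ := by
    haveI := Fact.mk Nat.prime_two
    exact exists_prime_orderOf_dvd_card' (G := Subgroup.normalizer (C.1 : Set (Cfsg.Sz F m))) 2 (by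
      rw [hν]; exact (by norm_num : 2 ∣ 4).mul_right _)
  rw [← Subgroup.orderOf_coe] at ht
  obtain ⟨-, h4⟩ := cls_point_part hS C ht htN (Or.inr rfl) (hCn.symm ▸ hν)
  obtain ⟨⟨y, hyK, hyt⟩⟩ : Nonempty {y : Cfsg.Sz F m // y ∈ (Subgroup.centralizer {t} ⊓
      Subgroup.normalizer (C.1 : Set (Cfsg.Sz F m)) : Subgroup (Cfsg.Sz F m)) ∧ y ^ 2 = t} :=
    (Nat.card_pos_iff.1 (by rw [h4 rfl]; norm_num)).1
  haveI : Nontrivial C.1 := Finite.one_lt_card_iff_nontrivial.1 (by rw [hCn]; have := D.card_big hF; have := Nat.one_le_two_pow (n := m); omega)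
  obtain ⟨⟨c, hc⟩, hc1'⟩ := exists_ne (1 : C.1)
  have hc1 : c ≠ 1 := fun e => hc1' (Subtype.ext e)
  have hcF : Fpf c := by
    rcases cls_kinds D hF C with ⟨a, b, hab, e⟩ | hU
    · exfalso
      rw [e, card_pairStab D hF hab] at hCn
      have := Nat.one_le_two_pow (n := m)
      have := D.card_big hF
      omega
    · exact hU.fpf D hF hc hc1
  obtain ⟨p, htp, hup⟩ := oneFix_of_order_two D hF ht
  have hyp : y • p = p := (normalizer_invol D hF ht htp y).1 (Subgroup.le_normalizer hyK.1)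
  have htone : t ≠ 1 := (orderOf_two_iff.1 ht).1
  -- the involution of the coset and the two elements of order four
  have hyc4 : y * c * (y * c) = t * ((y⁻¹ * c * y) * c) := by rw [← hyt, pow_two]; group
  set a := t * c with ha
  set b := y with hbdef
  set d := y * c with hd
  have hab : a = b * d := by rw [ha, ← hyt, pow_two, hbdef, hd]; group
  have hcn : ∀ s, s ∈ Subgroup.normalizer (C.1 : Set (Cfsg.Sz F m)) → s ∉ C.1 → s * c ∉ C.1 := fun s _ hs h =>
    hs (by have := mul_mem h (inv_mem hc); rwa [mul_inv_cancel_right] at this)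
  have hyC : y ∉ C.1 := fun h => by
    have h2 : t ∈ C.1 := hyt ▸ pow_mem h 2
    have := Odd.of_dvd_nat (cls_odd hS C) (Subgroup.orderOf_dvd_natCard _ h2)
    rw [ht] at this
    exact absurd this (by decide)
  have htC : t ∉ C.1 := fun h => by
    have := Odd.of_dvd_nat (cls_odd hS C) (Subgroup.orderOf_dvd_natCard _ h)
    rw [ht] at this
    exact absurd this (by decide)
  have hone : ∀ s, s ∈ Subgroup.normalizer (C.1 : Set (Cfsg.Sz F m)) → s ∉ C.1 → OneFix s := by
    intro s hsN hsC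
    rcases fix_trichotomy s with h | h | h
    · exact absurd (cls_odd_mem hS C hsN (odd_orderOf_of_fpf D hF h)) hsC
    · exact h
    · exact absurd (cls_odd_mem hS C hsN (odd_orderOf_of_twoFix D hF h)) hsC
  have haN : a ∈ Subgroup.normalizer (C.1 : Set (Cfsg.Sz F m)) := mul_mem htN (Subgroup.le_normalizer hc)
  have hdN : d ∈ Subgroup.normalizer (C.1 : Set (Cfsg.Sz F m)) := mul_mem hyK.2 (Subgroup.le_normalizer hc)
  obtain ⟨pa, hpa, hua⟩ := hone a haN (hcn t htN htC)
  obtain ⟨pd, hpd, hud⟩ := hone d hdN (hcn y hyK.2 hyC)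
  have hcp : ∀ q, c • q ≠ q := hcF
  have hpap : pa ≠ p := fun e => hcp p (by
    have h := hpa
    rw [e, ha, mul_smul, ← eq_inv_smul_iff] at h
    exact h.trans (inv_smul_eq_iff.2 htp.symm))
  have hpdp : pd ≠ p := fun e => hcp p (by
    have h := hpd
    rw [e, hd, mul_smul, ← eq_inv_smul_iff] at h
    exact h.trans (inv_smul_eq_iff.2 hyp.symm))
  have hpad : pa ≠ pd := by
    intro e
    apply hpap
    refine hup _ ?_ |>.trans ?_
    · -- both fix the point, so the middle element does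
      have h1 : b • pa = pa := by
        have h := hpa
        rw [hab, mul_smul, e, hpd] at h
        rw [e]; exact h
      rw [show t • pa = (b ^ 2) • pa by rw [hyt], pow_two, mul_smul]
      rw [h1, h1]
    · rfl
  have hmemQ : ∀ (s : Cfsg.Sz F m) (q : Cfsg.suzukiOvoid F m), s • q = q → (∀ r, s • r = r → r = q) →
      (∃ g, g⁻¹ * s * g ∈ H) ∧ ∀ z ∈ capConj H s, z = 1 ∨ (z • q = q ∧ ∀ r, z • r = r → r = q) := by
    intro s q hs hu
    obtain ⟨k, hk⟩ := transitive D q
    have hkq : k⁻¹ • q = oI D := by rw [← hk, inv_smul_smul]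
    have hmem : k⁻¹ * s * k ∈ H := by
      rw [hH, show k⁻¹ * s * k = k⁻¹ * s * k⁻¹⁻¹ by group, conj_Q D hF hkq]
      exact Or.inr ⟨hs, hu⟩
    refine ⟨⟨k, hmem⟩, fun z hz => ?_⟩
    have h := hz k hmem
    rwa [hH, show k⁻¹ * z * k = k⁻¹ * z * k⁻¹⁻¹ by group, conj_Q D hF hkq] at h
  have hub : ∀ r, b • r = r → r = p := by
    obtain ⟨pb, hpb, hubb⟩ := hone b hyK.2 hyC
    exact fun r hr => (hubb r hr).trans (hubb p hyp).symm
  obtain ⟨hA, hAc⟩ := hmemQ a pa hpa hua
  obtain ⟨hB, hBc⟩ := hmemQ b p hyp hub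
  obtain ⟨-, hDc⟩ := hmemQ d pd hpd hud
  refine not_binary hab hA hB fun g ga gb gc => ?_
  have hg1 : g = 1 := by
    rcases hAc g ga with e | ⟨e1, -⟩
    · exact e
    · rcases hBc g gb with e' | ⟨-, e2⟩
      · exact e'
      · exact absurd (e2 _ e1) hpap
  rw [hg1, inv_one, one_mul] at gc
  rcases hDc a gc with e | ⟨e1, -⟩
  · exact hcn t htN htC (by rw [← ha, e]; exact one_mem _)
  · exact hpad (hua _ e1).symm

/-- The centre of the Sylow subgroup at infinity. -/
def centreInf : Subgroup (Cfsg.Sz F m) where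
  carrier := {g | ∃ c, g = gT D 0 c}
  one_mem' := ⟨0, (gT_zero D).symm⟩
  mul_mem' := by
    rintro _ _ ⟨c, rfl⟩ ⟨d, rfl⟩
    exact ⟨c + d, by rw [gT_mul, map_zero, zero_mul, add_zero, add_zero]⟩
  inv_mem' := by
    rintro _ ⟨c, rfl⟩
    exact ⟨c, by rw [gT_inv, map_zero, zero_mul, add_zero]⟩

/-- The action on the cosets of the centre is binary. -/
theorem binary_centre : BinaryAct (centreInf D) := by
  classical
  have hS := szLike D hF
  -- stabilisers of the points
  have hinv : ∀ r y : Cfsg.Sz F m, r⁻¹ * y * r ∈ centreInf D → y ≠ 1 → orderOf y = 2 ∧ y • (r • oI D) = r • oI D := by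
    rintro r y ⟨c, hc⟩ hy
    have e : y = r * gT D 0 c * r⁻¹ := by rw [← hc]; group
    constructor
    · rw [e, show r * gT D 0 c * r⁻¹ = MulAut.conj r (gT D 0 c) from rfl, MulEquiv.orderOf_eq]
      exact invol_gT D hF fun hc0 => hy (by rw [e, hc0, gT_zero, mul_one, mul_inv_cancel])
    · rw [e]; exact (conj_fix r _).2 (gT_oI D 0 c)
  have hsame : ∀ r s : Cfsg.Sz F m, r • oI D = s • oI D →
      ∀ y, r⁻¹ * y * r ∈ centreInf D → s⁻¹ * y * s ∈ centreInf D := by
    rintro r s h y ⟨c, hc⟩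
    obtain ⟨u, hu⟩ := fix_inf_scale D hF (g := s⁻¹ * r) (by rw [mul_smul, h, inv_smul_smul])
    exact ⟨_, by rw [← hu c, ← hc]; group⟩
  intro n I J hn hp
  choose r hr using fun i => QuotientGroup.mk_surjective (I i)
  set A := fun i => r i • oI D
  have hst : ∀ i (y : Cfsg.Sz F m), y • I i = I i ↔ (r i)⁻¹ * y * r i ∈ centreInf D := fun i y => by
    rw [← hr i, fix_coset_iff]
  set i₀ : Fin n := ⟨0, by omega⟩
  by_cases hall : ∀ i, A i = A i₀
  · obtain ⟨g, hg, -⟩ := hp i₀ ⟨1, by omega⟩ (by simp [i₀])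
    refine ⟨g, fun i => ?_⟩
    by_cases hi : i₀ = i
    · subst hi; exact hg
    obtain ⟨g', h0, h1⟩ := hp i₀ i hi
    have h2 : (g⁻¹ * g') • I i₀ = I i₀ := by rw [mul_smul, h0, ← hg, inv_smul_smul]
    rw [hst] at h2
    have h3 := hsame _ _ (hall i).symm _ h2
    rw [← hst, mul_smul, h1, inv_smul_eq_iff] at h3
    exact h3.symm
  · push_neg at hall
    obtain ⟨i₁, hi₁⟩ := hall
    obtain ⟨g, hg0, hg1⟩ := hp i₀ i₁ fun e => hi₁ (e ▸ rfl)
    refine ⟨g, fun j => ?_⟩
    by_cases hj0 : i₀ = j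
    · subst hj0; exact hg0
    by_cases hj1 : i₁ = j
    · subst hj1; exact hg1
    obtain ⟨g₁, a0, aj⟩ := hp i₀ j hj0
    obtain ⟨g₂, b1, bj⟩ := hp i₁ j hj1
    have hu : (g⁻¹ * g₁) • I i₀ = I i₀ := by rw [mul_smul, a0, ← hg0, inv_smul_smul]
    have hv : (g⁻¹ * g₂) • I i₁ = I i₁ := by rw [mul_smul, b1, ← hg1, inv_smul_smul]
    have hw : ((g⁻¹ * g₁)⁻¹ * (g⁻¹ * g₂)) • I j = I j := by
      rw [show (g⁻¹ * g₁)⁻¹ * (g⁻¹ * g₂) = g₁⁻¹ * g₂ by group, mul_smul, bj, ← aj, inv_smul_smul]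
    set u := g⁻¹ * g₁ with hudef
    set v := g⁻¹ * g₂ with hvdef
    rw [hst] at hu hv hw
    have key : u • I j = I j := by
      by_cases hu1 : u = 1
      · rw [hu1, one_smul]
      rw [hst]
      by_cases hv1 : v = 1
      · rw [hv1, mul_one] at hw
        have := inv_mem hw
        rwa [show ((r j)⁻¹ * u⁻¹ * r j)⁻¹ = (r j)⁻¹ * u * r j by group] at this
      obtain ⟨hu2, huA⟩ := hinv _ u hu hu1
      obtain ⟨hv2, hvA⟩ := hinv _ v hv hv1
      obtain ⟨pu, -, huu⟩ := oneFix_of_order_two D hF hu2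
      have hne : u ≠ v := fun e => hi₁ (((huu _ huA).trans (huu _ (e ▸ hvA)).symm).symm)
      have hne1 : u⁻¹ * v ≠ 1 := fun e => hne (inv_mul_eq_one.1 e)
      obtain ⟨hw2, -⟩ := hinv _ _ hw hne1
      -- commuting involutions share their point
      exfalso
      have hui : u⁻¹ = u := inv_eq_of_mul_eq_one_right (by rw [← pow_two]; exact (orderOf_two_iff.1 hu2).2)
      have hvi : v⁻¹ = v := inv_eq_of_mul_eq_one_right (by rw [← pow_two]; exact (orderOf_two_iff.1 hv2).2)
      have hcomm : Commute u v := by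
        show u * v = v * u
        have h := (orderOf_two_iff.1 hw2).2
        rw [hui, pow_two] at h
        have h' := eq_inv_of_mul_eq_one_right h
        rwa [mul_inv_rev, hui, hvi] at h'
      exact hi₁ ((huu _ (smul_fix_of_commute hcomm.symm huA |> fun _ => by
        obtain ⟨pv, -, huv⟩ := oneFix_of_order_two D hF hv2
        have e1 : u • (r i₁ • oI D) = r i₁ • oI D :=
          (huv _ (smul_fix_of_commute hcomm hvA)).trans (huv _ hvA).symm
        exact e1)).trans (huu _ huA).symm)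
    rw [hudef, mul_smul, aj, inv_smul_eq_iff] at key
    exact key.symm

/-- The classification of the binary coset actions. -/
theorem binary_iff (H : Subgroup (Cfsg.Sz F m)) (hH : H ≠ ⊤) :
    BinaryAct H ↔ (H = ⊥ ∨ ∃ k : Cfsg.Sz F m, ∀ g, g ∈ H ↔ k⁻¹ * g * k ∈ centreInf D) := by
  classical
  haveI := D.char2
  have hS := szLike D hF
  constructor
  · intro hb
    by_contra hcon
    push_neg at hcon
    obtain ⟨hbot, hcon⟩ := hcon
    by_cases hinv : ∃ t ∈ H, orderOf t = 2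
    · obtain ⟨t, htH, ht⟩ := hinv
      obtain ⟨k, hk⟩ := invol_conj D hF ht (invol_gT D hF (one_ne_zero (α := F)))
      set H' := H.map (MulAut.conj k).toMonoidHom with hH'
      have hmem : ∀ g, g ∈ H ↔ MulAut.conj k g ∈ H' := fun g =>
        (Subgroup.mem_map_iff_mem (MulAut.conj k).injective).symm
      have hb' : BinaryAct H' := binary_of_equiv (MulAut.conj k) H H' hmem hb
      have h1 : gT D 0 1 ∈ H' := hk ▸ (hmem t).1 htH
      have hH'top : H' ≠ ⊤ := fun e => hH (eq_top_iff.2 fun g _ => (hmem g).2 (e ▸ Subgroup.mem_top _))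
      by_cases hpart : ∃ c, gT D 0 c ∉ H'
      · exact not_binary_centre D hF hH'top h1 hpart hb'
      push_neg at hpart
      -- the subgroup fixes infinity
      have hleI : ∀ g ∈ H', g • oI D = oI D := by
        have hne' : H' ≠ ⊥ := fun e =>
          (orderOf_two_iff.1 (invol_gT D hF (one_ne_zero (α := F)))).1 (Subgroup.mem_bot.1 (e ▸ h1))
        let f : F → H' := fun c => ⟨gT D 0 c, hpart c⟩
        by_cases hA : ∀ A : Subgroup (Cfsg.Sz F m), A ≤ H' → H' ≤ Subgroup.normalizer (A : Set (Cfsg.Sz F m)) →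
            (∀ a ∈ A, ∀ b ∈ A, Commute a b) → A = ⊥
        · exfalso
          haveI : Nontrivial H' := (Subgroup.nontrivial_iff_ne_bot _).2 hne'
          haveI := Fact.mk Nat.prime_two
          obtain ⟨z, t', -, -, hz8, -, ht', hCcard, hZcard, hMcard, -⟩ :=
            (hS.subgroup H').shape fun A hAn hAc => normal_abelian_map H' A hAn hA hAc
          obtain ⟨P, hP⟩ := (hS.subgroup H').exists_sylow (t := (⟨gT D 0 1, h1⟩ : H')) (by
            rw [← Subgroup.orderOf_coe]; exact invol_gT D hF one_ne_zero)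
          obtain ⟨P', hP'⟩ := (hS.subgroup H').exists_sylow ht'
          obtain ⟨g, hg⟩ := MulAction.exists_smul_eq H' P P'
          have hin : ∀ c, g * f c * g⁻¹ ∈ Subgroup.centralizer {t'} ∧ (g * f c * g⁻¹) ^ 2 = 1 := by
            intro c
            constructor
            · rw [← hP', ← hg]
              exact Subgroup.smul_mem_pointwise_smul (f c) (MulAut.conj g) _ (by
                rw [hP]
                exact mem_centralizer_one.2 (Subtype.ext
                  (commute_central D hF (b := 1) ⟨gT D 0 c, 0, c, rfl⟩).eq.symm))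
            · rw [conj_pow, show (f c) ^ 2 = 1 from Subtype.ext (by
                show gT D 0 c ^ 2 = 1
                rw [pow_two, gT_mul]; simp [D.add_self, gT_zero]), mul_one, mul_inv_cancel]
          have hqz := Nat.card_le_card_of_injective
            (fun c : F => (⟨g * f c * g⁻¹, hin c⟩ : {v : H' // v ∈ Subgroup.centralizer {t'} ∧ v ^ 2 = 1}))
            fun c c' e => gT_center_inj D (congrArg Subtype.val (mul_left_cancel (mul_right_cancel (congrArg Subtype.val e))))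
          rw [hZcard, Nat.card_eq_fintype_card] at hqz
          refine hH'top (Subgroup.eq_top_of_le_card H' ?_)
          rw [hMcard, card_sz D hF, show Fintype.card F ^ 2 * (Fintype.card F ^ 2 + 1) * (Fintype.card F - 1) =
            (Fintype.card F ^ 2 + 1) * (Fintype.card F ^ 2 * (Fintype.card F - 1)) by ring]
          gcongr
        · push_neg at hA
          obtain ⟨A, -, hMA, hAc, hA⟩ := hA
          rcases local_cases D hF H' A hMA hAc hA with ⟨p, hp⟩ | ⟨U, hU, hMU⟩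
          · have := unique_fix D hF (a := 0) (b := 1) (Or.inr one_ne_zero) (hp h1)
            subst this
            exact fun g hg => hp hg
          · exfalso
            obtain ⟨C, rfl⟩ := cls_of_local D hF hU
            set N := Subgroup.normalizer (C.1 : Set (Cfsg.Sz F m))
            have hsub : ∀ c, gT D 0 c ∈ (Subgroup.centralizer {gT D 0 1} ⊓ N : Subgroup (Cfsg.Sz F m)) := fun c =>
              ⟨mem_centralizer_one.2 ((commute_central D hF (b := 1) ⟨gT D 0 c, 0, c, rfl⟩).symm), hMU (hpart c)⟩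
            obtain ⟨l, hl, hν⟩ := cls_type D hF C
            have hl' : l = 2 ∨ l = 4 := by rcases hl with ⟨-, b⟩ | ⟨-, b⟩ | ⟨-, b⟩ <;> omega
            obtain ⟨hK, -⟩ := cls_point_part hS C (invol_gT D hF one_ne_zero) (hsub 1).2 hl' hν
            have := Nat.card_le_card_of_injective (fun c : F => (⟨gT D 0 c, hsub c⟩ :
              (Subgroup.centralizer {gT D 0 1} ⊓ N : Subgroup (Cfsg.Sz F m))))
              fun c c' e => gT_center_inj D (congrArg Subtype.val e)
            rw [hK, Nat.card_eq_fintype_card] at this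
            have := D.card_big hF
            have := Nat.one_le_two_pow (n := m)
            omega
      by_cases hodd : ∃ x ∈ H', x ≠ 1 ∧ Odd (orderOf x)
      · obtain ⟨x, hxH, hx, hxo⟩ := hodd
        exact not_binary_mixed D hF hleI h1 (invol_gT D hF one_ne_zero) hxH hx hxo hb'
      push_neg at hodd
      have hQ : H' ≤ Q D := by
        intro g hg
        rw [mem_Q_iff D hF]
        by_cases hg1 : g = 1
        · exact Or.inl hg1
        refine Or.inr ⟨hleI g hg, fun p hp => ?_⟩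
        by_contra hne
        exact hodd g hg hg1 (odd_orderOf_of_twoFix D hF ⟨p, oI D, hne, hp, hleI g hg⟩)
      by_cases hzero : ∀ g ∈ H', ∃ c, g = gT D 0 c
      · apply (hcon k⁻¹).elim
        rintro g (⟨hg, hn⟩ | ⟨hn, hc'⟩)
        · apply hn
          rw [inv_inv]
          obtain ⟨c, hc⟩ := hzero _ ((hmem g).1 hg)
          exact ⟨c, hc⟩
        · obtain ⟨c, hc⟩ := hc'
          rw [inv_inv] at hc
          refine hn ((hmem g).2 ?_)
          show k * g * k⁻¹ ∈ H'
          rw [hc]; exact hpart c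
      push_neg at hzero
      obtain ⟨g, hg, hgne⟩ := hzero
      obtain ⟨a₁, b₁, rfl⟩ := hQ hg
      have ha : a₁ ≠ 0 := fun e => hgne b₁ (by rw [e])
      by_cases hfull : ∀ a b, gT D a b ∈ H'
      · refine not_binary_sylow D hF (fun g => ⟨fun h => hQ h, ?_⟩) hb'
        rintro ⟨a, b, rfl⟩
        exact hfull a b
      push_neg at hfull
      obtain ⟨a₂, b₂, hno⟩ := hfull
      exact not_binary_layer D hF hQ hpart ha hg hno hb'
    · push_neg at hinv
      have hHodd : ∀ g ∈ H, g ≠ 1 → Odd (orderOf g) := fun g hg hg1 => by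
        by_contra he
        obtain ⟨n, hn⟩ := hS.exists_invol_pow he
        exact hinv _ (pow_mem hg n) hn
      haveI : Nontrivial H := (Subgroup.nontrivial_iff_ne_bot _).2 hbot
      by_cases hA : ∀ A : Subgroup (Cfsg.Sz F m), A ≤ H → H ≤ Subgroup.normalizer (A : Set (Cfsg.Sz F m)) →
          (∀ a ∈ A, ∀ b ∈ A, Commute a b) → A = ⊥
      · obtain ⟨z, t, -, -, -, -, ht, -⟩ := (hS.subgroup H).shape fun A hAn hAc => normal_abelian_map H A hAn hA hAc
        exact hinv t t.2 (by rw [Subgroup.orderOf_coe, ht])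
      · push_neg at hA
        obtain ⟨A, hAH, hMA, hAc, hA⟩ := hA
        haveI : Nontrivial A := (Subgroup.nontrivial_iff_ne_bot A).2 hA
        obtain ⟨⟨a, haA⟩, ha⟩ := exists_ne (1 : A)
        have ha1 : a ≠ 1 := fun e => ha (Subtype.ext e)
        have hao := hHodd a (hAH haA) ha1
        refine not_binary_cyclic D hF ha1 hao (hAH haA) (fun g hg => ?_) hb
        set C := clsOf ha1 hao
        have hgN : g ∈ Subgroup.normalizer (C.1 : Set (Cfsg.Sz F m)) := by
          have h1 := (Subgroup.mem_normalizer_iff.1 (hMA hg) a).1 haA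
          have h2 := (hS.odd_cyc a ha1 hao).2.2.1 _ (mem_centralizer_one.2 (hAc _ h1 _ haA))
            fun e => ha1 (conj_eq_one_iff.1 e)
          rw [Subgroup.mem_normalizer_iff]
          intro y
          show y ∈ Subgroup.centralizer {a} ↔ g * y * g⁻¹ ∈ Subgroup.centralizer {a}
          conv_rhs => rw [← h2]
          exact conj_mem_centralizer.symm
        by_cases hg1 : g = 1
        · rw [hg1]; exact one_mem _
        exact cls_odd_mem hS C hgN (hHodd g hg hg1)
  · rintro (rfl | ⟨k, hk⟩)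
    · exact binary_bot
    · refine binary_of_equiv (MulAut.conj k) (centreInf D) H (fun g => ?_) (binary_centre D hF)
      rw [hk]
      show _ ↔ k⁻¹ * (k * g * k⁻¹) * k ∈ _
      rw [show k⁻¹ * (k * g * k⁻¹) * k = g by group]

end Cfsg.Agent.Suzuki
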