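/-
The principal series of a Suzuki group.
-/
import Cfsg.Agent.Lib.Suzuki.SubSz
import Cfsg.Agent.Lib.CT.Orthogonality
import Cfsg.Agent.Lib.CT.Induced
import Mathlib

set_option autoImplicit false

namespace Cfsg.Agent.Suzuki

open scoped ComplexConjugate
open Cfsg.Agent.CT
open scoped Classical

universe u

variable {F : Type u} [Field F] [Fintype F] {m : ℕ} (D : Dat F m)

/-- The stabiliser of infinity. -/
noncomputable abbrev Bo : Subgroup (Cfsg.Sz F m) := MulAction.stabilizer (Cfsg.Sz F m) (oI D)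

theorem mem_Bo {g : Cfsg.Sz F m} : g ∈ Bo D ↔ g • oI D = oI D := MulAction.mem_stabilizer_iff

variable (hF : Fintype.card F = 2 ^ (2 * m + 1))
include hF

theorem exists_tor (g : Bo D) : ∃ u : Fˣ, ∃ a b, (g : Cfsg.Sz F m) = gT D a b * gH D u := by
  obtain ⟨a, b, u, h⟩ := gfix_inf D hF ((mem_Bo D).1 g.2)
  exact ⟨u, a, b, h⟩

/-- The torus part of a stabilising element. -/
noncomputable def torPart (g : Bo D) : Fˣ := (exists_tor D hF g).choose

theorem torPart_eq (g : Bo D) {a b : F} {u : Fˣ} (h : (g : Cfsg.Sz F m) = gT D a b * gH D u) : torPart D hF g = u := by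
  obtain ⟨a', b', h'⟩ := (exists_tor D hF g).choose_spec
  have e := h'.symm.trans h
  have e2 := congrArg (fun y : Cfsg.Sz F m => y • oP D 1 0) e
  simp only [mul_smul, gH_oP, gT_oP, mul_one, mul_zero] at e2
  have e3 := congrArg (fun y : Cfsg.Sz F m => y • oP D 0 0) e
  simp only [mul_smul, gH_oP, gT_oP, mul_zero, zero_add, add_zero] at e3
  obtain ⟨f1, -⟩ := pP_inj D (congrArg Subtype.val e2)
  obtain ⟨g1, -⟩ := pP_inj D (congrArg Subtype.val e3)
  show (exists_tor D hF g).choose = u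
  exact Units.ext (D.sq_inj (by linear_combination f1 - g1))

theorem torPart_gH (u : Fˣ) (h : gH D u ∈ Bo D) : torPart D hF ⟨gH D u, h⟩ = u :=
  torPart_eq D hF _ (a := 0) (b := 0) (by rw [gT_zero, one_mul])

/-- The projection of the stabiliser onto the torus. -/
noncomputable def torHom : Bo D →* Fˣ where
  toFun := torPart D hF
  map_one' := torPart_eq D hF _ (a := 0) (b := 0) (by rw [gT_zero, gH_one, one_mul]; rfl)
  map_mul' g h := by
    obtain ⟨u, a, b, hg⟩ := exists_tor D hF g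
    obtain ⟨v, c, d, hh⟩ := exists_tor D hF h
    rw [torPart_eq D hF g hg, torPart_eq D hF h hh]
    refine torPart_eq D hF _ (a := a + (u : F) ^ 2 * c)
      (b := b + (kap D u : F) * d + D.θ a * ((u : F) ^ 2 * c)) ?_
    rw [Subgroup.coe_mul, hg, hh, ← gT_mul, ← gH_scale, ← gH_mul]
    group

/-- A linear character of the stabiliser. -/
noncomputable def lamB (θ : Fˣ →* ℂˣ) : Bo D → ℂ := fun g => ((θ (torHom D hF g) : ℂˣ) : ℂ)

theorem lamB_isIrr (θ : Fˣ →* ℂˣ) : IsIrrCharacter (Bo D) (lamB D hF θ) :=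
  isIrrCharacter_lin (θ.comp (torHom D hF))

/-- The principal series. -/
noncomputable def ps [Fintype (Cfsg.Sz F m)] (θ : Fˣ →* ℂˣ) : Cfsg.Sz F m → ℂ := indFun (Bo D) (lamB D hF θ)

/-- The points as an optional pair. -/
noncomputable def ptK : Option (F × F) → Cfsg.Sz F m
  | none => 1
  | some p => gT D p.1 p.2 * gw D

omit hF in
theorem ptK_bij : Function.Bijective (fun o : Option (F × F) => ptK D o • oI D) := by
  constructor
  · rintro (_ | ⟨x, y⟩) (_ | ⟨x', y'⟩) h <;> simp only [ptK, one_smul, mul_smul, gw_oI, gT_oP, zero_add, mul_zero, add_zero] at h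
    · rfl
    · exact absurd h (oI_ne_oP D _ _)
    · exact absurd h.symm (oI_ne_oP D _ _)
    · obtain ⟨h1, h2⟩ := pP_inj D (congrArg Subtype.val h)
      rw [h1, h2]
  · intro p
    rcases o_cases D p with rfl | ⟨x, y, rfl⟩
    · exact ⟨none, by simp [ptK]⟩
    · exact ⟨some (x, y), by simp [ptK, mul_smul, gw_oI, gT_oP]⟩

variable [Fintype (Cfsg.Sz F m)]

theorem ext_conj (θ : Fˣ →* ℂˣ) (g b : Cfsg.Sz F m) (hb : b ∈ Bo D) :
    extendByZero (Bo D) (lamB D hF θ) (b⁻¹ * g * b) = extendByZero (Bo D) (lamB D hF θ) g := by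
  by_cases hg : g ∈ Bo D
  · rw [extendByZero_mem _ _ (mul_mem (mul_mem (inv_mem hb) hg) hb), extendByZero_mem _ _ hg]
    exact ((isClassFunction_of_isIrr (lamB_isIrr D hF θ)) ⟨g, hg⟩ (⟨b, hb⟩ : Bo D)⁻¹ |> fun h => by
      refine Eq.trans (congrArg (lamB D hF θ) (Subtype.ext ?_)) h
      simp)
  · rw [extendByZero_not_mem _ _ hg, extendByZero_not_mem _ _ fun h => hg ?_]
    have := mul_mem (mul_mem hb h) (inv_mem hb)
    rwa [show b * (b⁻¹ * g * b) * b⁻¹ = g by group] at this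

/-- The principal series as a sum over the points. -/
theorem ps_apply (θ : Fˣ →* ℂˣ) (g : Cfsg.Sz F m) :
    ps D hF θ g = ∑ o : Option (F × F), extendByZero (Bo D) (lamB D hF θ) ((ptK D o)⁻¹ * g * ptK D o) := by
  classical
  haveI := Fintype.ofFinite (Bo D)
  let e : Option (F × F) × Bo D ≃ Cfsg.Sz F m := Equiv.ofBijective (fun p => ptK D p.1 * p.2) (by
    constructor
    · rintro ⟨o, b⟩ ⟨o', b'⟩ h
      have h1 := congrArg (fun y : Cfsg.Sz F m => y • oI D) h
      simp only [mul_smul, (mem_Bo D).1 b.2, (mem_Bo D).1 b'.2] at h1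
      obtain rfl := (ptK_bij D).1 h1
      exact Prod.ext rfl (Subtype.ext (mul_left_cancel h))
    · intro x
      obtain ⟨o, ho⟩ := (ptK_bij D).2 (x • oI D)
      refine ⟨(o, ⟨(ptK D o)⁻¹ * x, ?_⟩), by simp⟩
      rw [mem_Bo, mul_smul, inv_smul_eq_iff]
      exact ho.symm)
  simp only [ps, indFun]
  rw [← e.sum_comp, Fintype.sum_prod_type]
  have h : ∀ o : Option (F × F), ∑ b : Bo D, extendByZero (Bo D) (lamB D hF θ) ((e (o, b))⁻¹ * g * e (o, b)) =
      (Nat.card (Bo D) : ℂ) * extendByZero (Bo D) (lamB D hF θ) ((ptK D o)⁻¹ * g * ptK D o) := by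
    intro o
    rw [Finset.sum_congr rfl (g := fun _ => extendByZero (Bo D) (lamB D hF θ) ((ptK D o)⁻¹ * g * ptK D o)) fun b _ => by
      show extendByZero (Bo D) (lamB D hF θ) ((ptK D o * b)⁻¹ * g * (ptK D o * b)) = _
      rw [show (ptK D o * b)⁻¹ * g * (ptK D o * b) = (b : Cfsg.Sz F m)⁻¹ * ((ptK D o)⁻¹ * g * ptK D o) * b by group]
      exact ext_conj D hF θ _ b b.2, Finset.sum_const, Finset.card_univ, nsmul_eq_mul, Nat.card_eq_fintype_card]
  rw [Finset.sum_congr rfl fun o _ => h o, ← Finset.mul_sum, ← mul_assoc,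
    inv_mul_cancel₀ (Nat.cast_ne_zero.mpr Nat.card_pos.ne'), one_mul]

theorem ps_fpf (θ : Fˣ →* ℂˣ) {g : Cfsg.Sz F m} (hg : ∀ p : Cfsg.suzukiOvoid F m, g • p ≠ p) : ps D hF θ g = 0 := by
  rw [ps_apply]
  refine Finset.sum_eq_zero fun o _ => extendByZero_not_mem _ _ fun h => hg (ptK D o • oI D) ?_
  rwa [mem_Bo, mul_smul, mul_smul, inv_smul_eq_iff] at h

theorem ps_one (θ : Fˣ →* ℂˣ) : ps D hF θ 1 = ((Fintype.card F ^ 2 + 1 : ℕ) : ℂ) := by
  classical
  rw [ps_apply, Finset.sum_congr rfl (g := fun _ => (1 : ℂ)) fun o _ => by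
    rw [show (ptK D o)⁻¹ * 1 * ptK D o = 1 by group, extendByZero_mem _ _ (one_mem _)]
    show lamB D hF θ 1 = 1
    simp [lamB]]
  simp [Fintype.card_option, Fintype.card_prod, pow_two]

theorem sum_hom (χ : Fˣ →* ℂˣ) :
    ∑ u : Fˣ, (χ u : ℂ) = if χ = 1 then ((Fintype.card F - 1 : ℕ) : ℂ) else 0 := by
  classical
  split_ifs with h
  · subst h; simp [Fintype.card_units]
  · obtain ⟨v, hv⟩ := DFunLike.ne_iff.1 h
    have e : (χ v : ℂ) * ∑ u : Fˣ, (χ u : ℂ) = ∑ u : Fˣ, (χ u : ℂ) := by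
      rw [Finset.mul_sum]
      exact Fintype.sum_equiv (Equiv.mulLeft v) _ _ fun u => by simp
    exact (mul_left_eq_self₀.1 e).resolve_left fun e1 => hv (by rw [MonoidHom.one_apply]; exact Units.ext e1)

omit hF [Fintype F] [Fintype (Cfsg.Sz F m)] in
theorem conj_hom [Finite Fˣ] (χ : Fˣ →* ℂˣ) (u : Fˣ) : conj (χ u : ℂ) = (χ⁻¹ u : ℂ) := by
  obtain ⟨n, hn, h⟩ := isOfFinOrder_iff_pow_eq_one.1 (isOfFinOrder_of_finite u)
  have h1 : (χ u : ℂ) ^ n = 1 := by rw [← Units.val_pow_eq_pow_val, ← map_pow, h, map_one, Units.val_one]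
  rw [MonoidHom.inv_apply, Units.val_inv_eq_inv_val, ← Complex.inv_eq_conj
    (Complex.norm_eq_one_of_pow_eq_one h1 hn.ne')]

theorem sum_tor [Fintype (Bo D)] (f : Fˣ → ℂ) :
    ∑ g : Bo D, f (torHom D hF g) = ((Fintype.card F ^ 2 : ℕ) : ℂ) * ∑ u : Fˣ, f u := by
  classical
  let e : (F × F) × Fˣ ≃ Bo D := Equiv.ofBijective
    (fun p => ⟨gT D p.1.1 p.1.2 * gH D p.2, by rw [mem_Bo, mul_smul, gH_oI, gT_oI]⟩) (by
      constructor
      · rintro ⟨⟨a, b⟩, u⟩ ⟨⟨a', b'⟩, u'⟩ h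
        have h' := congrArg Subtype.val h
        simp only at h'
        have hu : u = u' := (torPart_eq D hF ⟨_, by rw [mem_Bo, mul_smul, gH_oI, gT_oI]⟩ (u := u) rfl).symm.trans
          (torPart_eq D hF _ (u := u') h')
        subst hu
        obtain ⟨rfl, rfl⟩ := gT_inj D (mul_right_cancel h')
        rfl
      · intro g
        obtain ⟨u, a, b, h⟩ := exists_tor D hF g
        exact ⟨((a, b), u), Subtype.ext h.symm⟩)
  rw [← e.sum_comp, Fintype.sum_prod_type, Finset.sum_congr rfl fun p _ => Finset.sum_congr rfl fun u _ => by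
    rw [show torHom D hF (e (p, u)) = u from torPart_eq D hF _ rfl], Finset.sum_const, Finset.card_univ,
    Fintype.card_prod, nsmul_eq_mul, ← pow_two]

/-- The scalar products of the principal series. -/
theorem ps_inner (θ θ' : Fˣ →* ℂˣ) :
    classInner (ps D hF θ) (ps D hF θ') = (if θ = θ' then 1 else 0) + if θ * θ' = 1 then 1 else 0 := by
  classical
  haveI := Fintype.ofFinite (Bo D)
  have hcard : (Nat.card (Bo D) : ℂ) = ((Fintype.card F ^ 2 : ℕ) : ℂ) * ((Fintype.card F - 1 : ℕ) : ℂ) := by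
    rw [← Nat.cast_mul, card_stab_point D hF]
  have hcpos : ((Fintype.card F ^ 2 : ℕ) : ℂ) ≠ 0 := Nat.cast_ne_zero.mpr (pow_ne_zero _ Fintype.card_ne_zero)
  have hupos : ((Fintype.card F - 1 : ℕ) : ℂ) ≠ 0 := by
    rw [← Fintype.card_units]; exact Nat.cast_ne_zero.mpr Fintype.card_ne_zero
  simp only [ps]
  rw [frobenius_reciprocity _ _ (isClassFunction_indFun _ _), classInner,
    Finset.sum_congr rfl fun g _ => by rw [← ps, ps_apply, map_sum, Finset.mul_sum], Finset.sum_comm,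
    Fintype.sum_option, hcard]
  -- the point infinity
  have h0 : ∑ g : Bo D, lamB D hF θ g * conj (extendByZero (Bo D) (lamB D hF θ') ((ptK D none)⁻¹ * g * ptK D none)) =
      ((Fintype.card F ^ 2 : ℕ) : ℂ) * ∑ u : Fˣ, ((θ * θ'⁻¹) u : ℂ) := by
    rw [← sum_tor D hF]
    refine Finset.sum_congr rfl fun g _ => ?_
    rw [show (ptK D none)⁻¹ * (g : Cfsg.Sz F m) * ptK D none = g by simp [ptK], extendByZero_coe]
    rw [show conj (lamB D hF θ' g) = (θ'⁻¹ (torHom D hF g) : ℂ) from conj_hom θ' _, MonoidHom.mul_apply, Units.val_mul]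
    rfl
  -- the other points
  have h1 : ∀ p : F × F,
      ∑ g : Bo D, lamB D hF θ g * conj (extendByZero (Bo D) (lamB D hF θ') ((ptK D (some p))⁻¹ * g * ptK D (some p))) =
        ∑ u : Fˣ, ((θ * θ') u : ℂ) := by
    intro p
    set τ : Bo D := ⟨gT D p.1 p.2, by rw [mem_Bo, gT_oI]⟩
    rw [← Equiv.sum_comp (MulAut.conj τ).toEquiv]
    let T : Fˣ ↪ Bo D := ⟨fun u => ⟨gH D u, by rw [mem_Bo, gH_oI]⟩, fun u v h => by
      have h' := (torPart_gH D hF u (by rw [mem_Bo, gH_oI])).symm.trans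
        ((congrArg (torPart D hF) h).trans (torPart_gH D hF v (by rw [mem_Bo, gH_oI])))
      exact h'⟩
    rw [← Finset.sum_subset (Finset.subset_univ (Finset.univ.map T)), Finset.sum_map]
    · refine Finset.sum_congr rfl fun u _ => ?_
      have e1 : (ptK D (some p))⁻¹ * (((MulAut.conj τ).toEquiv (T u) : Bo D) : Cfsg.Sz F m) * ptK D (some p) = gH D u⁻¹ := by
        show (gT D p.1 p.2 * gw D)⁻¹ * (gT D p.1 p.2 * gH D u * (gT D p.1 p.2)⁻¹) * (gT D p.1 p.2 * gw D) = _
        rw [← gw_gH, mul_inv_rev, show (gw D)⁻¹ = gw D from inv_eq_of_mul_eq_one_right (gw_sq D)]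
        group
      show lamB D hF θ (MulAut.conj τ (T u)) * _ = _
      rw [e1, extendByZero_mem _ _ (show gH D u⁻¹ ∈ Bo D by rw [mem_Bo, gH_oI]),
        MulAut.conj_apply, isClassFunction_of_isIrr (lamB_isIrr D hF θ)]
      show ((θ (torPart D hF ⟨gH D u, _⟩) : ℂˣ) : ℂ) * conj ((θ' (torPart D hF ⟨gH D u⁻¹, _⟩) : ℂˣ) : ℂ) = _
      rw [torPart_gH, torPart_gH, conj_hom, map_inv, MonoidHom.inv_apply, inv_inv, MonoidHom.mul_apply, Units.val_mul]
    · intro g _ hg
      rw [extendByZero_not_mem, map_zero, mul_zero]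
      intro hmem
      apply hg
      have h2 : ((ptK D (some p))⁻¹ * (((MulAut.conj τ).toEquiv g : Bo D) : Cfsg.Sz F m) * ptK D (some p)) • oI D = oI D :=
        (mem_Bo D).1 hmem
      have h3 : (g : Cfsg.Sz F m) • oP D 0 0 = oP D 0 0 := by
        have e : (ptK D (some p))⁻¹ * (((MulAut.conj τ).toEquiv g : Bo D) : Cfsg.Sz F m) * ptK D (some p) =
            (gw D)⁻¹ * g * gw D := by
          show (gT D p.1 p.2 * gw D)⁻¹ * (gT D p.1 p.2 * g * (gT D p.1 p.2)⁻¹) * (gT D p.1 p.2 * gw D) = _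
          group
        rwa [e, mul_smul, mul_smul, gw_oI, inv_smul_eq_iff, gw_oI] at h2
      obtain ⟨a, b, u, hu⟩ := gfix_inf D hF ((mem_Bo D).1 g.2)
      rw [hu, mul_smul, gH_oP, mul_zero, mul_zero, gT_oP] at h3
      obtain ⟨e1, e2⟩ := pP_inj D (congrArg Subtype.val h3)
      rw [zero_add] at e1
      subst e1
      simp only [map_zero, zero_mul, zero_add, add_zero] at e2
      subst e2
      rw [gT_zero, one_mul] at hu
      exact Finset.mem_map.2 ⟨u, Finset.mem_univ _, Subtype.ext hu.symm⟩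
  rw [h0, Finset.sum_congr rfl fun p _ => h1 p, sum_hom hF, sum_hom hF, Finset.sum_const, Finset.card_univ,
    Fintype.card_prod, nsmul_eq_mul]
  have h3 : θ * θ'⁻¹ = 1 ↔ θ = θ' := ⟨fun e => MonoidHom.ext fun u => mul_inv_eq_one.1 (DFunLike.congr_fun e u),
    fun e => by subst e; ext u; simp⟩
  simp only [h3]
  push_cast
  split_ifs <;> field_simp <;> ring

theorem ps_isChar (θ : Fˣ →* ℂˣ) : IsCharacter (Cfsg.Sz F m) (ps D hF θ) :=
  isCharacter_indFun _ (isCharacter_of_isIrr (lamB_isIrr D hF θ))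

omit hF [Fintype (Cfsg.Sz F m)] in
theorem hom_sq_ne (hF : Fintype.card F = 2 ^ (2 * m + 1)) {θ : Fˣ →* ℂˣ} (h : θ ≠ 1) : θ * θ ≠ 1 := by
  intro e
  apply h
  ext u
  obtain ⟨v, hv⟩ := (powCoprime (G := Fˣ) (n := 2) (by
    rw [Nat.card_units, Nat.card_eq_fintype_card, hF]
    exact Nat.coprime_two_right.2 (Nat.Even.sub_odd Nat.one_le_two_pow (Nat.even_pow.2 ⟨even_two, by omega⟩) odd_one))).surjective u
  have hv' : v ^ 2 = u := hv
  rw [← hv', map_pow, pow_two, ← MonoidHom.mul_apply, e]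
  simp

theorem ps_irr {θ : Fˣ →* ℂˣ} (h : θ ≠ 1) : IsIrrCharacter (Cfsg.Sz F m) (ps D hF θ) := by
  classical
  refine isIrr_of_inner_self (ps_isChar D hF θ) ?_
  rw [ps_inner, if_pos rfl, if_neg (hom_sq_ne hF h), add_zero]

theorem ps_triv_inner : classInner (ps D hF 1) (fun _ => (1 : ℂ)) = 1 := by
  classical
  haveI := Fintype.ofFinite (Bo D)
  rw [ps, frobenius_reciprocity _ _ (isClassFunction_of_isIrr isIrrCharacter_one)]
  rw [show lamB D hF 1 = fun _ => (1 : ℂ) from funext fun g => by simp [lamB]]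
  exact irr_inner_self isIrrCharacter_one

/-- The Steinberg character. -/
noncomputable def stb : Cfsg.Sz F m → ℂ := ps D hF 1 - fun _ => 1

theorem stb_irr : IsIrrCharacter (Cfsg.Sz F m) (stb D hF) := by
  classical
  refine isIrr_of_isGen_norm_one (isGen_sub ⟨_, 0, ps_isChar D hF 1, isCharacter_zero, (sub_zero _).symm⟩
    (isGen_of_isIrr isIrrCharacter_one)) ?_ ?_
  · rw [stb, classInner_sub_left, classInner_sub_right, classInner_sub_right, ps_inner, if_pos rfl,
      if_pos (mul_one (1 : Fˣ →* ℂˣ)), ps_triv_inner, irr_inner_self isIrrCharacter_one,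
      ← classInner_conj_symm, ps_triv_inner, map_one]
    ring
  · rw [stb, Pi.sub_apply, ps_one]
    simp only [Nat.cast_add, Nat.cast_pow, Nat.cast_one, add_sub_cancel_right]
    norm_cast
    exact pow_pos Fintype.card_pos 2

/-- A character outside the principal series. -/
def Cusp (χ : Cfsg.Sz F m → ℂ) : Prop := ∀ θ : Fˣ →* ℂˣ, classInner χ (ps D hF θ) = 0

theorem not_cusp_cases {χ : IrrCharacter (Cfsg.Sz F m)} (h : ¬ Cusp D hF (χ : Cfsg.Sz F m → ℂ)) :
    (χ : Cfsg.Sz F m → ℂ) = (fun _ => 1) ∨ (χ : Cfsg.Sz F m → ℂ) = stb D hF ∨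
      ∃ θ, θ ≠ 1 ∧ (χ : Cfsg.Sz F m → ℂ) = ps D hF θ := by
  classical
  obtain ⟨θ, hθ⟩ := not_forall.1 h
  by_cases h1 : θ = 1
  · subst h1
    by_contra hcon
    push_neg at hcon
    apply hθ
    rw [show ps D hF 1 = (fun _ => (1 : ℂ)) + stb D hF by simp [stb], classInner_add_right,
      irr_inner_of_ne χ.2 isIrrCharacter_one hcon.1, irr_inner_of_ne χ.2 (stb_irr D hF) hcon.2.1, add_zero]
  · exact Or.inr (Or.inr ⟨θ, h1, by_contra fun hne => hθ (irr_inner_of_ne χ.2 (ps_irr D hF h1) hne)⟩)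

theorem cusp_iff {χ : IrrCharacter (Cfsg.Sz F m)} :
    Cusp D hF (χ : Cfsg.Sz F m → ℂ) ↔ (χ : Cfsg.Sz F m → ℂ) ≠ (fun _ => 1) ∧ (χ : Cfsg.Sz F m → ℂ) ≠ stb D hF ∧
      ∀ θ, θ ≠ 1 → (χ : Cfsg.Sz F m → ℂ) ≠ ps D hF θ := by
  classical
  constructor
  · intro h
    refine ⟨fun e => ?_, fun e => ?_, fun θ hθ e => ?_⟩
    · have h' := h 1
      rw [e, ← classInner_conj_symm, ps_triv_inner, map_one] at h'
      exact one_ne_zero h'
    · have h' := h 1
      rw [e, show ps D hF 1 = (fun _ => (1 : ℂ)) + stb D hF by simp [stb], classInner_add_right,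
        irr_inner_self (stb_irr D hF),
        irr_inner_of_ne (stb_irr D hF) isIrrCharacter_one (fun e' => by
          have h1 := congrFun e' 1
          simp only [stb, Pi.sub_apply, ps_one, Nat.cast_add, Nat.cast_pow, Nat.cast_one, add_sub_cancel_right] at h1
          have h2 : Fintype.card F ^ 2 = 1 := by exact_mod_cast h1
          have h3 := Fintype.one_lt_card (α := F)
          have := Nat.one_lt_pow two_ne_zero h3
          omega), zero_add] at h'
      exact one_ne_zero h'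
    · have h' := h θ
      rw [e, irr_inner_self (ps_irr D hF hθ)] at h'
      exact one_ne_zero h'
  · rintro ⟨h1, h2, h3⟩
    by_contra h
    rcases not_cusp_cases D hF h with e | e | ⟨θ, hθ, e⟩
    exacts [h1 e, h2 e, h3 θ hθ e]

/-- Splitting a sum over the irreducible characters. -/
theorem sum_split 
    [Fintype (Fˣ →* ℂˣ)] (f : (Cfsg.Sz F m → ℂ) → ℂ) :
    ∑ χ : IrrCharacter (Cfsg.Sz F m), f χ =
      f (fun _ => 1) + f (stb D hF) + (2 : ℂ)⁻¹ * ∑ θ ∈ Finset.univ.erase (1 : Fˣ →* ℂˣ), f (ps D hF θ) +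
        ∑ χ ∈ Finset.univ.filter (fun χ : IrrCharacter (Cfsg.Sz F m) => Cusp D hF (χ : Cfsg.Sz F m → ℂ)), f χ := by
  classical
  set E := Finset.univ.erase (1 : Fˣ →* ℂˣ)
  let φ : {θ // θ ∈ E} → IrrCharacter (Cfsg.Sz F m) := fun θ => ⟨_, ps_irr D hF (Finset.ne_of_mem_erase θ.2)⟩
  let c1 : IrrCharacter (Cfsg.Sz F m) := ⟨_, isIrrCharacter_one⟩
  let c2 : IrrCharacter (Cfsg.Sz F m) := ⟨_, stb_irr D hF⟩
  have hq2 : 1 < Fintype.card F ^ 2 := Nat.one_lt_pow two_ne_zero Fintype.one_lt_card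
  have hst : stb D hF 1 = ((Fintype.card F ^ 2 : ℕ) : ℂ) := by simp [stb, ps_one]
  have hc12 : c1 ≠ c2 := fun e => by
    have h := congrFun (congrArg Subtype.val e) 1
    rw [show ((c2 : IrrCharacter (Cfsg.Sz F m)) : Cfsg.Sz F m → ℂ) 1 = _ from hst] at h
    have h' : (1 : ℂ) = ((Fintype.card F ^ 2 : ℕ) : ℂ) := h
    have : (1 : ℕ) = Fintype.card F ^ 2 := by exact_mod_cast h'
    omega
  have hfib : ∀ θ : {θ // θ ∈ E}, (Finset.univ.filter fun θ' => φ θ' = φ θ).card = 2 := by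
    intro θ
    have hne := Finset.ne_of_mem_erase θ.2
    have hinv : θ.1⁻¹ ∈ E := Finset.mem_erase.2 ⟨fun e => hne (MonoidHom.ext fun u => inv_eq_one.1 (DFunLike.congr_fun e u)), Finset.mem_univ _⟩
    rw [Finset.card_eq_two]
    refine ⟨θ, ⟨θ.1⁻¹, hinv⟩, fun e => hom_sq_ne hF hne ?_, ?_⟩
    · nth_rw 2 [show θ.1 = θ.1⁻¹ from congrArg Subtype.val e]
      ext u; simp
    · ext θ'
      simp only [Finset.mem_filter, Finset.mem_univ, true_and, Finset.mem_insert, Finset.mem_singleton, φ, Subtype.ext_iff]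
      constructor
      · intro e
        have h := ps_inner D hF θ'.1 θ.1
        rw [e, irr_inner_self (ps_irr D hF hne)] at h
        by_contra hc
        push_neg at hc
        rw [if_neg hc.1, if_neg fun e' => hc.2 (MonoidHom.ext fun u => eq_inv_of_mul_eq_one_left (DFunLike.congr_fun e' u)), add_zero] at h
        exact one_ne_zero h
      · rintro (e | e)
        · rw [e]
        · by_contra hne'
          have h := irr_inner_of_ne (ps_irr D hF (Finset.ne_of_mem_erase θ'.2)) (ps_irr D hF hne) hne'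
          rw [ps_inner, e, if_pos (show θ.1⁻¹ * θ.1 = 1 by ext u; simp),
            if_neg fun e' => hom_sq_ne hF hne (by nth_rw 1 [← e']; ext u; simp), zero_add] at h
          exact one_ne_zero h
  set P := Finset.univ.image φ
  have hP : ∑ θ ∈ E, f (ps D hF θ) = 2 * ∑ χ ∈ P, f χ := by
    rw [← Finset.sum_attach, Finset.mul_sum, ← Finset.univ_eq_attach]
    rw [← Finset.sum_fiberwise_of_maps_to (g := φ) (t := P) (fun x _ => Finset.mem_image_of_mem _ (Finset.mem_univ _))]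
    refine Finset.sum_congr rfl fun χ hχ => ?_
    obtain ⟨θ, -, rfl⟩ := Finset.mem_image.1 hχ
    rw [Finset.sum_congr rfl (g := fun _ => f (φ θ)) (fun x hx => by
      show f (φ x : Cfsg.Sz F m → ℂ) = _
      rw [(Finset.mem_filter.1 hx).2]), Finset.sum_const, hfib, nsmul_eq_mul, Nat.cast_ofNat]
  have hdeg : ∀ χ ∈ P, (χ : Cfsg.Sz F m → ℂ) 1 = ((Fintype.card F ^ 2 + 1 : ℕ) : ℂ) := by
    intro χ hχ
    obtain ⟨θ, -, rfl⟩ := Finset.mem_image.1 hχ
    exact ps_one D hF _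
  have hN : Finset.univ.filter (fun χ : IrrCharacter (Cfsg.Sz F m) => ¬ Cusp D hF (χ : Cfsg.Sz F m → ℂ)) =
      insert c1 (insert c2 P) := by
    ext χ
    simp only [Finset.mem_filter, Finset.mem_univ, true_and, Finset.mem_insert]
    constructor
    · intro h
      rcases not_cusp_cases D hF h with e | e | ⟨θ, hθ, e⟩
      · exact Or.inl (Subtype.ext e)
      · exact Or.inr (Or.inl (Subtype.ext e))
      · exact Or.inr (Or.inr (Finset.mem_image.2 ⟨⟨θ, Finset.mem_erase.2 ⟨hθ, Finset.mem_univ _⟩⟩, Finset.mem_univ _,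
          Subtype.ext e.symm⟩))
    · intro h hc
      obtain ⟨g1, g2, g3⟩ := (cusp_iff D hF).1 hc
      rcases h with rfl | rfl | h
      · exact g1 rfl
      · exact g2 rfl
      · obtain ⟨θ, -, rfl⟩ := Finset.mem_image.1 h
        exact g3 θ.1 (Finset.ne_of_mem_erase θ.2) rfl
  have n1 : c1 ∉ insert c2 P := by
    rw [Finset.mem_insert]
    rintro (e | e)
    · exact hc12 e
    · have h := hdeg _ e
      have h' : (1 : ℂ) = ((Fintype.card F ^ 2 + 1 : ℕ) : ℂ) := h
      have : (1 : ℕ) = Fintype.card F ^ 2 + 1 := by exact_mod_cast h'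
      omega
  have n2 : c2 ∉ P := fun e => by
    have h := hdeg _ e
    rw [show ((c2 : IrrCharacter (Cfsg.Sz F m)) : Cfsg.Sz F m → ℂ) 1 = _ from hst] at h
    have : Fintype.card F ^ 2 = Fintype.card F ^ 2 + 1 := by exact_mod_cast h
    omega
  rw [← Finset.sum_filter_add_sum_filter_not _ (fun χ : IrrCharacter (Cfsg.Sz F m) => ¬ Cusp D hF (χ : Cfsg.Sz F m → ℂ)),
    hN, Finset.sum_insert n1, Finset.sum_insert n2, hP]
  simp only [not_not, c1, c2]
  ring

theorem card_hom : Nat.card (Fˣ →* ℂˣ) = Fintype.card F - 1 := by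
  rw [CommGroup.card_monoidHom_of_hasEnoughRootsOfUnity, Nat.card_units, Nat.card_eq_fintype_card]

/-- The degree sum over the characters outside the principal series. -/
theorem sum_sq_cusp  :
    ∑ χ ∈ Finset.univ.filter (fun χ : IrrCharacter (Cfsg.Sz F m) => Cusp D hF (χ : Cfsg.Sz F m → ℂ)),
        (χ : Cfsg.Sz F m → ℂ) 1 ^ 2 =
      (Nat.card (Cfsg.Sz F m) : ℂ) - 1 - (Fintype.card F : ℂ) ^ 4 -
        (2 : ℂ)⁻¹ * ((Fintype.card F : ℂ) - 2) * ((Fintype.card F : ℂ) ^ 2 + 1) ^ 2 := by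
  classical
  haveI : Finite (Fˣ →* ℂˣ) := Nat.finite_of_card_ne_zero (by
    rw [card_hom hF, ← Fintype.card_units]; exact Fintype.card_ne_zero)
  haveI := Fintype.ofFinite (Fˣ →* ℂˣ)
  have h := sum_split D hF fun f => f 1 ^ 2
  rw [sum_degree_sq] at h
  simp only [ps_one, stb, Pi.sub_apply] at h
  rw [Finset.sum_const, Finset.card_erase_of_mem (Finset.mem_univ _), Finset.card_univ, ← Nat.card_eq_fintype_card (α := Fˣ →* ℂˣ),
    card_hom hF, nsmul_eq_mul] at h
  have h2 : 2 ≤ Fintype.card F := Fintype.one_lt_card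
  rw [Nat.sub_sub, Nat.cast_sub h2] at h
  push_cast at h
  linear_combination -h

/-- Characters outside the principal series vanish on the torus and have degree divisible by its order. -/
theorem cusp_torus {χ : IrrCharacter (Cfsg.Sz F m)} (h : Cusp D hF (χ : Cfsg.Sz F m → ℂ)) :
    (∀ u : Fˣ, u ≠ 1 → (χ : Cfsg.Sz F m → ℂ) (gH D u) = 0) ∧
      ∃ k : ℕ, (χ : Cfsg.Sz F m → ℂ) 1 = ((Fintype.card F - 1 : ℕ) : ℂ) * k := by
  classical
  haveI := Fintype.ofFinite (Bo D)
  haveI : Finite (Fˣ →* ℂˣ) := Nat.finite_of_card_ne_zero (by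
    rw [card_hom hF, ← Fintype.card_units]; exact Fintype.card_ne_zero)
  haveI := Fintype.ofFinite (Fˣ →* ℂˣ)
  have hcf := isClassFunction_of_isIrr χ.2
  have hvan : ∀ u : Fˣ, u ≠ 1 → (χ : Cfsg.Sz F m → ℂ) (gH D u) = 0 := by
    intro u hu
    -- orthogonality on the stabiliser
    have h0 : ∀ θ : Fˣ →* ℂˣ, ∑ g : Bo D, (χ : Cfsg.Sz F m → ℂ) g * conj (lamB D hF θ g) = 0 := by
      intro θ
      have h1 := h θ
      rw [ps, frobenius_reciprocity' _ hcf, classInner] at h1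
      exact (mul_eq_zero.1 h1).resolve_left (inv_ne_zero (Nat.cast_ne_zero.mpr Nat.card_pos.ne'))
    have h2 : ∑ g : Bo D, (χ : Cfsg.Sz F m → ℂ) g * ∑ θ : Fˣ →* ℂˣ, (θ (u * (torHom D hF g)⁻¹) : ℂ) = 0 := by
      rw [Finset.sum_congr rfl fun g _ => Finset.mul_sum _ _ _, Finset.sum_comm]
      refine Finset.sum_eq_zero fun θ _ => ?_
      rw [← mul_zero (θ u : ℂ), ← h0 θ, Finset.mul_sum]
      refine Finset.sum_congr rfl fun g _ => ?_
      rw [show conj (lamB D hF θ g) = ((θ⁻¹) (torHom D hF g) : ℂ) from conj_hom θ _, map_mul, map_inv,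
        MonoidHom.inv_apply, Units.val_mul]
      ring
    have hz : ∀ w : Fˣ, ∑ θ : Fˣ →* ℂˣ, (θ w : ℂ) = if w = 1 then ((Fintype.card F - 1 : ℕ) : ℂ) else 0 := by
      intro w
      split_ifs with hw
      · subst hw
        simp [← card_hom hF]
      · obtain ⟨θ₀, hθ₀⟩ := CommGroup.exists_apply_ne_one_of_hasEnoughRootsOfUnity Fˣ ℂ hw
        have e : (θ₀ w : ℂ) * ∑ θ : Fˣ →* ℂˣ, (θ w : ℂ) = ∑ θ : Fˣ →* ℂˣ, (θ w : ℂ) := by
          rw [Finset.mul_sum]
          exact Fintype.sum_equiv (Equiv.mulLeft θ₀) _ _ fun θ => by simp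
        exact (mul_left_eq_self₀.1 e).resolve_left fun e1 => hθ₀ (Units.ext e1)
    simp only [hz, mul_inv_eq_one] at h2
    -- the coset of the torus element is one class
    let T : F × F ↪ Bo D := ⟨fun p => ⟨gT D p.1 p.2 * gH D u * (gT D p.1 p.2)⁻¹, by
        rw [mem_Bo, mul_smul, mul_smul, gT_inv, gT_oI, gH_oI, gT_oI]⟩, fun p p' e => by
      have e' := congrArg Subtype.val e
      simp only at e'
      have hc : (gT D p'.1 p'.2)⁻¹ * gT D p.1 p.2 ∈ Subgroup.centralizer {gH D u} := by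
        rw [mem_centralizer_one]
        show (gT D p'.1 p'.2)⁻¹ * gT D p.1 p.2 * gH D u = gH D u * ((gT D p'.1 p'.2)⁻¹ * gT D p.1 p.2)
        calc _ = (gT D p'.1 p'.2)⁻¹ * (gT D p.1 p.2 * gH D u * (gT D p.1 p.2)⁻¹) * gT D p.1 p.2 := by group
          _ = _ := by rw [e']; group
      have hne : gH D u ≠ 1 := fun e1 => hu (by
        have h1 := torPart_gH D hF u (by rw [mem_Bo, gH_oI])
        rw [← h1]
        exact torPart_eq D hF _ (a := 0) (b := 0) (u := 1) (by
          show gH D u = gT D 0 0 * gH D 1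
          rw [e1, gH_one, gT_zero, one_mul]))
      rw [centralizer_twoFix D hF hne (oI_ne_oP D 0 0) (gH_oI D u) (gH_oP0' D u), mem_pairStab] at hc
      have h1 := hc.2
      rw [gT_inv, gT_mul, gT_oP] at h1
      obtain ⟨a1, a2⟩ := pP_inj D (congrArg Subtype.val h1)
      rw [zero_add] at a1
      have e3 : p'.1 = p.1 := D.eq_of_add a1
      rw [e3] at a2
      simp only [mul_zero, zero_add, add_zero] at a2
      refine Prod.ext e3.symm (D.eq_of_add ?_)
      linear_combination a2 - (D.θ p.1 * p.1) * D.two⟩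
    rw [← Finset.sum_subset (Finset.subset_univ (Finset.univ.map T)), Finset.sum_map] at h2
    · rw [Finset.sum_congr rfl (g := fun _ => (χ : Cfsg.Sz F m → ℂ) (gH D u) * ((Fintype.card F - 1 : ℕ) : ℂ))
        (fun (p : F × F) _ => by
          rw [if_pos (show u = torHom D hF (T p) by
            rw [show T p = (⟨gT D p.1 p.2, by rw [mem_Bo, gT_oI]⟩ : Bo D) * ⟨gH D u, by rw [mem_Bo, gH_oI]⟩ *
              (⟨gT D p.1 p.2, by rw [mem_Bo, gT_oI]⟩ : Bo D)⁻¹ from Subtype.ext rfl,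
              map_mul, map_mul, map_inv, mul_right_comm, mul_inv_cancel, one_mul]
            exact (torPart_gH D hF u _).symm)]
          show (χ : Cfsg.Sz F m → ℂ) (gT D p.1 p.2 * gH D u * (gT D p.1 p.2)⁻¹) * _ = _
          rw [hcf]), Finset.sum_const, Finset.card_univ, nsmul_eq_mul] at h2
      rcases mul_eq_zero.1 h2 with h3 | h3
      · exact absurd (Nat.cast_eq_zero.1 h3) Fintype.card_ne_zero
      · refine (mul_eq_zero.1 h3).resolve_right ?_
        rw [← Fintype.card_units]; exact Nat.cast_ne_zero.mpr Fintype.card_ne_zero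
    · intro g _ hg
      rw [if_neg, mul_zero]
      intro e
      apply hg
      obtain ⟨v, a, b, hab⟩ := exists_tor D hF g
      have hv : v = u := (torPart_eq D hF g hab).symm.trans e.symm
      subst hv
      -- the conjugates of the torus element fill the coset
      have hw : ∀ p : F × F, gT D p.1 p.2 * gH D v * (gT D p.1 p.2)⁻¹ * (gH D v)⁻¹ ∈ Q D := fun p => by
        rw [show gT D p.1 p.2 * gH D v * (gT D p.1 p.2)⁻¹ * (gH D v)⁻¹ =
          gT D p.1 p.2 * (gH D v * gT D p.1 (p.2 + D.θ p.1 * p.1) * (gH D v)⁻¹) by rw [← gT_inv]; group, gH_scale, gT_mul]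
        exact ⟨_, _, rfl⟩
      let f : F × F → Q D := fun p => ⟨_, hw p⟩
      have hf : Function.Injective f := fun p p' e => T.injective (Subtype.ext
        (mul_right_cancel (congrArg Subtype.val e)))
      obtain ⟨p, hp⟩ := (hf.bijective_of_nat_card_le (by
        rw [card_Q D, Nat.card_prod, Nat.card_eq_fintype_card, pow_two])).2 ⟨gT D a b, a, b, rfl⟩
      refine Finset.mem_map.2 ⟨p, Finset.mem_univ _, Subtype.ext ?_⟩
      show gT D p.1 p.2 * gH D v * (gT D p.1 p.2)⁻¹ = g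
      rw [hab, ← show gT D p.1 p.2 * gH D v * (gT D p.1 p.2)⁻¹ * (gH D v)⁻¹ = gT D a b from congrArg Subtype.val hp,
        inv_mul_cancel_right]
  refine ⟨hvan, ?_⟩
  let φ : Fˣ →* Cfsg.Sz F m := MonoidHom.mk' (gH D) fun u v => (gH_mul D u v).symm

  obtain ⟨k, hk⟩ := classInner_character_nat (isCharacter_comp φ (isCharacter_of_isIrr χ.2))
    (isCharacter_one (G := Fˣ))
  refine ⟨k, ?_⟩
  rw [← hk, classInner, Finset.sum_eq_single (1 : Fˣ) (fun u _ hu => by
    show (χ : Cfsg.Sz F m → ℂ) (gH D u) * _ = 0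
    rw [hvan u hu, zero_mul]) (fun h => absurd (Finset.mem_univ _) h)]
  show _ = _ * (_ * ((χ : Cfsg.Sz F m → ℂ) (gH D 1) * _))
  rw [gH_one, map_one, mul_one, ← mul_assoc, Nat.card_units, Nat.card_eq_fintype_card,
    mul_inv_cancel₀ (by rw [← Fintype.card_units]; exact Nat.cast_ne_zero.mpr Fintype.card_ne_zero), one_mul]

end Cfsg.Agent.Suzuki
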