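/-
The exceptional characters at the tori of a Suzuki group.
-/
import Cfsg.Agent.Lib.Suzuki.CharPS
import Cfsg.Agent.Lib.Suzuki.SolubCount
import Cfsg.Agent.Lib.CT.FrobKernelChars

set_option autoImplicit false

namespace Cfsg.Agent.Suzuki

open scoped ComplexConjugate
open Cfsg.Agent.CT
open scoped Classical

universe u

variable {F : Type u} [Field F] [Fintype F] {m : ℕ} (D : Dat F m) (hF : Fintype.card F = 2 ^ (2 * m + 1))
  [Fintype (Cfsg.Sz F m)] (C : OddCls (Cfsg.Sz F m))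

/-- The normaliser of a class subgroup. -/
abbrev NC : Subgroup (Cfsg.Sz F m) := Subgroup.normalizer (C.1 : Set (Cfsg.Sz F m))

/-- The class subgroup inside its normaliser. -/
abbrev KC : Subgroup (NC C) := C.1.subgroupOf (NC C)

instance : (KC C).Normal := Subgroup.normal_in_normalizer

include D hF

theorem cent_C : ∀ k ∈ C.1, k ≠ 1 → Subgroup.centralizer ({k} : Set (Cfsg.Sz F m)) ≤ C.1 := fun k hk hk1 =>
  ((szLike D hF).mem_cls hk hk1).2.le

theorem cent_K : ∀ n ∈ KC C, n ≠ 1 → Subgroup.centralizer ({n} : Set (NC C)) ≤ KC C := by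
  intro n hn hn1 y hy
  refine cent_C D hF C _ hn (fun h => hn1 (Subtype.ext h)) ?_
  exact mem_centralizer_one.2 ((mem_centralizer_one.1 hy).map (NC C).subtype)

theorem ti_C : IsTI (NC C) (C.1 : Set (Cfsg.Sz F m)) := by
  intro g hg k hk hk'
  by_contra hk1
  apply hg
  have hne : g * k * g⁻¹ ≠ 1 := fun e => hk1 (conj_eq_one_iff.1 e)
  rw [Subgroup.mem_normalizer_iff]
  intro y
  conv_rhs => rw [← ((szLike D hF).mem_cls hk' hne).2]
  conv_lhs => rw [← ((szLike D hF).mem_cls hk hk1).2]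
  exact conj_mem_centralizer.symm

theorem card_K : Nat.card (KC C) = Nat.card C.1 :=
  Nat.card_congr (Subgroup.subgroupOfEquivOfLe Subgroup.le_normalizer).toEquiv

theorem index_K (hν : Nat.card (NC C) = 4 * Nat.card C.1) : (KC C).index = 4 := by
  have h := (KC C).index_mul_card
  rw [card_K D hF C, hν] at h
  exact Nat.eq_of_mul_eq_mul_right Nat.card_pos h

theorem nt_deg (hν : Nat.card (NC C) = 4 * Nat.card C.1) {χ : NC C → ℂ} (hχ : IsIrrCharacter (NC C) χ)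
    (hnt : FrobKernel.NT (KC C) χ) : χ 1 = 4 := by
  haveI := Fintype.ofFinite (NC C)
  obtain ⟨θ, -, rfl⟩ := FrobKernel.exists_eq_indFun (KC C) (cent_K D hF C) hχ hnt
  rw [indFun_one_eval, index_K D hF C hν, irr_degree_one_of_comm (fun a b => Subtype.ext (Subtype.ext
    (cls_comm (szLike D hF) C (Subgroup.mem_subgroupOf.1 a.2) (Subgroup.mem_subgroupOf.1 b.2)).eq)) θ.2]
  norm_num

theorem nt_count [Fintype (NC C)] (hν : Nat.card (NC C) = 4 * Nat.card C.1) :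
    4 * (Finset.univ.filter fun χ : IrrCharacter (NC C) => FrobKernel.NT (KC C) (χ : NC C → ℂ)).card + 1 =
      Nat.card C.1 := by
  have h := FrobKernel.sum_sq_nt (KC C) (cent_K D hF C)
  rw [Finset.sum_congr rfl (g := fun _ => (16 : ℂ)) (fun χ hχ => by
    rw [nt_deg D hF C hν χ.2 (Finset.mem_filter.1 hχ).2]; norm_num), Finset.sum_const, nsmul_eq_mul,
    index_K D hF C hν, hν] at h
  push_cast at h
  have h' : ((4 * (Finset.univ.filter fun χ : IrrCharacter (NC C) => FrobKernel.NT (KC C) (χ : NC C → ℂ)).card + 1 : ℕ) : ℂ) =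
      (Nat.card C.1 : ℂ) := by push_cast; linear_combination h / 4
  exact_mod_cast h'

/-- A generalised character with equal multiplicities on the non-trivial part is an integral constant on the torus. -/
theorem const_int [Fintype (NC C)] (hν : Nat.card (NC C) = 4 * Nat.card C.1) {g : NC C → ℂ}
    (hg : IsGeneralizedCharacter (NC C) g)
    (heq : ∀ ψ ψ' : IrrCharacter (NC C), FrobKernel.NT (KC C) (ψ : NC C → ℂ) → FrobKernel.NT (KC C) (ψ' : NC C → ℂ) →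
      classInner g (ψ : NC C → ℂ) = classInner g (ψ' : NC C → ℂ)) (hbig : 1 < Nat.card C.1) :
    ∃ c : ℤ, (∀ k : NC C, k ∈ KC C → k ≠ 1 → g k = c) ∧ ∀ d : ℤ, g 1 = d → (Nat.card C.1 : ℤ) ∣ d - c := by
  haveI := Fintype.ofFinite (KC C)
  obtain ⟨ψ₀, hψ₀⟩ : ∃ ψ : IrrCharacter (NC C), FrobKernel.NT (KC C) (ψ : NC C → ℂ) := by
    by_contra h
    have := nt_count D hF C hν
    rw [Finset.card_eq_zero.2 (Finset.filter_eq_empty_iff.2 fun χ _ hχ => h ⟨χ, hχ⟩)] at this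
    omega
  have hm := (isGen_iff.1 hg).2
  choose mu hmu using hm
  set c : ℤ := (∑ χ ∈ Finset.univ.filter (fun χ : IrrCharacter (NC C) => ¬ FrobKernel.NT (KC C) (χ : NC C → ℂ)),
      mu χ * deg (χ : NC C → ℂ)) - mu ψ₀ with hc
  have hval : ∀ k : NC C, k ∈ KC C → k ≠ 1 → g k = c := by
    intro k hk hk1
    have ht : ∀ χ : IrrCharacter (NC C), FrobKernel.NT (KC C) (χ : NC C → ℂ) →
        classInner g (χ : NC C → ℂ) = (classInner g (ψ₀ : NC C → ℂ) / 4) * (χ : NC C → ℂ) 1 := by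
      intro χ hχ
      rw [nt_deg D hF C hν χ.2 hχ, heq χ ψ₀ hχ hψ₀]
      ring
    rw [FrobKernel.const_of_proportional (KC C) (cent_K D hF C) (isClassFunction_of_isGen hg) _ ht hk hk1,
      index_K D hF C hν, hc]
    push_cast
    rw [Finset.sum_congr rfl fun χ _ => by rw [hmu χ, deg_eq (isCharacter_of_isIrr χ.2)], hmu ψ₀]
    ring
  refine ⟨c, hval, fun d hd => ?_⟩
  obtain ⟨z, hz⟩ := isGen_inner_int (isGen_restrict (KC C) hg) (isGen_of_isIrr (isIrrCharacter_one (G := KC C)))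
  rw [classInner, Finset.sum_congr rfl (g := fun k : KC C => (if k = 1 then ((d - c : ℤ) : ℂ) else 0) + (c : ℂ))
    (fun k _ => by
      rw [map_one, mul_one]
      by_cases hk : k = 1
      · subst hk; rw [if_pos rfl]; push_cast; rw [sub_add_cancel]; exact hd
      · rw [if_neg hk, zero_add]; exact hval _ k.2 fun e => hk (Subtype.ext e)),
    Finset.sum_add_distrib, Finset.sum_ite_eq', if_pos (Finset.mem_univ _), Finset.sum_const, Finset.card_univ,
    nsmul_eq_mul, ← Nat.card_eq_fintype_card, card_K D hF C, inv_mul_eq_iff_eq_mul₀ (Nat.cast_ne_zero.mpr Nat.card_pos.ne')] at hz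
  refine ⟨z - c, ?_⟩
  have h' : ((d - c : ℤ) : ℂ) = (((Nat.card C.1 : ℤ) * (z - c) : ℤ) : ℂ) := by push_cast at hz ⊢; linear_combination hz
  exact_mod_cast h'

/-- The column of an element of a torus. -/
theorem column (hfree : ∀ a ∈ C.1, a ≠ 1 → ∀ p : Cfsg.suzukiOvoid F m, a • p ≠ p) {a : Cfsg.Sz F m} (ha : a ∈ C.1)
    (ha1 : a ≠ 1) :
    ∑ χ ∈ Finset.univ.filter (fun χ : IrrCharacter (Cfsg.Sz F m) => Cusp D hF (χ : Cfsg.Sz F m → ℂ)),
        (χ : Cfsg.Sz F m → ℂ) a * conj ((χ : Cfsg.Sz F m → ℂ) a) = (Nat.card C.1 : ℂ) - 2 := by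
  haveI : Finite (Fˣ →* ℂˣ) := Nat.finite_of_card_ne_zero (by
    rw [card_hom hF, ← Fintype.card_units]; exact Fintype.card_ne_zero)
  haveI := Fintype.ofFinite (Fˣ →* ℂˣ)
  have h := column_orthogonality a a
  rw [if_pos (IsConj.refl a), ((szLike D hF).mem_cls ha ha1).2,
    sum_split D hF fun f => f a * conj (f a)] at h
  simp only [stb, Pi.sub_apply, ps_fpf D hF _ (hfree a ha ha1), map_zero, mul_zero, Finset.sum_const_zero, map_one,
    mul_one, zero_sub, map_neg] at h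
  linear_combination h

/-- The characters attached to one torus. -/
structure TFam (n : ℕ) where
  fam : Fin n → IrrCharacter (Cfsg.Sz F m)
  ε : ℤ
  hε : ε = 1 ∨ ε = -1
  hn : 4 * n + 1 = Nat.card C.1
  inj : Function.Injective fam
  cusp : ∀ i, Cusp D hF (fam i : Cfsg.Sz F m → ℂ)
  congr_deg : ∀ i, (Nat.card C.1 : ℤ) ∣ (deg (fam i : Cfsg.Sz F m → ℂ) : ℤ) - 4 * ε
  nonconst : ∀ i, ∃ a ∈ C.1, ∃ b ∈ C.1, a ≠ 1 ∧ b ≠ 1 ∧
    (fam i : Cfsg.Sz F m → ℂ) a ≠ (fam i : Cfsg.Sz F m → ℂ) b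
  distinct : ∀ i j, i ≠ j → ∃ a ∈ C.1, a ≠ 1 ∧ (fam i : Cfsg.Sz F m → ℂ) a ≠ (fam j : Cfsg.Sz F m → ℂ) a
  other : ∀ χ : IrrCharacter (Cfsg.Sz F m), χ ∉ Set.range fam → ∃ c : ℤ,
    (∀ a ∈ C.1, a ≠ 1 → (χ : Cfsg.Sz F m → ℂ) a = c) ∧ (Nat.card C.1 : ℤ) ∣ (deg (χ : Cfsg.Sz F m → ℂ) : ℤ) - c
  small : ∀ T : Finset (IrrCharacter (Cfsg.Sz F m)), (∀ χ ∈ T, χ ∉ Set.range fam ∧ Cusp D hF (χ : Cfsg.Sz F m → ℂ)) →
    3 ≤ T.card → ∀ c : ℤ, (∀ χ ∈ T, ∀ a ∈ C.1, a ≠ 1 → (χ : Cfsg.Sz F m → ℂ) a = c) → c = 0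
  col : ∀ a ∈ C.1, a ≠ 1 →
    ∑ i, (fam i : Cfsg.Sz F m → ℂ) a * conj ((fam i : Cfsg.Sz F m → ℂ) a) = (Nat.card C.1 : ℂ) - 4
  bound : ∀ i, ∀ a ∈ C.1, a ≠ 1 → ‖(fam i : Cfsg.Sz F m → ℂ) a‖ ≤ 4
  other_le : ∀ χ : IrrCharacter (Cfsg.Sz F m), χ ∉ Set.range fam → Cusp D hF (χ : Cfsg.Sz F m → ℂ) →
    ∀ a ∈ C.1, a ≠ 1 → ‖(χ : Cfsg.Sz F m → ℂ) a‖ ^ 2 ≤ 2
  off : ∀ i j, ∀ x : Cfsg.Sz F m, (∀ k, k⁻¹ * x * k ∈ C.1 → k⁻¹ * x * k = 1) →
    (fam i : Cfsg.Sz F m → ℂ) x = (fam j : Cfsg.Sz F m → ℂ) x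

theorem exists_tfam' (hν : Nat.card (NC C) = 4 * Nat.card C.1)
    (hfree : ∀ a ∈ C.1, a ≠ 1 → ∀ p : Cfsg.suzukiOvoid F m, a • p ≠ p) (hbig : 13 ≤ Nat.card C.1)
    (hex : 21 ≤ Nat.card C.1 ∨ ∀ χ : IrrCharacter (Cfsg.Sz F m), Cusp D hF (χ : Cfsg.Sz F m → ℂ) →
      ¬ (Nat.card C.1 : ℤ) ∣ (deg (χ : Cfsg.Sz F m → ℂ) : ℤ) - 5 ∧
        ¬ (Nat.card C.1 : ℤ) ∣ (deg (χ : Cfsg.Sz F m → ℂ) : ℤ) + 5) :
    ∃ n, Nonempty (TFam D hF C n) := by
  haveI := Fintype.ofFinite (NC C)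
  set P := Finset.univ.filter fun χ : IrrCharacter (NC C) => FrobKernel.NT (KC C) (χ : NC C → ℂ) with hP
  set n := P.card with hn
  have hcount := nt_count D hF C hν
  rw [← hP, ← hn] at hcount
  let e := P.equivFin.symm
  let ψ : Fin n → NC C → ℂ := fun i => ((e i).1 : NC C → ℂ)
  have hψ : ∀ i, IsIrrCharacter (NC C) (ψ i) := fun i => (e i).1.2
  have hnt : ∀ i, FrobKernel.NT (KC C) (ψ i) := fun i => (Finset.mem_filter.1 (e i).2).2
  have hψinj : Function.Injective ψ := fun i j h => e.injective (Subtype.ext (Subtype.ext h))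
  have hψsurj : ∀ χ : IrrCharacter (NC C), FrobKernel.NT (KC C) (χ : NC C → ℂ) → ∃ i, ψ i = χ := fun χ hχ =>
    ⟨e.symm ⟨χ, Finset.mem_filter.2 ⟨Finset.mem_univ _, hχ⟩⟩, by simp [ψ]⟩
  have hvan : ∀ i, ∀ x : NC C, (x : Cfsg.Sz F m) ∉ C.1 → ψ i x = 0 := fun i x hx =>
    FrobKernel.vanish (KC C) (cent_K D hF C) (hψ i) (hnt i) hx
  obtain ⟨εc, hεc, θ, hθ, hθinj, hτ⟩ := Exceptional.exceptional_of_TI (ti_C D hF C) (show 2 ≤ n by omega) ψ hψ hψinj hvan
    fun i j => by rw [nt_deg D hF C hν (hψ i) (hnt i), nt_deg D hF C hν (hψ j) (hnt j)]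
  obtain ⟨ε, hε, rfl⟩ : ∃ ε : ℤ, (ε = 1 ∨ ε = -1) ∧ εc = (ε : ℂ) := by
    rcases hεc with rfl | rfl
    exacts [⟨1, Or.inl rfl, by simp⟩, ⟨-1, Or.inr rfl, by simp⟩]
  have hεsq : (ε : ℂ) * ε = 1 := by rcases hε with rfl | rfl <;> simp
  -- scalar products with the differences
  have hpair : ∀ (f : Cfsg.Sz F m → ℂ), IsClassFunction (Cfsg.Sz F m) f → ∀ i j,
      classInner (fun x : NC C => f x) (ψ i) - classInner (fun x : NC C => f x) (ψ j) =
        (ε : ℂ) * (classInner f (θ i) - classInner f (θ j)) := by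
    intro f hf i j
    rw [← classInner_sub_right, ← frobenius_reciprocity' _ hf, indFun_sub, hτ, classInner_smul_right,
      classInner_sub_right, map_intCast]
  -- the constants
  have hoth : ∀ χ : IrrCharacter (Cfsg.Sz F m), (∀ i, θ i ≠ χ) → ∃ c : ℤ,
      (∀ a ∈ C.1, a ≠ 1 → (χ : Cfsg.Sz F m → ℂ) a = c) ∧
        (Nat.card C.1 : ℤ) ∣ (deg (χ : Cfsg.Sz F m → ℂ) : ℤ) - c := by
    intro χ hχ
    obtain ⟨c, hc, hd⟩ := const_int D hF C hν (isGen_restrict (NC C) (isGen_of_isIrr χ.2)) (fun ψ₁ ψ₂ h1 h2 => by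
      obtain ⟨i, hi⟩ := hψsurj ψ₁ h1
      obtain ⟨j, hj⟩ := hψsurj ψ₂ h2
      rw [← hi, ← hj, ← sub_eq_zero, hpair _ (isClassFunction_of_isIrr χ.2),
        irr_inner_of_ne χ.2 (hθ i) (hχ i).symm, irr_inner_of_ne χ.2 (hθ j) (hχ j).symm, sub_zero, mul_zero]) (by omega)
    refine ⟨c, fun a ha ha1 => hc ⟨a, Subgroup.le_normalizer ha⟩ ha (fun h => ha1 (congrArg Subtype.val h)), hd _ ?_⟩
    show (χ : Cfsg.Sz F m → ℂ) 1 = _
    rw [deg_eq (isCharacter_of_isIrr χ.2)]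
    simp
  have hfam : ∀ i, ∃ c : ℤ, (∀ a : NC C, (a : Cfsg.Sz F m) ∈ C.1 → a ≠ 1 → θ i a = (ε : ℂ) * ψ i a + c) ∧
      (Nat.card C.1 : ℤ) ∣ (deg (θ i) : ℤ) - 4 * ε - c := by
    intro i
    obtain ⟨c, hc, hd⟩ := const_int D hF C hν
      (isGen_sub (isGen_restrict (NC C) (isGen_of_isIrr (hθ i))) (isGen_zsmul ε (isGen_of_isIrr (hψ i))))
      (fun ψ₁ ψ₂ h1 h2 => by
        obtain ⟨j, hj⟩ := hψsurj ψ₁ h1
        obtain ⟨k, hk⟩ := hψsurj ψ₂ h2
        have key : ∀ l, classInner (θ i) (θ l) = classInner (ψ i) (ψ l) := fun l => by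
          by_cases h : i = l
          · subst h; rw [irr_inner_self (hθ i), irr_inner_self (hψ i)]
          · rw [irr_inner_of_ne (hθ i) (hθ l) (fun e => h (hθinj e)),
              irr_inner_of_ne (hψ i) (hψ l) (fun e => h (hψinj e))]
        rw [← hj, ← hk, classInner_sub_left, classInner_sub_left, classInner_smul_left, classInner_smul_left]
        linear_combination hpair _ (isClassFunction_of_isIrr (hθ i)) j k + (ε : ℂ) * key j - (ε : ℂ) * key k)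
      (by omega)
    refine ⟨c, fun a ha ha1 => ?_, hd _ ?_⟩
    · have := hc a ha ha1
      simp only [Pi.sub_apply, Pi.smul_apply, smul_eq_mul] at this
      linear_combination this
    · simp only [Pi.sub_apply, Pi.smul_apply, smul_eq_mul, Subgroup.coe_one]
      rw [nt_deg D hF C hν (hψ i) (hnt i), deg_eq (isCharacter_of_isIrr (hθ i))]
      push_cast; ring
  choose cc hcc hcd using hfam
  let i₀ : Fin n := ⟨0, by omega⟩
  obtain ⟨⟨a₀, ha₀⟩, ha₀1⟩ : ∃ a : C.1, a ≠ 1 := by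
    haveI : Nontrivial C.1 := Finite.one_lt_card_iff_nontrivial.1 (by omega)
    exact exists_ne 1
  have ha₀' : a₀ ≠ 1 := fun e => ha₀1 (Subtype.ext e)
  set k₀ : NC C := ⟨a₀, Subgroup.le_normalizer ha₀⟩
  have hk₀ : k₀ ≠ 1 := fun e => ha₀' (congrArg Subtype.val e)
  have hdiff : ∀ i j, ∀ a : NC C, (a : Cfsg.Sz F m) ∈ C.1 → a ≠ 1 →
      θ i a - θ j a = (ε : ℂ) * (ψ i a - ψ j a) := by
    intro i j a ha ha1
    have h := congrFun (hτ i j) (a : Cfsg.Sz F m)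
    rw [← indFun_sub, indFun_eq_on_TI (ti_C D hF C) (isClassFunction_of_isGen
      (isGen_sub (isGen_of_isIrr (hψ i)) (isGen_of_isIrr (hψ j))))
      (fun x hx => by simp [hvan i x hx, hvan j x hx]) ha ha1] at h
    simp only [Pi.sub_apply, Pi.smul_apply, smul_eq_mul] at h
    rw [h, ← mul_assoc, hεsq, one_mul]
  have hcconst : ∀ i, cc i = cc i₀ := by
    intro i
    have h := hdiff i i₀ k₀ ha₀ hk₀
    rw [hcc i k₀ ha₀ hk₀, hcc i₀ k₀ ha₀ hk₀] at h
    exact_mod_cast (show (cc i : ℂ) = (cc i₀ : ℂ) by linear_combination h)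
  -- the exceptional characters are not constant on the torus
  have hψnc : ∀ i, ∀ v : ℂ, ¬ ∀ k : NC C, k ∈ KC C → k ≠ 1 → ψ i k = v := by
    intro i v hv
    obtain ⟨j, hj⟩ : ∃ j, j ≠ i := by
      haveI : Nontrivial (Fin n) := Fin.nontrivial_iff_two_le.2 (by omega)
      exact exists_ne i
    have h := FrobKernel.proportional_of_const (KC C) (cent_K D hF C) hv (hψ j) (hnt j)
    rw [irr_inner_of_ne (hψ i) (hψ j) (fun e => hj (hψinj e).symm), nt_deg D hF C hν (hψ j) (hnt j),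
      nt_deg D hF C hν (hψ i) (hnt i)] at h
    have hv4 : v = 4 := by
      have h2 := (mul_eq_zero.1 h.symm).resolve_right (by norm_num)
      exact (sub_eq_zero.1 ((mul_eq_zero.1 h2).resolve_left (inv_ne_zero (Nat.cast_ne_zero.mpr Nat.card_pos.ne')))).symm
    obtain ⟨k, hk, hne⟩ := hnt i
    exact hne (by rw [hv k hk (fun e => hne (by rw [e])), hv4, nt_deg D hF C hν (hψ i) (hnt i)])
  have hnc : ∀ i, ∃ a ∈ C.1, ∃ b ∈ C.1, a ≠ 1 ∧ b ≠ 1 ∧ θ i a ≠ θ i b := by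
    intro i
    by_contra hcon
    push_neg at hcon
    refine hψnc i ((ε : ℂ) * (θ i a₀ - cc i)) fun k hk hk1 => ?_
    have h := hcc i k hk hk1
    rw [hcon (k : Cfsg.Sz F m) hk a₀ ha₀ (fun e => hk1 (Subtype.ext e)) ha₀'] at h
    rw [h, add_sub_cancel_right, ← mul_assoc, hεsq, one_mul]
  have hcusp : ∀ i, Cusp D hF (θ i) := by
    intro i
    by_contra hc
    obtain ⟨a, ha, b, hb, ha1, hb1, hne⟩ := hnc i
    apply hne
    rcases not_cusp_cases D hF (χ := ⟨θ i, hθ i⟩) hc with e | e | ⟨t, -, e⟩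
    all_goals simp only at e
    · rw [e]
    · rw [e, stb, Pi.sub_apply, Pi.sub_apply, ps_fpf D hF _ (hfree a ha ha1), ps_fpf D hF _ (hfree b hb hb1)]
    · rw [e, ps_fpf D hF _ (hfree a ha ha1), ps_fpf D hF _ (hfree b hb hb1)]
  -- the column of an element of the torus
  have hcolN : ∀ k : NC C, k ∈ KC C → k ≠ 1 →
      (∑ i, ψ i k = -1) ∧ ∑ i, ψ i k * conj (ψ i k) = (Nat.card C.1 : ℂ) - 4 := by
    intro k₀ ha₀ hk₀
    have hs1 : ∑ i, ψ i k₀ = -1 := by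
      have h := FrobKernel.sum_deg_mul (KC C) (cent_K D hF C) (k := k₀) ha₀ hk₀
      rw [index_K D hF C hν, ← hP, ← Finset.sum_coe_sort, ← e.sum_comp, Finset.sum_congr rfl (g := fun i => 4 * ψ i k₀) fun i _ => by
        show ψ i 1 * ψ i k₀ = _
        rw [nt_deg D hF C hν (hψ i) (hnt i)], ← Finset.mul_sum] at h
      push_cast at h
      linear_combination h / 4
    have hs2 : ∑ i, ψ i k₀ * conj (ψ i k₀) = (Nat.card C.1 : ℂ) - 4 := by
      have h := column_orthogonality k₀ k₀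
      rw [if_pos (IsConj.refl k₀), ← Finset.sum_filter_add_sum_filter_not _
        (fun χ : IrrCharacter (NC C) => FrobKernel.NT (KC C) (χ : NC C → ℂ)), ← hP, ← Finset.sum_coe_sort, ← e.sum_comp] at h
      have hcard : Nat.card (Subgroup.centralizer ({k₀} : Set (NC C))) = Nat.card C.1 := by
        rw [← card_K D hF C]
        congr 2
        refine le_antisymm (cent_K D hF C k₀ ha₀ hk₀) fun y hy => ?_
        exact mem_centralizer_one.2 (Subtype.ext (cls_comm (szLike D hF) C hy ha₀).eq)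
      have e2 : ∑ χ ∈ Finset.univ.filter (fun χ : IrrCharacter (NC C) => ¬ FrobKernel.NT (KC C) (χ : NC C → ℂ)),
          (χ : NC C → ℂ) k₀ * conj ((χ : NC C → ℂ) k₀) = 4 := by
        have h3 := sum_degree_sq (G := NC C)
        rw [← Finset.sum_filter_add_sum_filter_not _ (fun χ : IrrCharacter (NC C) => FrobKernel.NT (KC C) (χ : NC C → ℂ)),
          FrobKernel.sum_sq_nt (KC C) (cent_K D hF C), index_K D hF C hν] at h3
        rw [Finset.sum_congr rfl (g := fun χ : IrrCharacter (NC C) => (χ : NC C → ℂ) 1 ^ 2) fun χ hχ => by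
          rw [show (χ : NC C → ℂ) k₀ = (χ : NC C → ℂ) 1 from
            FrobKernel.restrict_eq_of_not_nt (KC C) (Finset.mem_filter.1 hχ).2 ⟨k₀, ha₀⟩,
            deg_eq (isCharacter_of_isIrr χ.2), map_natCast, pow_two]]
        push_cast at h3
        linear_combination h3
      rw [e2, hcard] at h
      linear_combination h
    exact ⟨hs1, hs2⟩
  obtain ⟨hs1, hs2⟩ := hcolN k₀ ha₀ hk₀
  set fam : Fin n → IrrCharacter (Cfsg.Sz F m) := fun i => ⟨θ i, hθ i⟩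
  have hfinj : Function.Injective fam := fun i j h => hθinj (congrArg Subtype.val h)
  set R := Finset.univ.filter (fun χ : IrrCharacter (Cfsg.Sz F m) => Cusp D hF (χ : Cfsg.Sz F m → ℂ)) with hR
  set FS := Finset.univ.image fam
  have hFS : FS ⊆ R := fun χ hχ => by
    obtain ⟨i, -, rfl⟩ := Finset.mem_image.1 hχ
    exact Finset.mem_filter.2 ⟨Finset.mem_univ _, hcusp i⟩
  have hsumfam : ∑ χ ∈ FS, (χ : Cfsg.Sz F m → ℂ) a₀ * conj ((χ : Cfsg.Sz F m → ℂ) a₀) =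
      (Nat.card C.1 : ℂ) - 4 - 2 * (ε : ℂ) * cc i₀ + (n : ℂ) * cc i₀ * cc i₀ := by
    rw [Finset.sum_image fun i _ j _ h => hfinj h]
    have e1 : ∀ i, θ i a₀ * conj (θ i a₀) =
        ψ i k₀ * conj (ψ i k₀) + (ε : ℂ) * cc i₀ * ψ i k₀ + (ε : ℂ) * cc i₀ * conj (ψ i k₀) + (cc i₀ : ℂ) * cc i₀ := by
      intro i
      have h1 : θ i a₀ = _ := hcc i k₀ ha₀ hk₀
      rw [h1, hcconst i, map_add, map_mul, map_intCast, map_intCast]
      linear_combination (ψ i k₀ * conj (ψ i k₀)) * hεsq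
    simp only [fam, e1, Finset.sum_add_distrib, hs2, ← Finset.mul_sum, hs1, ← map_sum, map_neg, map_one,
      Finset.sum_const, Finset.card_univ, Fintype.card_fin, nsmul_eq_mul]
    ring
  have hcol := column D hF C hfree ha₀ ha₀'
  rw [← hR, ← Finset.sum_sdiff hFS, hsumfam] at hcol
  have hmemfam : ∀ χ : IrrCharacter (Cfsg.Sz F m), χ ∉ Set.range fam → ∀ i, θ i ≠ χ := fun χ hχ i e =>
    hχ ⟨i, Subtype.ext e⟩
  have hnot : ∀ χ ∈ R \ FS, χ ∉ Set.range fam := fun χ hχ ⟨i, hi⟩ =>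
    (Finset.mem_sdiff.1 hχ).2 (Finset.mem_image.2 ⟨i, Finset.mem_univ _, hi⟩)
  choose! c' hc' hcd' using fun χ (hχ : χ ∈ R \ FS) => hoth χ (hmemfam χ (hnot χ hχ))
  rw [Finset.sum_congr rfl fun χ hχ => by rw [hc' χ hχ a₀ ha₀ ha₀', map_intCast]] at hcol
  have hcol' : ∑ χ ∈ R \ FS, c' χ * c' χ + ((n : ℤ) * cc i₀ * cc i₀ - 2 * ε * cc i₀) = 2 := by
    have h : ((∑ χ ∈ R \ FS, c' χ * c' χ + ((n : ℤ) * cc i₀ * cc i₀ - 2 * ε * cc i₀) : ℤ) : ℂ) = ((2 : ℤ) : ℂ) := by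
      push_cast; linear_combination hcol
    exact_mod_cast h
  have hsq0 : 0 ≤ ∑ χ ∈ R \ FS, c' χ * c' χ := Finset.sum_nonneg fun χ _ => mul_self_nonneg _
  have hc0 : cc i₀ = 0 := by
    by_contra hne
    have h1 : 1 ≤ cc i₀ * cc i₀ := by nlinarith [mul_self_pos.2 hne]
    rcases hex with hbig' | hex
    · have hn5 : (5 : ℤ) ≤ n := by exact_mod_cast (show 5 ≤ n by omega)
      rcases hε with rfl | rfl <;> nlinarith [sq_nonneg (cc i₀ - 1), sq_nonneg (cc i₀ + 1)]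
    · have hn3 : (3 : ℤ) ≤ n := by exact_mod_cast (show 3 ≤ n by omega)
      obtain ⟨h5, h5'⟩ := hex ⟨θ i₀, hθ i₀⟩ (hcusp i₀)
      have hd := hcd i₀
      rcases hε with rfl | rfl
      · have : cc i₀ = 1 := by
          have : cc i₀ ≤ 1 := by nlinarith
          have : 0 ≤ cc i₀ := by nlinarith
          omega
        rw [this] at hd
        exact h5 (by convert hd using 1; ring)
      · have : cc i₀ = -1 := by
          have : cc i₀ ≤ 0 := by nlinarith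
          have : -1 ≤ cc i₀ := by nlinarith
          omega
        rw [this] at hd
        exact h5' (by convert hd using 1; ring)
  refine ⟨n, ⟨⟨fam, ε, hε, hcount, hfinj, hcusp, fun i => ?_, hnc, fun i j hij => ?_,
    fun χ hχ => hoth χ (hmemfam χ hχ), ?_, fun a ha ha1 => ?_, fun i a ha ha1 => ?_, ?_, ?_⟩⟩⟩
  · have := hcd i
    rwa [hcconst i, hc0, sub_zero] at this
  · by_contra hcon
    push_neg at hcon
    refine hij (hψinj (funext fun x => ?_))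
    by_cases hx : (x : Cfsg.Sz F m) ∈ C.1
    · by_cases hx1 : x = 1
      · rw [hx1, nt_deg D hF C hν (hψ i) (hnt i), nt_deg D hF C hν (hψ j) (hnt j)]
      · have h := hdiff i j x hx hx1
        rw [show θ i (x : Cfsg.Sz F m) = θ j (x : Cfsg.Sz F m) from hcon _ hx (fun e => hx1 (Subtype.ext e)), sub_self] at h
        have hεne : (ε : ℂ) ≠ 0 := left_ne_zero_of_mul (hεsq.trans_ne one_ne_zero)
        exact sub_eq_zero.1 ((mul_eq_zero.1 h.symm).resolve_left hεne)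
    · rw [hvan i x hx, hvan j x hx]
  · intro T hT hT3 c hc
    by_contra hne
    have hsub : T ⊆ R \ FS := fun χ hχ => Finset.mem_sdiff.2 ⟨Finset.mem_filter.2 ⟨Finset.mem_univ _, (hT χ hχ).2⟩,
      fun h => (hT χ hχ).1 (by obtain ⟨i, -, hi⟩ := Finset.mem_image.1 h; exact ⟨i, hi⟩)⟩
    have hval : ∀ χ ∈ T, c' χ * c' χ = c * c := fun χ hχ => by
      have h := (hc' χ (hsub hχ) a₀ ha₀ ha₀').symm.trans (hc χ hχ a₀ ha₀ ha₀')
      rw [show c' χ = c from by exact_mod_cast h]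
    have h1 : ∑ χ ∈ T, c' χ * c' χ ≤ ∑ χ ∈ R \ FS, c' χ * c' χ :=
      Finset.sum_le_sum_of_subset_of_nonneg hsub fun χ _ _ => mul_self_nonneg _
    rw [Finset.sum_congr rfl hval, Finset.sum_const, nsmul_eq_mul] at h1
    rw [hc0] at hcol'
    have h3 : (3 : ℤ) ≤ (T.card : ℕ) := by exact_mod_cast hT3
    have h4 : 1 ≤ c * c := by nlinarith [mul_self_pos.2 hne]
    nlinarith
  · have ha1' : (⟨a, Subgroup.le_normalizer ha⟩ : NC C) ≠ 1 := fun e => ha1 (congrArg Subtype.val e)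
    rw [← (hcolN ⟨a, Subgroup.le_normalizer ha⟩ ha ha1').2]
    refine Finset.sum_congr rfl fun i _ => ?_
    show θ i a * conj (θ i a) = _
    rw [show θ i a = (ε : ℂ) * ψ i ⟨a, Subgroup.le_normalizer ha⟩ by
      rw [show θ i a = _ from hcc i ⟨a, Subgroup.le_normalizer ha⟩ ha ha1', hcconst i, hc0]; simp,
      map_mul, map_intCast]
    linear_combination (ψ i ⟨a, Subgroup.le_normalizer ha⟩ * conj (ψ i ⟨a, Subgroup.le_normalizer ha⟩)) * hεsq
  · have ha1' : (⟨a, Subgroup.le_normalizer ha⟩ : NC C) ≠ 1 := fun e => ha1 (congrArg Subtype.val e)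
    show ‖θ i a‖ ≤ 4
    rw [show θ i a = _ from hcc i ⟨a, Subgroup.le_normalizer ha⟩ ha ha1', hcconst i, hc0, Int.cast_zero, add_zero,
      norm_mul, show ‖(ε : ℂ)‖ = 1 by rcases hε with rfl | rfl <;> simp, one_mul]
    obtain ⟨d, ρ, -, hρ⟩ := hψ i
    have h4 := nt_deg D hF C hν (hψ i) (hnt i)
    rw [← hρ, Representation.char_one] at h4
    rw [← hρ]
    refine (norm_char_le ρ _).trans ?_
    rw [show Module.finrank ℂ (Fin d → ℂ) = 4 from by exact_mod_cast h4]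
    norm_num
  · intro χ hχ hχc a ha ha1
    have hmem : χ ∈ R \ FS := Finset.mem_sdiff.2 ⟨Finset.mem_filter.2 ⟨Finset.mem_univ _, hχc⟩,
      fun h => hχ (by obtain ⟨i, -, hi⟩ := Finset.mem_image.1 h; exact ⟨i, hi⟩)⟩
    rw [hc' χ hmem a ha ha1, Complex.norm_intCast, sq_abs]
    have h := Finset.single_le_sum (f := fun ψ => c' ψ * c' ψ) (fun ψ _ => mul_self_nonneg _) hmem
    rw [hc0] at hcol'
    have h2 : c' χ * c' χ ≤ 2 := by nlinarith
    rw [pow_two]; exact_mod_cast h2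
  · intro i j x hx
    have h := congrFun (hτ i j) x
    rw [← indFun_sub] at h
    have h0 : indFun (NC C) (ψ i - ψ j) x = 0 := by
      simp only [indFun]
      rw [Finset.sum_eq_zero, mul_zero]
      intro k _
      by_cases hm : k⁻¹ * x * k ∈ NC C
      · rw [extendByZero_mem _ _ hm]
        by_cases hC : k⁻¹ * x * k ∈ C.1
        · have h1 : (⟨k⁻¹ * x * k, hm⟩ : NC C) = 1 := Subtype.ext (hx k hC)
          rw [h1, Pi.sub_apply, nt_deg D hF C hν (hψ i) (hnt i), nt_deg D hF C hν (hψ j) (hnt j), sub_self]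
        · rw [Pi.sub_apply, hvan i _ hC, hvan j _ hC, sub_self]
      · exact extendByZero_not_mem _ _ hm
    rw [h0, Pi.smul_apply, Pi.sub_apply, smul_eq_mul] at h
    have hεne : (ε : ℂ) ≠ 0 := left_ne_zero_of_mul (hεsq.trans_ne one_ne_zero)
    exact sub_eq_zero.1 ((mul_eq_zero.1 h.symm).resolve_left hεne)

theorem exists_tfam (hν : Nat.card (NC C) = 4 * Nat.card C.1)
    (hfree : ∀ a ∈ C.1, a ≠ 1 → ∀ p : Cfsg.suzukiOvoid F m, a • p ≠ p) (hbig : 21 ≤ Nat.card C.1) :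
    ∃ n, Nonempty (TFam D hF C n) := exists_tfam' D hF C hν hfree (by omega) (Or.inl hbig)

end Cfsg.Agent.Suzuki
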