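/-
The least degree of a non-trivial representation of a Suzuki group.
-/
import Cfsg.Agent.Lib.Suzuki.SubSz
import Mathlib

set_option autoImplicit false

namespace Cfsg.Agent.Suzuki

variable {F : Type*} [Field F] [Fintype F] {m : ℕ} (D : Dat F m) (hF : Fintype.card F = 2 ^ (2 * m + 1))
include D hF

omit hF in
theorem addChar_sq (l : AddChar F ℂ) (x : F) : l x * l x = 1 := by
  rw [← AddChar.map_add_eq_mul, D.add_self, AddChar.map_zero_eq_one]

omit hF in
theorem addChar_or (l : AddChar F ℂ) (x : F) : l x = 1 ∨ l x = -1 :=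
  mul_self_eq_one_iff.1 (addChar_sq D l x)

omit hF in
/-- The kernel of a non-trivial sign character has index two. -/
theorem card_ker_char (l : AddChar F ℂ) (hl : l ≠ 1) : 2 * Nat.card {x : F // l x = 1} = Fintype.card F := by
  classical
  obtain ⟨x₀, hx₀⟩ := AddChar.ne_one_iff.1 hl
  have h0 : l x₀ = -1 := (addChar_or D l x₀).resolve_left hx₀
  let e : {x : F // l x = 1} ≃ {x : F // ¬ l x = 1} :=
    { toFun := fun x => ⟨x.1 + x₀, by rw [AddChar.map_add_eq_mul, x.2, one_mul]; exact hx₀⟩
      invFun := fun x => ⟨x.1 + x₀, by rw [AddChar.map_add_eq_mul, (addChar_or D l x.1).resolve_left x.2, h0]; norm_num⟩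
      left_inv := fun x => Subtype.ext (by simp [add_assoc, D.add_self])
      right_inv := fun x => Subtype.ext (by simp [add_assoc, D.add_self]) }
  have h := Fintype.card_congr (Equiv.sumCompl fun x : F => l x = 1)
  rw [Fintype.card_sum, ← Fintype.card_congr e] at h
  rw [Nat.card_eq_fintype_card]
  omega

/-- Only one scalar preserves a hyperplane. -/
theorem scalar_ker_eq_one (l : AddChar F ℂ) (hl : l ≠ 1) (s : Fˣ) (h : ∀ x, l x = 1 → l ((s : F) * x) = 1) : s = 1 := by
  classical
  have h2 := card_ker_char D l hl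
  have hpow : ∀ n : ℕ, ∀ x, l x = 1 → l (((s ^ n : Fˣ) : F) * x) = 1 := by
    intro n
    induction n with
    | zero => simpa using fun x hx => hx
    | succ n ih =>
      intro x hx
      rw [pow_succ', Units.val_mul, mul_assoc]
      exact h _ (ih x hx)
  -- the cyclic group acts freely on the non-zero vectors of the hyperplane
  set S := Subgroup.zpowers s
  let K := {x : F // x ≠ 0 ∧ l x = 1}
  letI : MulAction S K :=
    { smul := fun t x => ⟨((t : Fˣ) : F) * x.1, mul_ne_zero (Units.ne_zero _) x.2.1, by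
        obtain ⟨n, hn⟩ := mem_powers_iff_mem_zpowers.2 t.2
        rw [← hn]; exact hpow n _ x.2.2⟩
      one_smul := fun x => Subtype.ext (one_mul _)
      mul_smul := fun t u x => Subtype.ext (mul_assoc _ _ _) }
  have hfree : ∀ x : K, MulAction.stabilizer S x = ⊥ := by
    intro x
    rw [eq_bot_iff]
    intro t ht
    rw [Subgroup.mem_bot]
    have h1 : ((t : Fˣ) : F) * x.1 = x.1 := congrArg Subtype.val ht
    exact Subtype.ext (Units.ext ((mul_eq_right₀ x.2.1).1 h1))
  have hdvd : Nat.card S ∣ Nat.card K := by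
    rw [Nat.card_congr (MulAction.selfEquivSigmaOrbits S K), Nat.card_sigma]
    refine Finset.dvd_sum fun o _ => ?_
    rw [Nat.card_congr (MulAction.orbitEquivQuotientStabilizer S _), hfree]
    exact (Nat.card_congr (QuotientGroup.quotientBot (G := S)).toEquiv).symm ▸ dvd_rfl
  have hK : Nat.card K + 1 = Nat.card {x : F // l x = 1} := by
    let e : Option K ≃ {x : F // l x = 1} :=
      { toFun := fun o => o.elim ⟨0, AddChar.map_zero_eq_one l⟩ fun x => ⟨x.1, x.2.2⟩
        invFun := fun x => if hx : x.1 = 0 then none else some ⟨x.1, hx, x.2⟩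
        left_inv := fun o => by
          cases o with
          | none => simp
          | some x => simp [x.2.1]
        right_inv := fun x => by
          by_cases hx : x.1 = 0 <;> simp [hx]
          exact Subtype.ext hx.symm }
    rw [← Nat.card_congr e, Finite.card_option]
  have hS : Nat.card S ∣ Fintype.card F - 1 := by
    rw [← Fintype.card_units, ← Nat.card_eq_fintype_card]
    exact Subgroup.card_subgroup_dvd_card S
  have hq : Odd (Fintype.card F - 1) := by
    rw [hF]; exact Nat.Even.sub_odd Nat.one_le_two_pow (Nat.even_pow.2 ⟨even_two, by omega⟩) odd_one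
  have hodd : Odd (Nat.card S) := hq.of_dvd_nat hS
  have h4 : Nat.card S ∣ 2 ^ (2 * m) := by
    have e : Fintype.card F - 1 = Nat.card K + 2 ^ (2 * m) := by
      have : 2 ^ (2 * m + 1) = 2 ^ (2 * m) * 2 := pow_succ 2 _
      omega
    exact (Nat.dvd_add_right hdvd).1 (e ▸ hS)
  have h5 : Nat.card S = 1 := Nat.Coprime.eq_one_of_dvd (Nat.Coprime.pow_right _ (Nat.coprime_two_right.2 hodd)) h4
  exact Subgroup.zpowers_eq_bot.1 (Subgroup.card_eq_one.1 h5)

/-- The commutator form of a vector. -/
noncomputable def cform (c : F) : F →+ F where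
  toFun a := D.θ a * c + D.θ c * a
  map_zero' := by simp
  map_add' a b := by rw [map_add]; ring

omit hF in
theorem cform_scale (t a c : F) : cform D (t * c) (t * a) = D.θ t * t * cform D c a := by
  simp only [cform, AddMonoidHom.coe_mk, ZeroHom.coe_mk, map_mul]; ring

/-- A non-zero vector of the radical of a character is determined by it. -/
theorem radical_unique (l : AddChar F ℂ) (hl : l ≠ 1) {c c' : F} (hc : c ≠ 0) (hc' : c' ≠ 0)
    (h : ∀ a, l (cform D c a) = 1) (h' : ∀ a, l (cform D c' a) = 1) : c = c' := by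
  classical
  have hker : (cform D c).ker = AddSubgroup.zmultiples c := by
    ext a
    rw [AddMonoidHom.mem_ker]
    constructor
    · intro ha
      by_cases ha0 : a = 0
      · rw [ha0]; exact zero_mem _
      have e1 : D.θ (a / c) = a / c := by
        rw [map_div₀, div_eq_div_iff ((map_ne_zero D.θ).2 hc) hc, mul_comm a]
        exact D.eq_of_add ha
      rcases D.theta_fixed e1 with e | e
      · rw [div_eq_zero_iff] at e; exact absurd e (by simp [ha0, hc])
      · rw [div_eq_one_iff_eq hc] at e; rw [e]; exact AddSubgroup.mem_zmultiples c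
    · rintro ha
      exact (AddSubgroup.zmultiples_le_of_mem (show c ∈ (cform D c).ker from D.add_self _)) ha
  have hcard : 2 * Nat.card (cform D c).range = Fintype.card F := by
    rw [← Nat.card_eq_fintype_card, AddSubgroup.card_eq_card_quotient_mul_card_addSubgroup (cform D c).ker,
      Nat.card_congr (QuotientAddGroup.quotientKerEquivRange (cform D c)).toEquiv, mul_comm]
    congr 1
    rw [hker, Nat.card_zmultiples]
    haveI := Fact.mk Nat.prime_two
    exact addOrderOf_eq_prime (by rw [two_nsmul, D.add_self]) hc |>.symm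
  have hrange : ∀ y, l y = 1 → ∃ a, cform D c a = y := by
    have h2 := card_ker_char D l hl
    let f : (cform D c).range → {x : F // l x = 1} := fun y => ⟨y.1, by
      obtain ⟨a, ha⟩ := y.2
      rw [← ha]; exact h a⟩
    have hf : Function.Injective f := fun y z e => Subtype.ext (congrArg (fun w : {x : F // l x = 1} => w.1) e)
    intro y hy
    obtain ⟨⟨_, a, rfl⟩, e⟩ := (hf.bijective_of_nat_card_le (by omega)).2 ⟨y, hy⟩
    exact ⟨a, congrArg Subtype.val e⟩
  obtain ⟨t, rfl⟩ : ∃ t, c' = t * c := ⟨c' / c, (div_mul_cancel₀ c' hc).symm⟩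
  have ht : t ≠ 0 := left_ne_zero_of_mul hc'
  have hs : Units.mk0 (D.θ t * t) (mul_ne_zero ((map_ne_zero D.θ).2 ht) ht) = 1 := by
    refine scalar_ker_eq_one D hF l hl _ fun y hy => ?_
    obtain ⟨a, rfl⟩ := hrange y hy
    show l (D.θ t * t * cform D c a) = 1
    rw [← cform_scale]; exact h' _
  have h1 : D.θ t * t = 1 := congrArg Units.val hs
  have h2 : t ^ 2 * D.θ t = 1 := by rw [← D.sq, ← map_mul, h1, map_one]
  have h3 : t = 1 := by linear_combination h2 - t * h1
  rw [h3, one_mul]

variable {V : Type*} [AddCommGroup V] [Module ℂ V] (R : Cfsg.Sz F m →* Module.End ℂ V)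

/-- The eigenspace of the centre for a character. -/
noncomputable def zEig (l : AddChar F ℂ) : Submodule ℂ V where
  carrier := {v | ∀ c, R (gT D 0 c) v = l c • v}
  zero_mem' := fun c => by simp
  add_mem' := fun {v w} hv hw c => by rw [map_add, hv c, hw c, smul_add]
  smul_mem' := fun a v hv c => by rw [map_smul, hv c, smul_comm]

/-- The projection onto an eigenspace of the centre. -/
noncomputable def zProj (l : AddChar F ℂ) : Module.End ℂ V :=
  (Fintype.card F : ℂ)⁻¹ • ∑ c : F, l c • R (gT D 0 c)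

omit hF in
theorem gT_zadd (b c : F) : gT D 0 b * gT D 0 c = gT D 0 (b + c) := by
  rw [gT_mul, map_zero, zero_mul, add_zero, add_zero]

omit hF in
theorem R_zadd (b c : F) (v : V) : R (gT D 0 b) (R (gT D 0 c) v) = R (gT D 0 (b + c)) v := by
  rw [← gT_zadd D b c, map_mul]; rfl

omit hF in
theorem zProj_mem (l : AddChar F ℂ) (v : V) : zProj D R l v ∈ zEig D R l := by
  intro d
  simp only [zProj, LinearMap.smul_apply, LinearMap.sum_apply, map_smul, map_sum, Finset.smul_sum, smul_smul, R_zadd]
  rw [← Equiv.sum_comp (Equiv.addLeft d)]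
  refine Finset.sum_congr rfl fun c _ => ?_
  simp only [Equiv.coe_addLeft, ← add_assoc, D.add_self, zero_add, AddChar.map_add_eq_mul]
  congr 1
  ring

omit hF in
theorem zProj_of_mem {l : AddChar F ℂ} {v : V} (hv : v ∈ zEig D R l) : zProj D R l v = v := by
  simp only [zProj, LinearMap.smul_apply, LinearMap.sum_apply]
  rw [Finset.sum_congr rfl fun c _ => by rw [hv c, smul_smul, addChar_sq D, one_smul],
    Finset.sum_const, Finset.card_univ, ← Nat.cast_smul_eq_nsmul ℂ, smul_smul,
    inv_mul_cancel₀ (by exact_mod_cast Fintype.card_ne_zero), one_smul]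

omit hF in
theorem zProj_of_ne {l l' : AddChar F ℂ} (hne : l ≠ l') {v : V} (hv : v ∈ zEig D R l') : zProj D R l v = 0 := by
  simp only [zProj, LinearMap.smul_apply, LinearMap.sum_apply]
  rw [Finset.sum_congr rfl fun c _ => by rw [hv c, smul_smul], ← Finset.sum_smul]
  have h1 : ∑ c, l c * l' c = 0 := by
    refine AddChar.sum_eq_zero_of_ne_one (ψ := l * l') fun e => hne (AddChar.ext _ _ fun c => ?_)
    have h := DFunLike.congr_fun e c
    rw [AddChar.mul_apply, AddChar.one_apply] at h
    rw [← mul_one (l c), ← addChar_sq D l' c, ← mul_assoc, h, one_mul]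
  rw [h1, zero_smul, smul_zero]

omit hF in
/-- An element acting non-trivially gives a non-trivial character. -/
theorem exists_zEig_ne_bot {c₀ : F} (hc : R (gT D 0 c₀) ≠ 1) : ∃ l : AddChar F ℂ, l ≠ 1 ∧ zEig D R l ≠ ⊥ := by
  classical
  by_contra hcon
  push_neg at hcon
  apply hc
  have h0 : ∀ v : V, zProj D R 1 v = v := by
    intro v
    have hsum : ∑ l : AddChar F ℂ, zProj D R l v = v := by
      simp only [zProj, LinearMap.smul_apply, LinearMap.sum_apply]
      rw [← Finset.smul_sum, Finset.sum_comm]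
      simp only [← Finset.sum_smul, AddChar.sum_apply_eq_ite]
      rw [Finset.sum_eq_single 0 (fun b _ hb => by rw [if_neg hb, zero_smul]) (fun h => absurd (Finset.mem_univ _) h),
        if_pos rfl, gT_zero, map_one, Module.End.one_apply, smul_smul,
        inv_mul_cancel₀ (by exact_mod_cast Fintype.card_ne_zero), one_smul]
    rw [Finset.sum_eq_single 1 (fun l _ hl => by
      have := zProj_mem D R l v
      rw [hcon l hl, Submodule.mem_bot] at this
      exact this) (fun h => absurd (Finset.mem_univ _) h)] at hsum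
    exact hsum
  ext v
  have := zProj_mem D R 1 v c₀
  rwa [h0, AddChar.one_apply, one_smul] at this

/-- The restriction of a translation to an eigenspace of the centre. -/
noncomputable def qOp (l : AddChar F ℂ) (a : F) : Module.End ℂ (zEig D R l) :=
  (R (gT D a 0)).restrict (p := zEig D R l) (q := zEig D R l) fun v hv c => by
    show R (gT D 0 c) (R (gT D a 0) v) = l c • R (gT D a 0) v
    rw [← Module.End.mul_apply, ← map_mul, show gT D 0 c * gT D a 0 = gT D a 0 * gT D 0 c by
      rw [gT_mul, gT_mul]; congr 1 <;> simp, map_mul, Module.End.mul_apply, hv c, map_smul]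

omit hF in
theorem qOp_mul (l : AddChar F ℂ) (a b : F) : qOp D R l a * qOp D R l b = l (D.θ a * b) • qOp D R l (a + b) := by
  ext v
  show R (gT D a 0) (R (gT D b 0) v.1) = l (D.θ a * b) • R (gT D (a + b) 0) v.1
  rw [← Module.End.mul_apply, ← map_mul,
    show gT D a 0 * gT D b 0 = gT D (a + b) 0 * gT D 0 (D.θ a * b) by
      rw [gT_mul, gT_mul]; simp,
    map_mul, Module.End.mul_apply, v.2, map_smul]

omit hF in
theorem qOp_zero (l : AddChar F ℂ) : qOp D R l 0 = 1 := by
  ext v
  show R (gT D 0 0) v.1 = v.1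
  rw [gT_zero, map_one]; rfl

omit hF in
theorem qOp_trace (l : AddChar F ℂ) {a e : F} (he : l (cform D e a) = -1) :
    LinearMap.trace ℂ _ (qOp D R l a) = 0 := by
  set A := qOp D R l a
  set B := qOp D R l e
  have hsq : B * B = l (D.θ e * e) • 1 := by rw [qOp_mul, D.add_self, qOp_zero]
  have hanti : B * A = (-1 : ℂ) • (A * B) := by
    rw [qOp_mul, qOp_mul, smul_smul, add_comm e a]
    congr 1
    rw [show cform D e a = D.θ a * e + D.θ e * a from rfl, AddChar.map_add_eq_mul] at he
    calc l (D.θ e * a) = l (D.θ a * e) * l (D.θ a * e) * l (D.θ e * a) := by rw [addChar_sq D, one_mul]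
      _ = -1 * l (D.θ a * e) := by rw [mul_assoc, he]; ring
  have h1 : LinearMap.trace ℂ _ (B * A * B) = l (D.θ e * e) * LinearMap.trace ℂ _ A := by
    rw [LinearMap.trace_mul_comm, ← mul_assoc, hsq, smul_mul_assoc, one_mul, map_smul, smul_eq_mul]
  have h2 : LinearMap.trace ℂ _ (B * A * B) = -(l (D.θ e * e) * LinearMap.trace ℂ _ A) := by
    rw [hanti, smul_mul_assoc, mul_assoc, hsq, mul_smul_comm, mul_one, map_smul, map_smul, smul_eq_mul, smul_eq_mul,
      neg_one_mul]
  have hne : l (D.θ e * e) ≠ 0 := fun h => by simpa [h] using addChar_sq D l (D.θ e * e)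
  have h3 : (2 : ℂ) * (l (D.θ e * e) * LinearMap.trace ℂ _ A) = 0 := by linear_combination (h1.symm.trans h2)
  simpa [hne] using h3

/-- A non-zero eigenspace for a non-trivial character is large. -/
theorem two_pow_le_zEig [FiniteDimensional ℂ V] (l : AddChar F ℂ) (hl : l ≠ 1) (hne : zEig D R l ≠ ⊥) :
    2 ^ m ≤ Module.finrank ℂ (zEig D R l) := by
  classical
  obtain ⟨μ, hμ, hμrad⟩ : ∃ μ : AddChar F ℂ, μ ≠ 1 ∧ ∀ c, c ≠ 0 → (∀ a, l (cform D c a) = 1) → μ c ≠ 1 := by
    by_cases hr : ∃ c, c ≠ 0 ∧ ∀ a, l (cform D c a) = 1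
    · obtain ⟨c, hc, hca⟩ := hr
      obtain ⟨μ, hμ⟩ := AddChar.exists_apply_ne_zero.2 hc
      exact ⟨μ, AddChar.ne_one_iff.2 ⟨c, hμ⟩, fun c' hc' hca' => radical_unique D hF l hl hc hc' hca hca' ▸ hμ⟩
    · exact ⟨l, hl, fun c hc h => absurd ⟨c, hc, h⟩ hr⟩
  have htr : ∀ a, a ≠ 0 → μ a = 1 → LinearMap.trace ℂ _ (qOp D R l a) = 0 := by
    intro a ha hμa
    obtain ⟨e, he⟩ : ∃ e, l (cform D a e) ≠ 1 := by
      by_contra h
      push_neg at h
      exact hμrad a ha h hμa
    refine qOp_trace D R l (e := e) ?_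
    rw [show cform D e a = cform D a e by simp only [cform, AddMonoidHom.coe_mk, ZeroHom.coe_mk]; ring]
    exact (addChar_or D l _).resolve_left he
  have hpos : 0 < Module.finrank ℂ (zEig D R l) := by
    haveI := (Submodule.nontrivial_iff_ne_bot).2 hne
    exact Module.finrank_pos
  have hind : LinearIndependent ℂ fun a : {a : F // μ a = 1} => qOp D R l a.1 := by
    rw [Fintype.linearIndependent_iff]
    intro x hx b
    have h := congrArg (fun T => LinearMap.trace ℂ _ (T * qOp D R l b.1)) hx
    simp only [Finset.sum_mul, zero_mul, map_zero, map_sum, smul_mul_assoc, qOp_mul, map_smul, smul_eq_mul] at h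
    rw [Finset.sum_eq_single b (fun a _ hab => by
      rw [htr _ (fun e => hab (Subtype.ext (D.eq_of_add e))) (by rw [AddChar.map_add_eq_mul, a.2, b.2, one_mul]),
        mul_zero, mul_zero]) (fun h => absurd (Finset.mem_univ _) h), D.add_self, qOp_zero, LinearMap.trace_one] at h
    have hne : l (D.θ b.1 * b.1) ≠ 0 := fun h => by simpa [h] using addChar_sq D l (D.θ b.1 * b.1)
    simpa [hne, hpos.ne'] using h
  have h1 := hind.fintype_card_le_finrank
  rw [Module.finrank_linearMap, ← Nat.card_eq_fintype_card] at h1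
  have h2 := card_ker_char D μ hμ
  rw [hF, pow_succ] at h2
  have h3 : (2 ^ m) * (2 ^ m) ≤ Module.finrank ℂ (zEig D R l) * Module.finrank ℂ (zEig D R l) := by
    rw [← pow_add, ← two_mul]; omega
  exact Nat.mul_self_le_mul_self_iff.1 h3

/-- The character scaled by a torus element. -/
noncomputable def sChar (l : AddChar F ℂ) (s : Fˣ) : AddChar F ℂ :=
  l.compAddMonoidHom (AddMonoidHom.mulLeft (s : F))

theorem sChar_inj (l : AddChar F ℂ) (hl : l ≠ 1) : Function.Injective (sChar l) := by
  intro s t e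
  refine (inv_mul_eq_one.1 (scalar_ker_eq_one D hF l hl (s⁻¹ * t) fun x hx => ?_))
  have h := DFunLike.congr_fun e ((s⁻¹ : Fˣ) * x)
  simp only [sChar, AddChar.compAddMonoidHom_apply, AddMonoidHom.coe_mulLeft, Units.mul_inv_cancel_left, hx] at h
  rw [Units.val_mul, mul_comm ((s⁻¹ : Fˣ) : F), mul_assoc]
  exact h.symm

/-- The degree of a representation in which the centre acts non-trivially. -/
theorem min_degree [FiniteDimensional ℂ V] {c₀ : F} (hc : R (gT D 0 c₀) ≠ 1) :
    2 ^ m * (Fintype.card F - 1) ≤ Module.finrank ℂ V := by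
  classical
  obtain ⟨l, hl, hne⟩ := exists_zEig_ne_bot D R hc
  have hmove : ∀ (u : Fˣ) (v : V), v ∈ zEig D R l → R (gH D u) v ∈ zEig D R (sChar l (kap D u⁻¹)) := by
    intro u v hv c
    have e : gT D 0 c * gH D u = gH D u * gT D 0 ((kap D u⁻¹ : F) * c) := by
      have h := gH_scale D u⁻¹ 0 c
      rw [mul_zero, ← gH_inv, inv_inv] at h
      rw [← h]; group
    rw [← Module.End.mul_apply, ← map_mul, e, map_mul, Module.End.mul_apply, hv, map_smul]
    rfl
  let W := fun s : Fˣ => zEig D R (sChar l s)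
  have hW : ∀ s, 2 ^ m ≤ Module.finrank ℂ (W s) := by
    intro s
    refine two_pow_le_zEig D hF R _ ?_ ?_
    · intro e
      obtain ⟨x, hx⟩ := AddChar.ne_one_iff.1 hl
      apply hx
      have h := DFunLike.congr_fun e ((s⁻¹ : Fˣ) * x)
      simpa [sChar] using h
    · obtain ⟨u, rfl⟩ := (Finite.injective_iff_surjective.1 (kap_inj D hF)) s
      obtain ⟨v, hv, hv0⟩ := Submodule.exists_mem_ne_zero_of_ne_bot hne
      have h1 := hmove u⁻¹ v hv
      rw [inv_inv] at h1
      intro hb
      rw [hb, Submodule.mem_bot] at h1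
      apply hv0
      have h2 := congrArg (R (gH D u⁻¹)⁻¹) h1
      rwa [map_zero, ← Module.End.mul_apply, ← map_mul, inv_mul_cancel, map_one, Module.End.one_apply] at h2
  let P : V →ₗ[ℂ] (s : Fˣ) → W s := LinearMap.pi fun s =>
    (zProj D R (sChar l s)).codRestrict (W s) (zProj_mem D R _)
  have hP : Function.Surjective P := by
    intro w
    refine ⟨∑ s, (w s : V), funext fun t => Subtype.ext ?_⟩
    show zProj D R (sChar l t) (∑ s, (w s : V)) = w t
    rw [map_sum, Finset.sum_eq_single t
      (fun s _ hs => zProj_of_ne D R (fun e => hs (sChar_inj D hF l hl e).symm) (w s).2)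
      (fun h => absurd (Finset.mem_univ _) h), zProj_of_mem D R (w t).2]
  have h1 := LinearMap.finrank_le_finrank_of_surjective hP
  rw [Module.finrank_pi_fintype] at h1
  calc 2 ^ m * (Fintype.card F - 1) = ∑ _s : Fˣ, 2 ^ m := by simp [Fintype.card_units, mul_comm]
    _ ≤ ∑ s, Module.finrank ℂ (W s) := Finset.sum_le_sum fun s _ => hW s
    _ ≤ _ := h1

end Cfsg.Agent.Suzuki
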