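/-
The character degrees of a Suzuki group.
-/
import Cfsg.Agent.Lib.Suzuki.CharTori
import Cfsg.Agent.Lib.Suzuki.MinDeg
import Cfsg.Agent.Lib.Blocks.Knorr

set_option autoImplicit false

namespace Cfsg.Agent.Suzuki

open scoped ComplexConjugate
open Cfsg.Agent.CT
open scoped Classical

universe u

variable {F : Type u} [Field F] [Fintype F] {m : ℕ} (D : Dat F m) (hF : Fintype.card F = 2 ^ (2 * m + 1))
  [Fintype (Cfsg.Sz F m)]

include D hF

theorem q_facts : ∃ a : ℕ, 2 ^ m = a ∧ 2 ≤ a ∧ Fintype.card F = 2 * a * a ∧ 2 ^ (m + 1) = 2 * a := by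
  refine ⟨2 ^ m, rfl, Nat.le_self_pow (by have := D.one_le; omega) 2, ?_, pow_succ' 2 m⟩
  rw [hF, pow_succ', two_mul m, pow_add, mul_assoc]

theorem two_coprime : Nat.Coprime (Fintype.card F - 1) (Fintype.card F ^ 2 + 1) := by
  obtain ⟨a, -, ha, hq, -⟩ := q_facts D hF
  set q := Fintype.card F
  have hev : 2 ∣ q := ⟨a * a, by rw [hq, mul_assoc]⟩
  have h4 : 4 ≤ q := by rw [hq]; nlinarith
  refine Nat.coprime_of_dvd fun p hp h1 h2 => ?_
  have h3 : p ∣ 2 := by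
    have e : q ^ 2 + 1 = (q - 1) * (q + 1) + 2 := by
      obtain ⟨k, hk⟩ : ∃ k, q = k + 1 := ⟨q - 1, by omega⟩
      rw [hk, Nat.add_sub_cancel]; ring
    rw [e] at h2
    exact (Nat.dvd_add_right (h1.mul_right _)).1 h2
  have hp2 : p = 2 := (Nat.prime_dvd_prime_iff_eq hp Nat.prime_two).1 h3
  subst hp2
  omega

/-- Characters outside the principal series have large degree. -/
theorem cusp_min {χ : IrrCharacter (Cfsg.Sz F m)} (h : Cusp D hF (χ : Cfsg.Sz F m → ℂ)) :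
    2 ^ m * (Fintype.card F - 1) ≤ deg (χ : Cfsg.Sz F m → ℂ) := by
  obtain ⟨n, ρ, hρ, hχ⟩ := χ.2
  haveI := simple D hF
  by_cases hc : ρ (gT D 0 1) = 1
  · exfalso
    have hker : ρ.ker = ⊤ := ((inferInstance : ρ.ker.Normal).eq_bot_or_eq_top).resolve_left fun e => by
      have h1 : gT D 0 1 ∈ ρ.ker := hc
      rw [e, Subgroup.mem_bot] at h1
      exact one_ne_zero (gT_inj D (h1.trans (gT_zero D).symm)).2
    have hall : (χ : Cfsg.Sz F m → ℂ) = (deg (χ : Cfsg.Sz F m → ℂ) : ℂ) • fun _ => (1 : ℂ) := funext fun g => by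
      rw [Pi.smul_apply, smul_eq_mul, mul_one, ← deg_eq (isCharacter_of_isIrr χ.2), ← hχ, Representation.character,
        Representation.character, MonoidHom.mem_ker.1 (hker ▸ Subgroup.mem_top g), map_one ρ]
    have h0 := h 1
    rw [hall, classInner_smul_left, ← classInner_conj_symm, ps_triv_inner, map_one, mul_one, Nat.cast_eq_zero] at h0
    exact (deg_pos χ.2).ne' h0
  · have h1 := min_degree D hF ρ hc
    rwa [← deg_eq_finrank ρ, hχ] at h1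

/-- The multipliers of the degrees outside the principal series. -/
theorem exists_mult : ∃ x : IrrCharacter (Cfsg.Sz F m) → ℤ,
    (∀ χ : IrrCharacter (Cfsg.Sz F m), Cusp D hF (χ : Cfsg.Sz F m → ℂ) →
      (deg (χ : Cfsg.Sz F m → ℂ) : ℤ) = ((Fintype.card F : ℤ) - 1) * x χ ∧ (2 : ℤ) ^ m ≤ x χ) ∧
    2 * ∑ χ ∈ Finset.univ.filter (fun χ : IrrCharacter (Cfsg.Sz F m) => Cusp D hF (χ : Cfsg.Sz F m → ℂ)), x χ ^ 2 =
      (Fintype.card F : ℤ) * ((Fintype.card F : ℤ) ^ 2 - 1) := by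
  have hq : 2 ≤ Fintype.card F := Fintype.one_lt_card
  have hk : ∀ χ : IrrCharacter (Cfsg.Sz F m), Cusp D hF (χ : Cfsg.Sz F m → ℂ) →
      ∃ k : ℕ, deg (χ : Cfsg.Sz F m → ℂ) = (Fintype.card F - 1) * k := fun χ hχ => by
    obtain ⟨-, k, hk⟩ := cusp_torus D hF hχ
    rw [deg_eq (isCharacter_of_isIrr χ.2)] at hk
    exact ⟨k, by exact_mod_cast hk⟩
  choose! k hk using hk
  refine ⟨fun χ => k χ, fun χ hχ => ⟨?_, ?_⟩, ?_⟩
  · rw [hk χ hχ, Nat.cast_mul, Nat.cast_sub (by omega)]; simp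
  · have h := cusp_min D hF hχ
    rw [hk χ hχ, mul_comm (2 ^ m)] at h
    show (2 : ℤ) ^ m ≤ ((k χ : ℕ) : ℤ)
    exact_mod_cast Nat.le_of_mul_le_mul_left h (by omega)
  · have h := sum_sq_cusp D hF
    rw [Finset.sum_congr rfl (g := fun χ : IrrCharacter (Cfsg.Sz F m) => ((Fintype.card F : ℂ) - 1) ^ 2 * (k χ : ℂ) ^ 2)
      fun χ hχ => by
        rw [deg_eq (isCharacter_of_isIrr χ.2), hk χ (Finset.mem_filter.1 hχ).2, Nat.cast_mul,
          Nat.cast_sub (by omega), Nat.cast_one, mul_pow], ← Finset.mul_sum, card_sz D hF, Nat.cast_mul, Nat.cast_mul,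
      Nat.cast_sub (show 1 ≤ Fintype.card F by omega)] at h
    push_cast at h
    have h1 : ((Fintype.card F : ℂ) - 1) ^ 2 ≠ 0 := pow_ne_zero _ (sub_ne_zero.2 (by exact_mod_cast (show Fintype.card F ≠ 1 by omega)))
    have h2 : ((2 * ∑ χ ∈ Finset.univ.filter (fun χ : IrrCharacter (Cfsg.Sz F m) => Cusp D hF (χ : Cfsg.Sz F m → ℂ)),
        (k χ : ℤ) ^ 2 : ℤ) : ℂ) = (((Fintype.card F : ℤ) * ((Fintype.card F : ℤ) ^ 2 - 1) : ℤ) : ℂ) := by
      push_cast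
      refine mul_left_cancel₀ h1 ?_
      linear_combination 2 * h
    exact Int.cast_injective h2

/-- A class of one of the two sizes. -/
theorem exists_free_cls (n : ℕ)
    (hn : n = Fintype.card F + 2 ^ (m + 1) + 1 ∨ n = Fintype.card F - 2 ^ (m + 1) + 1) :
    ∃ C : OddCls (Cfsg.Sz F m), Nat.card C.1 = n ∧ Nat.card (NC C) = 4 * Nat.card C.1 ∧
      ∀ a ∈ C.1, a ≠ 1 → ∀ p : Cfsg.suzukiOvoid F m, a • p ≠ p := by
  obtain ⟨C, hC, hN⟩ := exists_cls D hF (n := n) (l := 4) (by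
    rcases hn with e | e
    exacts [Or.inr (Or.inl ⟨e, rfl⟩), Or.inr (Or.inr ⟨e, rfl⟩)])
  refine ⟨C, hC, hC.symm ▸ hN, fun a ha ha1 => ?_⟩
  rcases cls_kinds D hF C with ⟨p, p', hpp, e⟩ | hU
  · exfalso
    rw [e, card_pairStab D hF hpp] at hC
    obtain ⟨t, -, ht, hq, hr⟩ := q_facts D hF
    have := D.card_big hF
    omega
  · exact hU.fpf D hF ha ha1

theorem coprime_conj {C C' : OddCls (Cfsg.Sz F m)} (hco : Nat.Coprime (Nat.card C.1) (Nat.card C'.1))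
    {a : Cfsg.Sz F m} (ha : a ∈ C'.1) (k : Cfsg.Sz F m) (hk : k⁻¹ * a * k ∈ C.1) : k⁻¹ * a * k = 1 := by
  have h1 := Subgroup.orderOf_dvd_natCard _ hk
  have h2 := Subgroup.orderOf_dvd_natCard _ ha
  rw [show k⁻¹ * a * k = MulAut.conj k⁻¹ a by simp, MulEquiv.orderOf_eq] at h1
  have h3 := Nat.eq_one_of_dvd_coprimes hco h1 h2
  rw [orderOf_eq_one_iff.1 h3]; group

/-- The degrees inside one family. -/
theorem fam_degree {C C' : OddCls (Cfsg.Sz F m)} {n n' : ℕ} (P : TFam D hF C n) (P' : TFam D hF C' n')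
    (x : IrrCharacter (Cfsg.Sz F m) → ℤ)
    (hx : ∀ χ : IrrCharacter (Cfsg.Sz F m), Cusp D hF (χ : Cfsg.Sz F m → ℂ) →
      (deg (χ : Cfsg.Sz F m → ℂ) : ℤ) = ((Fintype.card F : ℤ) - 1) * x χ ∧ (2 : ℤ) ^ m ≤ x χ)
    (hsum : 2 * ∑ χ ∈ Finset.univ.filter (fun χ : IrrCharacter (Cfsg.Sz F m) => Cusp D hF (χ : Cfsg.Sz F m → ℂ)), x χ ^ 2 =
      (Fintype.card F : ℤ) * ((Fintype.card F : ℤ) ^ 2 - 1))
    (hm : 2 ≤ m) (hs : (Nat.card C.1 : ℤ) + Nat.card C'.1 = 2 * Fintype.card F + 2)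
    (hp : (Nat.card C.1 : ℤ) * Nat.card C'.1 = (Fintype.card F : ℤ) ^ 2 + 1)
    (hν : 3 * Fintype.card F ≤ 4 * (Nat.card C.1 - 1)) (hν' : 3 * Fintype.card F ≤ 4 * Nat.card C'.1) :
    (∀ i, P.fam i ∉ Set.range P'.fam) ∧ ∀ i, x (P.fam i) = (Nat.card C'.1 : ℤ) := by
  obtain ⟨t, htm, -, hq, hr⟩ := q_facts D hF
  have ht4 : 4 ≤ t := by rw [← htm]; exact (pow_le_pow_right₀ (by norm_num) hm : 2 ^ 2 ≤ 2 ^ m)
  have hq32 : 32 ≤ Fintype.card F := by rw [hq]; nlinarith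
  set ν := Nat.card C.1 with hνdef
  set ν' := Nat.card C'.1 with hν'def
  have hνodd : Odd ν := cls_odd (szLike D hF) C
  have hν'odd : Odd ν' := cls_odd (szLike D hF) C'
  have hn3 : 3 ≤ n := by have := P.hn; omega
  have hco : Nat.Coprime ν ν' := by
    refine Nat.coprime_of_dvd fun p hp1 h1 h2 => ?_
    have hpq : p ∣ 2 * Fintype.card F + 2 := by
      rw [show 2 * Fintype.card F + 2 = ν + ν' by exact_mod_cast hs.symm]
      exact dvd_add h1 h2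
    have hodd : Odd p := hνodd.of_dvd_nat h1
    have hpp : p ∣ Fintype.card F ^ 2 + 1 := by
      rw [show Fintype.card F ^ 2 + 1 = ν * ν' by exact_mod_cast hp.symm]
      exact h1.mul_right _
    have h3 : p ∣ Fintype.card F + 1 :=
      (Nat.Coprime.dvd_of_dvd_mul_left (Nat.coprime_two_right.2 hodd)
        (by rwa [show 2 * (Fintype.card F + 1) = 2 * Fintype.card F + 2 by ring]))
    have h4 : p ∣ (Fintype.card F - 1) * (Fintype.card F + 1) := h3.mul_left _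
    have e : Fintype.card F ^ 2 + 1 = (Fintype.card F - 1) * (Fintype.card F + 1) + 2 := by
      obtain ⟨k, hk⟩ : ∃ k, Fintype.card F = k + 1 := ⟨Fintype.card F - 1, by omega⟩
      rw [hk, Nat.add_sub_cancel]; ring
    rw [e] at hpp
    have h5 := (Nat.prime_dvd_prime_iff_eq hp1 Nat.prime_two).1 ((Nat.dvd_add_right h4).1 hpp)
    subst h5
    exact absurd hodd (by decide)
  have hoff : ∀ i j, ∀ a ∈ C'.1, (P.fam i : Cfsg.Sz F m → ℂ) a = (P.fam j : Cfsg.Sz F m → ℂ) a :=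
    fun i j a ha => P.off i j a fun k hk => coprime_conj D hF hco ha k hk
  have hdisj : ∀ i, P.fam i ∉ Set.range P'.fam := by
    rintro i ⟨k, hk⟩
    haveI : Nontrivial (Fin n) := Fin.nontrivial_iff_two_le.2 (by omega)
    obtain ⟨j, hj⟩ := exists_ne i
    by_cases hj' : P.fam j ∈ Set.range P'.fam
    · obtain ⟨l, hl⟩ := hj'
      have hkl : k ≠ l := fun e => hj (P.inj (by rw [← hl, ← e, hk]))
      obtain ⟨a, ha, -, hne⟩ := P'.distinct k l hkl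
      rw [hk, hl] at hne
      exact hne (hoff i j a ha)
    · obtain ⟨c, hc, -⟩ := P'.other _ hj'
      obtain ⟨a, ha, b, hb, ha1, hb1, hne⟩ := P'.nonconst k
      rw [hk] at hne
      exact hne (by rw [hoff i j a ha, hoff i j b hb, hc a ha ha1, hc b hb hb1])
  refine ⟨hdisj, ?_⟩
  let i₀ : Fin n := ⟨0, by omega⟩
  obtain ⟨c, hc, hcd⟩ := P'.other _ (hdisj i₀)
  have hc0 : c = 0 := by
    refine P'.small (Finset.univ.image P.fam) (fun χ hχ => ?_) ?_ c (fun χ hχ a ha ha1 => ?_)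
    · obtain ⟨i, -, rfl⟩ := Finset.mem_image.1 hχ
      exact ⟨hdisj i, P.cusp i⟩
    · rw [Finset.card_image_of_injective _ P.inj, Finset.card_univ, Fintype.card_fin]; exact hn3
    · obtain ⟨i, -, rfl⟩ := Finset.mem_image.1 hχ
      rw [hoff i i₀ a ha, hc a ha ha1]
  have hdeq : ∀ i, x (P.fam i) = x (P.fam i₀) := by
    intro i
    have h := P.off i i₀ 1 fun k _ => by group
    rw [deg_eq (isCharacter_of_isIrr (P.fam i).2), deg_eq (isCharacter_of_isIrr (P.fam i₀).2)] at h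
    have h' : (deg (P.fam i : Cfsg.Sz F m → ℂ) : ℤ) = deg (P.fam i₀ : Cfsg.Sz F m → ℂ) := by exact_mod_cast h
    rw [(hx _ (P.cusp i)).1, (hx _ (P.cusp i₀)).1] at h'
    exact mul_left_cancel₀ (by omega) h'
  set X := x (P.fam i₀) with hX
  obtain ⟨hd, hX2⟩ := hx _ (P.cusp i₀)
  rw [← hX] at hd hX2
  rw [hc0, sub_zero, hd] at hcd
  have hco' : IsCoprime ((ν' : ℤ)) ((Fintype.card F : ℤ) - 1) := by
    have h := ((two_coprime D hF).coprime_dvd_right (show ν' ∣ Fintype.card F ^ 2 + 1 from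
      ⟨ν, by rw [mul_comm]; exact_mod_cast hp.symm⟩)).symm
    have h' := Int.isCoprime_iff_nat_coprime.2 (by rw [Int.natAbs_natCast, Int.natAbs_natCast]; exact h :
      Nat.Coprime (ν' : ℤ).natAbs ((Fintype.card F - 1 : ℕ) : ℤ).natAbs)
    rwa [Nat.cast_sub (by omega), Nat.cast_one] at h'
  obtain ⟨y, hy⟩ := hco'.dvd_of_dvd_mul_left hcd
  have h1 := P.congr_deg i₀
  rw [hd, hy, ← hνdef] at h1
  have h2 : (ν : ℤ) ∣ 4 * (y + P.ε) := by
    obtain ⟨k, hk⟩ := h1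
    refine ⟨y * (2 * (ν' : ℤ) - Fintype.card F + 1) - k, ?_⟩
    linear_combination (-1 : ℤ) * hk + y * ((Fintype.card F : ℤ) - 1) * hs - 2 * y * hp
  have h3 : (ν : ℤ) ∣ y + P.ε := by
    refine IsCoprime.dvd_of_dvd_mul_left ?_ h2
    have : Nat.Coprime ν 4 := Nat.Coprime.pow_right 2 (Nat.coprime_two_right.2 hνodd)
    exact_mod_cast Int.isCoprime_iff_nat_coprime.2 (by simpa using this : Nat.Coprime (ν : ℤ).natAbs (4 : ℤ).natAbs)
  have hy1 : 1 ≤ y := by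
    have : 0 < (ν' : ℤ) * y := hy ▸ lt_of_lt_of_le (by positivity) hX2
    exact (pos_iff_pos_of_mul_pos this).1 (by omega)
  have hy2 : y ≤ 2 := by
    by_contra hcon
    push_neg at hcon
    have hle : ∑ χ ∈ Finset.univ.image P.fam, x χ ^ 2 ≤
        ∑ χ ∈ Finset.univ.filter (fun χ : IrrCharacter (Cfsg.Sz F m) => Cusp D hF (χ : Cfsg.Sz F m → ℂ)), x χ ^ 2 := by
      refine Finset.sum_le_sum_of_subset_of_nonneg (fun χ hχ => ?_) fun χ _ _ => sq_nonneg _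
      obtain ⟨i, -, rfl⟩ := Finset.mem_image.1 hχ
      exact Finset.mem_filter.2 ⟨Finset.mem_univ _, P.cusp i⟩
    rw [Finset.sum_image fun i _ j _ h => P.inj h, Finset.sum_congr rfl fun i _ => by rw [hdeq i],
      Finset.sum_const, Finset.card_univ, Fintype.card_fin, nsmul_eq_mul, hy] at hle
    have e4 : 4 * (n : ℤ) + 1 = ν := by exact_mod_cast P.hn
    have b1 : 3 * (Fintype.card F : ℤ) ≤ 4 * ((ν : ℤ) - 1) := by omega
    have b2 : 3 * (Fintype.card F : ℤ) ≤ 4 * (ν' : ℤ) := by exact_mod_cast hν'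
    have b3 : (3 * (Fintype.card F : ℤ)) ^ 2 ≤ (4 * (ν' : ℤ)) ^ 2 := pow_le_pow_left₀ (by positivity) b2 2
    have b4 : 9 ≤ y ^ 2 := by nlinarith
    have b5 : (3 * (Fintype.card F : ℤ)) * (3 * (Fintype.card F : ℤ)) ^ 2 * 9 ≤
        (4 * ((ν : ℤ) - 1)) * (4 * (ν' : ℤ)) ^ 2 * y ^ 2 :=
      mul_le_mul (mul_le_mul b1 b3 (by positivity) (by omega)) b4 (by norm_num)
        (mul_nonneg (by omega) (by positivity))
    have b6 : (0 : ℤ) < (Fintype.card F : ℤ) := by omega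
    rw [← e4, add_sub_cancel_right] at b5
    nlinarith [pow_pos b6 3]
  have hyε : y + P.ε = 0 := by
    refine Int.eq_zero_of_abs_lt_dvd h3 ?_
    rw [abs_lt]
    rcases P.hε with e | e <;> omega
  intro i
  rw [hdeq i, hy]
  rcases P.hε with e | e
  · omega
  · rw [show y = 1 by omega, mul_one]

/-- The degrees for large fields. -/
theorem degrees_big (hm : 2 ≤ m) :
    (∀ χ : IrrCharacter (Cfsg.Sz F m), Cusp D hF (χ : Cfsg.Sz F m → ℂ) →
      deg (χ : Cfsg.Sz F m → ℂ) = (Fintype.card F - 1) * (Fintype.card F - 2 ^ (m + 1) + 1) ∨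
      deg (χ : Cfsg.Sz F m → ℂ) = (Fintype.card F - 1) * (Fintype.card F + 2 ^ (m + 1) + 1) ∨
      deg (χ : Cfsg.Sz F m → ℂ) = (Fintype.card F - 1) * 2 ^ m) ∧
    (∀ d, (d = Fintype.card F - 2 ^ (m + 1) + 1 ∨ d = Fintype.card F + 2 ^ (m + 1) + 1 ∨ d = 2 ^ m) →
      ∃ χ : IrrCharacter (Cfsg.Sz F m), deg (χ : Cfsg.Sz F m → ℂ) = (Fintype.card F - 1) * d) := by
  obtain ⟨t, htm, -, hq, hr⟩ := q_facts D hF
  have ht4 : 4 ≤ t := by rw [← htm]; exact (pow_le_pow_right₀ (by norm_num) hm : 2 ^ 2 ≤ 2 ^ m)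
  have hq32 : 32 ≤ Fintype.card F := by rw [hq]; nlinarith
  have hr4 : 4 * 2 ^ (m + 1) ≤ Fintype.card F := by rw [hr, hq]; nlinarith
  obtain ⟨Cp, hCp, hNp, hfp⟩ := exists_free_cls D hF _ (Or.inl rfl)
  obtain ⟨Cm, hCm, hNm, hfm⟩ := exists_free_cls D hF _ (Or.inr rfl)
  obtain ⟨np, ⟨P⟩⟩ := exists_tfam D hF Cp hNp hfp (by omega)
  obtain ⟨nm, ⟨M⟩⟩ := exists_tfam D hF Cm hNm hfm (by omega)
  obtain ⟨x, hx, hsum⟩ := exists_mult D hF
  have e1 : (Nat.card Cp.1 : ℤ) = (Fintype.card F : ℤ) + 2 * t + 1 := by rw [hCp, hr]; push_cast; ring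
  have e2 : (Nat.card Cm.1 : ℤ) = (Fintype.card F : ℤ) - 2 * t + 1 := by
    rw [hCm, hr, Nat.cast_add, Nat.cast_sub (by omega)]; push_cast; ring
  have eq : (Fintype.card F : ℤ) = 2 * t * t := by exact_mod_cast hq
  have hp : (Nat.card Cp.1 : ℤ) * Nat.card Cm.1 = (Fintype.card F : ℤ) ^ 2 + 1 := by
    rw [e1, e2]; linear_combination 2 * eq
  obtain ⟨hPd, hPx⟩ := fam_degree D hF P M x hx hsum hm (by rw [e1, e2]; ring) hp (by omega) (by omega)
  obtain ⟨hMd, hMx⟩ := fam_degree D hF M P x hx hsum hm (by rw [e1, e2]; ring) (by rw [mul_comm]; exact hp)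
    (by omega) (by omega)
  set R := Finset.univ.filter (fun χ : IrrCharacter (Cfsg.Sz F m) => Cusp D hF (χ : Cfsg.Sz F m → ℂ)) with hR
  set SP := Finset.univ.image P.fam
  set SM := Finset.univ.image M.fam
  have hdis : Disjoint SP SM := by
    rw [Finset.disjoint_left]
    intro χ h1 h2
    obtain ⟨i, -, rfl⟩ := Finset.mem_image.1 h1
    obtain ⟨j, -, hj⟩ := Finset.mem_image.1 h2
    exact hPd i ⟨j, hj⟩
  have hsub : SP ∪ SM ⊆ R := by
    intro χ h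
    rcases Finset.mem_union.1 h with h | h <;> obtain ⟨i, -, rfl⟩ := Finset.mem_image.1 h
    exacts [Finset.mem_filter.2 ⟨Finset.mem_univ _, P.cusp i⟩, Finset.mem_filter.2 ⟨Finset.mem_univ _, M.cusp i⟩]
  set W := R \ (SP ∪ SM)
  have hW : ∑ χ ∈ W, x χ ^ 2 = (Fintype.card F : ℤ) := by
    have hsP : ∑ i, x (P.fam i) ^ 2 = (np : ℤ) * (Nat.card Cm.1 : ℤ) ^ 2 := by
      rw [Finset.sum_congr rfl (g := fun _ => (Nat.card Cm.1 : ℤ) ^ 2) fun i _ => by rw [hPx i]]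
      simp
    have hsM : ∑ i, x (M.fam i) ^ 2 = (nm : ℤ) * (Nat.card Cp.1 : ℤ) ^ 2 := by
      rw [Finset.sum_congr rfl (g := fun _ => (Nat.card Cp.1 : ℤ) ^ 2) fun i _ => by rw [hMx i]]
      simp
    rw [← Finset.sum_sdiff hsub, Finset.sum_union hdis, Finset.sum_image fun i _ j _ h => P.inj h,
      Finset.sum_image fun i _ j _ h => M.inj h, hsP, hsM] at hsum
    have ep : 4 * (np : ℤ) + 1 = Nat.card Cp.1 := by exact_mod_cast P.hn
    have em : 4 * (nm : ℤ) + 1 = Nat.card Cm.1 := by exact_mod_cast M.hn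
    rw [e1] at ep
    rw [e2] at em
    rw [e1, e2] at hsum
    have h4 : 4 * (2 * ∑ χ ∈ W, x χ ^ 2) = 4 * (2 * (Fintype.card F : ℤ)) := by
      linear_combination 4 * hsum - 2 * ((Fintype.card F : ℤ) - 2 * t + 1) ^ 2 * ep -
        2 * ((Fintype.card F : ℤ) + 2 * t + 1) ^ 2 * em - 8 * ((Fintype.card F : ℤ) + 2) * eq
    linarith
  have hWx : ∀ χ ∈ W, x χ = (2 : ℤ) ^ m := by
    intro χ hχ
    have hlow : ∀ ψ ∈ W, (t : ℤ) ≤ x ψ := fun ψ hψ => by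
      have := (hx ψ (Finset.mem_filter.1 (Finset.mem_sdiff.1 hψ).1).2).2
      rwa [← Nat.cast_ofNat (n := 2), ← Nat.cast_pow, htm] at this
    rw [← Nat.cast_ofNat (n := 2), ← Nat.cast_pow, htm]
    refine le_antisymm ?_ (hlow χ hχ)
    by_contra hcon
    push_neg at hcon
    by_cases hone : W = {χ}
    · rw [hone, Finset.sum_singleton] at hW
      obtain ⟨v, hv⟩ : ∃ v : ℕ, x χ = v := ⟨(x χ).toNat, (Int.toNat_of_nonneg (by omega)).symm⟩
      rw [hv] at hW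
      have hv2 : v ^ 2 = 2 ^ (2 * m + 1) := by rw [← hF]; exact_mod_cast hW
      obtain ⟨k, -, hk⟩ := (Nat.dvd_prime_pow Nat.prime_two).1 (hv2 ▸ dvd_pow_self v two_ne_zero : v ∣ 2 ^ (2 * m + 1))
      rw [hk, ← pow_mul] at hv2
      have := Nat.pow_right_injective le_rfl hv2
      omega
    · obtain ⟨ψ, hψ, hne⟩ : ∃ ψ ∈ W, ψ ≠ χ := by
        by_contra h
        push_neg at h
        exact hone (Finset.eq_singleton_iff_unique_mem.2 ⟨hχ, h⟩)
      have h1 : x χ ^ 2 + x ψ ^ 2 ≤ (Fintype.card F : ℤ) := by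
        rw [← hW, ← Finset.sum_pair (f := fun z => x z ^ 2) hne.symm]
        refine Finset.sum_le_sum_of_subset_of_nonneg ?_ fun _ _ _ => sq_nonneg _
        intro z hz
        rcases Finset.mem_insert.1 hz with rfl | hz
        · exact hχ
        · rw [Finset.mem_singleton.1 hz]; exact hψ
      have h2 := hlow ψ hψ
      nlinarith
  have hnat : ∀ (χ : IrrCharacter (Cfsg.Sz F m)) (d : ℕ), Cusp D hF (χ : Cfsg.Sz F m → ℂ) → x χ = d →
      deg (χ : Cfsg.Sz F m → ℂ) = (Fintype.card F - 1) * d := fun χ d hχ he => by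
    have h := (hx χ hχ).1
    rw [he, show (Fintype.card F : ℤ) - 1 = ((Fintype.card F - 1 : ℕ) : ℤ) by omega] at h
    exact_mod_cast h
  refine ⟨fun χ hχ => ?_, fun d hd => ?_⟩
  · by_cases hP : χ ∈ SP
    · obtain ⟨i, -, rfl⟩ := Finset.mem_image.1 hP
      exact Or.inl (hnat _ _ hχ (by rw [hPx i, hCm]))
    · by_cases hM : χ ∈ SM
      · obtain ⟨i, -, rfl⟩ := Finset.mem_image.1 hM
        exact Or.inr (Or.inl (hnat _ _ hχ (by rw [hMx i, hCp])))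
      · refine Or.inr (Or.inr (hnat _ _ hχ (by rw [hWx χ (Finset.mem_sdiff.2
          ⟨Finset.mem_filter.2 ⟨Finset.mem_univ _, hχ⟩, by simp [hP, hM]⟩)]; norm_num)))
  · rcases hd with rfl | rfl | rfl
    · exact ⟨P.fam ⟨0, by have := P.hn; omega⟩, hnat _ _ (P.cusp _) (by rw [hPx, hCm])⟩
    · exact ⟨M.fam ⟨0, by have := M.hn; omega⟩, hnat _ _ (M.cusp _) (by rw [hMx, hCp])⟩
    · obtain ⟨χ, hχ⟩ : W.Nonempty := Finset.nonempty_of_ne_empty fun e => by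
        rw [e, Finset.sum_empty] at hW; omega
      exact ⟨χ, hnat _ _ (Finset.mem_filter.1 (Finset.mem_sdiff.1 hχ).1).2 (by rw [hWx χ hχ]; norm_num)⟩

/-- The degrees for the field with eight elements. -/
theorem degrees_eight (hm : m = 1) :
    (∀ χ : IrrCharacter (Cfsg.Sz F m), Cusp D hF (χ : Cfsg.Sz F m → ℂ) →
      deg (χ : Cfsg.Sz F m → ℂ) = (Fintype.card F - 1) * (Fintype.card F - 2 ^ (m + 1) + 1) ∨
      deg (χ : Cfsg.Sz F m → ℂ) = (Fintype.card F - 1) * (Fintype.card F + 2 ^ (m + 1) + 1) ∨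
      deg (χ : Cfsg.Sz F m → ℂ) = (Fintype.card F - 1) * 2 ^ m) ∧
    (∀ d, (d = Fintype.card F - 2 ^ (m + 1) + 1 ∨ d = Fintype.card F + 2 ^ (m + 1) + 1 ∨ d = 2 ^ m) →
      ∃ χ : IrrCharacter (Cfsg.Sz F m), deg (χ : Cfsg.Sz F m → ℂ) = (Fintype.card F - 1) * d) := by
  subst hm
  have hq : Fintype.card F = 8 := by rw [hF]; norm_num
  obtain ⟨C, hC, hN, hfree⟩ := exists_free_cls D hF _ (Or.inr rfl)
  have hC5 : Nat.card C.1 = 5 := by rw [hC, hq]; norm_num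
  haveI := Fintype.ofFinite (NC C)
  have hcount := nt_count D hF C hN
  rw [hC5] at hcount
  obtain ⟨a, ha, ha1⟩ : ∃ a ∈ C.1, a ≠ 1 := by
    haveI : Nontrivial C.1 := Finite.one_lt_card_iff_nontrivial.1 (by omega)
    obtain ⟨a, ha⟩ := exists_ne (1 : C.1)
    exact ⟨a, a.2, fun e => ha (Subtype.ext e)⟩
  have hint : ∀ χ : IrrCharacter (Cfsg.Sz F 1), ∃ c : ℤ, (χ : Cfsg.Sz F 1 → ℂ) a = c ∧
      (5 : ℤ) ∣ (deg (χ : Cfsg.Sz F 1 → ℂ) : ℤ) - c := by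
    intro χ
    obtain ⟨c, hc, hd⟩ := const_int D hF C hN (isGen_restrict (NC C) (isGen_of_isIrr χ.2)) (fun ψ ψ' h h' => by
      have := Finset.card_le_one.1 (show (Finset.univ.filter fun χ : IrrCharacter (NC C) =>
        FrobKernel.NT (KC C) (χ : NC C → ℂ)).card ≤ 1 by omega) ψ (Finset.mem_filter.2 ⟨Finset.mem_univ _, h⟩) ψ'
        (Finset.mem_filter.2 ⟨Finset.mem_univ _, h'⟩)
      rw [this]) (by omega)
    refine ⟨c, hc ⟨a, Subgroup.le_normalizer ha⟩ ha fun e => ha1 (congrArg Subtype.val e), ?_⟩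
    have := hd (deg (χ : Cfsg.Sz F 1 → ℂ)) (by
      show (χ : Cfsg.Sz F 1 → ℂ) 1 = _
      rw [deg_eq (isCharacter_of_isIrr χ.2)]; simp)
    rwa [hC5] at this
  choose c hc hcd using hint
  set R := Finset.univ.filter (fun χ : IrrCharacter (Cfsg.Sz F 1) => Cusp D hF (χ : Cfsg.Sz F 1 → ℂ)) with hR
  have hc3 : ∑ χ ∈ R, c χ * c χ = 3 := by
    have h := column D hF C hfree ha ha1
    rw [← hR, Finset.sum_congr rfl fun χ _ => by rw [hc χ, map_intCast], hC5] at h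
    have h' : ((∑ χ ∈ R, c χ * c χ : ℤ) : ℂ) = ((3 : ℤ) : ℂ) := by push_cast; linear_combination h
    exact_mod_cast h'
  have hc1 : ∀ χ ∈ R, c χ = -1 ∨ c χ = 0 ∨ c χ = 1 := by
    intro χ hχ
    have h := Finset.single_le_sum (f := fun ψ => c ψ * c ψ) (fun ψ _ => mul_self_nonneg _) hχ
    rw [hc3] at h
    have h1 : c χ ≤ 1 := by nlinarith
    have h2 : -1 ≤ c χ := by nlinarith
    omega
  set T := R.filter fun χ => c χ ≠ 0
  have hT : T.card = 3 := by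
    have h : ∑ χ ∈ R, c χ * c χ = ∑ χ ∈ T, (1 : ℤ) := by
      conv_rhs => rw [show T = R.filter (fun χ => c χ ≠ 0) from rfl, Finset.sum_filter]
      refine Finset.sum_congr rfl fun χ hχ => ?_
      rcases hc1 χ hχ with e | e | e <;> simp [e]
    rw [hc3, Finset.sum_const, nsmul_eq_mul, mul_one] at h
    exact_mod_cast h.symm
  obtain ⟨x, hx, hsum⟩ := exists_mult D hF
  rw [hq] at hx hsum
  rw [← hR] at hsum
  have hsum' : ∑ χ ∈ R, x χ ^ 2 = 252 := by push_cast at hsum; linarith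
  have hkind : ∀ χ ∈ R, (c χ = 0 → x χ = 5 ∨ x χ = 10) ∧ (c χ ≠ 0 → x χ = 2 ∨ x χ = 8 ∨ x χ = 13) := by
    intro χ hχ
    obtain ⟨h1, h2⟩ := hx χ (Finset.mem_filter.1 hχ).2
    have h3 := Finset.single_le_sum (f := fun ψ => x ψ ^ 2) (fun ψ _ => sq_nonneg _) hχ
    rw [hsum'] at h3
    have h15 : x χ ≤ 15 := by nlinarith
    have h4 := hcd χ
    rw [h1] at h4
    have h5 : (deg (χ : Cfsg.Sz F 1 → ℂ)) ∣ Nat.card (Cfsg.Sz F 1) := Blocks.charDegree_dvd_card χ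
    rw [card_sz D hF, hq] at h5
    have h6 : 7 * x χ ∣ (29120 : ℤ) := by
      have h7 := Int.natCast_dvd_natCast.2 h5
      rw [h1] at h7
      exact_mod_cast h7
    obtain ⟨k, hk⟩ := h4
    rcases hc1 χ hχ with e | e | e <;> rw [e] at hk <;> generalize x χ = X at * <;> interval_cases X <;>
      first
        | omega
        | (exfalso; revert h6; decide)
        | simp [e]
  have hrest : ∀ χ ∈ R \ T, c χ = 0 := fun χ hχ => by
    obtain ⟨h1, h2⟩ := Finset.mem_sdiff.1 hχ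
    by_contra h
    exact h2 (Finset.mem_filter.2 ⟨h1, h⟩)
  have hTsub : T ⊆ R := Finset.filter_subset _ _
  obtain ⟨χ₁, χ₂, χ₃, h12, h13, h23, hTeq⟩ := Finset.card_eq_three.1 hT
  have hTx : ∀ χ ∈ T, x χ = 2 ∨ x χ = 8 ∨ x χ = 13 := fun χ hχ =>
    (hkind χ (hTsub hχ)).2 (Finset.mem_filter.1 hχ).2
  obtain ⟨k, hk⟩ : (25 : ℤ) ∣ ∑ χ ∈ R \ T, x χ ^ 2 := Finset.dvd_sum fun χ hχ => by
    rcases (hkind χ (Finset.mem_sdiff.1 hχ).1).1 (hrest χ hχ) with e | e <;> rw [e] <;> norm_num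
  have hk0 : 0 ≤ ∑ χ ∈ R \ T, x χ ^ 2 := Finset.sum_nonneg fun _ _ => sq_nonneg _
  rw [← Finset.sum_sdiff hTsub, hk, hTeq] at hsum'
  rw [Finset.sum_insert (by simp [h12, h13]), Finset.sum_insert (by simp [h23]), Finset.sum_singleton] at hsum'
  have m1 : χ₁ ∈ T := by rw [hTeq]; simp
  have m2 : χ₂ ∈ T := by rw [hTeq]; simp
  have m3 : χ₃ ∈ T := by rw [hTeq]; simp
  have hres : (∀ χ ∈ T, x χ = 2 ∨ x χ = 13) ∧ (∃ χ ∈ T, x χ = 2) ∧ (∃ χ ∈ T, x χ = 13) ∧ k = 3 := by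
    have hall : ∀ P : IrrCharacter (Cfsg.Sz F 1) → Prop, P χ₁ → P χ₂ → P χ₃ → ∀ χ ∈ T, P χ := by
      intro P p1 p2 p3 χ hχ
      rw [hTeq] at hχ
      simp only [Finset.mem_insert, Finset.mem_singleton] at hχ
      rcases hχ with rfl | rfl | rfl <;> assumption
    rcases hTx χ₁ m1 with a1 | a1 | a1 <;> rcases hTx χ₂ m2 with a2 | a2 | a2 <;>
      rcases hTx χ₃ m3 with a3 | a3 | a3 <;> rw [a1, a2, a3] at hsum' <;>
      first
        | omega
        | exact ⟨hall _ (by omega) (by omega) (by omega),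
            by first | exact ⟨χ₁, m1, a1⟩ | exact ⟨χ₂, m2, a2⟩,
            by first | exact ⟨χ₁, m1, a1⟩ | exact ⟨χ₂, m2, a2⟩ | exact ⟨χ₃, m3, a3⟩, by omega⟩
  obtain ⟨hT2, ⟨χa, hχa, hxa⟩, ⟨χb, hχb, hxb⟩, hk3⟩ := hres
  subst hk3
  have h55 : ∀ χ ∈ R \ T, x χ = 5 := by
    intro χ hχ
    have h := Finset.single_le_sum (f := fun ψ => x ψ ^ 2) (fun ψ _ => sq_nonneg _) hχ
    rw [hk] at h
    rcases (hkind χ (Finset.mem_sdiff.1 hχ).1).1 (hrest χ hχ) with e | e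
    · exact e
    · rw [e] at h; norm_num at h
  have hnat : ∀ χ ∈ R, ∀ d : ℕ, x χ = d → deg (χ : Cfsg.Sz F 1 → ℂ) = 7 * d := fun χ hχ d he => by
    have h := (hx χ (Finset.mem_filter.1 hχ).2).1
    rw [he] at h
    norm_num at h
    exact_mod_cast h
  rw [hq]
  norm_num only
  refine ⟨fun χ hχ => ?_, ?_⟩
  · have hχR : χ ∈ R := Finset.mem_filter.2 ⟨Finset.mem_univ _, hχ⟩
    by_cases hχT : χ ∈ T
    · rcases hT2 χ hχT with e | e
      · exact Or.inr (Or.inr (hnat χ hχR 2 e))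
      · exact Or.inr (Or.inl (hnat χ hχR 13 e))
    · exact Or.inl (hnat χ hχR 5 (h55 χ (Finset.mem_sdiff.2 ⟨hχR, hχT⟩)))
  · obtain ⟨χc, hχc⟩ : (R \ T).Nonempty := Finset.nonempty_of_ne_empty fun e => by
      rw [e, Finset.sum_empty] at hk; omega
    rintro d (rfl | rfl | rfl)
    exacts [⟨χc, hnat χc (Finset.mem_sdiff.1 hχc).1 5 (h55 χc hχc)⟩, ⟨χb, hnat χb (hTsub hχb) 13 hxb⟩,
      ⟨χa, hnat χa (hTsub hχa) 2 hxa⟩]

/-- The character degrees of a Suzuki group. -/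
theorem mem_degrees (d : ℕ) :
    (∃ χ : IrrCharacter (Cfsg.Sz F m), deg (χ : Cfsg.Sz F m → ℂ) = d) ↔
      d = 1 ∨ d = Fintype.card F ^ 2 ∨ d = Fintype.card F ^ 2 + 1 ∨
        d = (Fintype.card F - 1) * (Fintype.card F - 2 ^ (m + 1) + 1) ∨
        d = (Fintype.card F - 1) * (Fintype.card F + 2 ^ (m + 1) + 1) ∨ d = (Fintype.card F - 1) * 2 ^ m := by
  obtain ⟨t, -, ht, hq, -⟩ := q_facts D hF
  have hcard : 4 ≤ Fintype.card F := by rw [hq]; nlinarith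
  have hm := D.one_le
  obtain ⟨hall, hex⟩ : (∀ χ : IrrCharacter (Cfsg.Sz F m), Cusp D hF (χ : Cfsg.Sz F m → ℂ) →
      deg (χ : Cfsg.Sz F m → ℂ) = (Fintype.card F - 1) * (Fintype.card F - 2 ^ (m + 1) + 1) ∨
      deg (χ : Cfsg.Sz F m → ℂ) = (Fintype.card F - 1) * (Fintype.card F + 2 ^ (m + 1) + 1) ∨
      deg (χ : Cfsg.Sz F m → ℂ) = (Fintype.card F - 1) * 2 ^ m) ∧
    (∀ d, (d = Fintype.card F - 2 ^ (m + 1) + 1 ∨ d = Fintype.card F + 2 ^ (m + 1) + 1 ∨ d = 2 ^ m) →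
      ∃ χ : IrrCharacter (Cfsg.Sz F m), deg (χ : Cfsg.Sz F m → ℂ) = (Fintype.card F - 1) * d) := by
    by_cases h : m = 1
    · exact degrees_eight D hF h
    · exact degrees_big D hF (by omega)
  have hdeg : ∀ {f : Cfsg.Sz F m → ℂ} {n : ℕ}, IsIrrCharacter (Cfsg.Sz F m) f → f 1 = n → deg f = n := fun hf e => by
    rw [deg_eq (isCharacter_of_isIrr hf)] at e; exact_mod_cast e
  have hst : stb D hF 1 = ((Fintype.card F ^ 2 : ℕ) : ℂ) := by simp [stb, ps_one]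
  constructor
  · rintro ⟨χ, rfl⟩
    by_cases h : Cusp D hF (χ : Cfsg.Sz F m → ℂ)
    · exact Or.inr (Or.inr (Or.inr (hall χ h)))
    · rcases not_cusp_cases D hF h with e | e | ⟨θ, hθ, e⟩
      · exact Or.inl (hdeg χ.2 (by rw [e]; simp))
      · exact Or.inr (Or.inl (hdeg χ.2 (by rw [e, hst])))
      · exact Or.inr (Or.inr (Or.inl (hdeg χ.2 (by rw [e, ps_one]))))
  · rintro (rfl | rfl | rfl | rfl | rfl | rfl)
    · exact ⟨⟨_, isIrrCharacter_one⟩, hdeg isIrrCharacter_one (by simp)⟩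
    · exact ⟨⟨_, stb_irr D hF⟩, hdeg (stb_irr D hF) hst⟩
    · haveI : Nontrivial Fˣ := Fintype.one_lt_card_iff_nontrivial.1 (by rw [Fintype.card_units]; omega)
      obtain ⟨u, hu⟩ := exists_ne (1 : Fˣ)
      obtain ⟨θ, hθ⟩ := CommGroup.exists_apply_ne_one_of_hasEnoughRootsOfUnity Fˣ ℂ hu
      have hθ1 : θ ≠ 1 := fun e => hθ (by rw [e]; rfl)
      exact ⟨⟨_, ps_irr D hF hθ1⟩, hdeg (ps_irr D hF hθ1) (ps_one D hF θ)⟩
    · exact hex _ (Or.inl rfl)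
    · exact hex _ (Or.inr (Or.inl rfl))
    · exact hex _ (Or.inr (Or.inr rfl))

end Cfsg.Agent.Suzuki
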