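/-
Values of the characters of a Suzuki group.
-/
import Cfsg.Agent.Lib.Suzuki.CharDeg
import Cfsg.Agent.Lib.Suzuki.Binary
import Cfsg.Agent.Lib.Suzuki.AutSz

set_option autoImplicit false

namespace Cfsg.Agent.Suzuki

open scoped ComplexConjugate
open Cfsg.Agent.CT
open scoped Classical

universe u

variable {F : Type u} [Field F] [Fintype F] {m : ℕ} (D : Dat F m) (hF : Fintype.card F = 2 ^ (2 * m + 1))
  [Fintype (Cfsg.Sz F m)]

include D hF

omit [Fintype (Cfsg.Sz F m)] hF in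
theorem one_not_mem_range : (1 : F) ∉ (cform D 1).range := by
  rintro ⟨a, ha⟩
  simp only [cform, AddMonoidHom.coe_mk, ZeroHom.coe_mk, map_one, mul_one, one_mul] at ha
  have h1 : a ^ 2 + D.θ a = 1 := by rw [← D.sq, ← map_add, ha, map_one]
  have h2 : a * (a + 1) = 0 := by linear_combination h1 - ha + a * D.two
  rcases mul_eq_zero.1 h2 with e | e
  · subst e; simp at ha
  · rw [D.eq_of_add e, map_one] at ha
    exact one_ne_zero (ha.symm.trans (D.add_self 1))

omit [Fintype (Cfsg.Sz F m)] in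
theorem card_range_one : 2 * Nat.card (cform D 1).range = Fintype.card F := by
  have hker : (cform D 1).ker = AddSubgroup.zmultiples (1 : F) := by
    ext a
    rw [AddMonoidHom.mem_ker]
    constructor
    · intro ha
      simp only [cform, AddMonoidHom.coe_mk, ZeroHom.coe_mk, map_one, mul_one, one_mul] at ha
      rcases D.theta_fixed (D.eq_of_add ha) with e | e <;> rw [e]
      exacts [zero_mem _, AddSubgroup.mem_zmultiples _]
    · exact fun ha => (AddSubgroup.zmultiples_le_of_mem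
        (show (1 : F) ∈ (cform D 1).ker from D.add_self _)) ha
  rw [← Nat.card_eq_fintype_card, AddSubgroup.card_eq_card_quotient_mul_card_addSubgroup (cform D 1).ker,
    Nat.card_congr (QuotientAddGroup.quotientKerEquivRange (cform D 1)).toEquiv, mul_comm]
  congr 1
  rw [hker, Nat.card_zmultiples]
  haveI := Fact.mk Nat.prime_two
  exact (addOrderOf_eq_prime (by rw [two_nsmul, D.add_self]) one_ne_zero).symm

omit [Fintype (Cfsg.Sz F m)] in
theorem mem_range_succ {b : F} (hb : b ∉ (cform D 1).range) : ∃ c, cform D 1 c = 1 + b := by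
  have hi : (cform D 1).range.index = 2 := by
    have h := (cform D 1).range.index_mul_card
    rw [Nat.card_eq_fintype_card (α := F), ← card_range_one D hF] at h
    exact Nat.eq_of_mul_eq_mul_right Nat.card_pos h
  exact (AddSubgroup.add_mem_iff_of_index_two hi).2 (iff_of_false (one_not_mem_range D) hb)

theorem ne_of_conj {g k : Cfsg.Sz F m} (hg : g ≠ 1) : k * g * k⁻¹ ≠ 1 := fun e => hg (conj_eq_one_iff.1 e)

/-- Every element is conjugate to a standard one. -/
theorem conj_cases {Cp Cm : OddCls (Cfsg.Sz F m)} (hp : Nat.card Cp.1 = Fintype.card F + 2 ^ (m + 1) + 1)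
    (hm : Nat.card Cm.1 = Fintype.card F - 2 ^ (m + 1) + 1) {g : Cfsg.Sz F m} (hg : g ≠ 1) :
    ∃ k : Cfsg.Sz F m, k * g * k⁻¹ = gT D 0 1 ∨ (k * g * k⁻¹ = gT D 1 0 ∨ k * g * k⁻¹ = gT D 1 1) ∨
      (∃ u : Fˣ, u ≠ 1 ∧ k * g * k⁻¹ = gH D u) ∨
      (k * g * k⁻¹ ∈ Cp.1 ∧ k * g * k⁻¹ ≠ 1) ∨ (k * g * k⁻¹ ∈ Cm.1 ∧ k * g * k⁻¹ ≠ 1) := by
  rcases fix_trichotomy g with h | ⟨p, hp', hu⟩ | ⟨a, b, hab, ha, hb⟩
  · obtain ⟨U, hU, hgU⟩ := exists_torus_mem D hF hg h
    set C := clsOf hg (odd_orderOf_of_fpf D hF h)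
    have hC : C.1 = U := hU.centralizer_eq D hF hgU hg
    have key : ∀ C₀ : OddCls (Cfsg.Sz F m), Nat.card C₀.1 = Nat.card U → ∃ k : Cfsg.Sz F m, k * g * k⁻¹ ∈ C₀.1 := by
      intro C₀ h0
      obtain ⟨k, hk⟩ := cls_conj D hF (C := C) (C' := C₀) (by rw [hC, h0])
      refine ⟨k, ?_⟩
      rw [← hk, oddCls_smul]
      exact ⟨g, hC.symm ▸ hgU, rfl⟩
    rcases torus_card D hF hU with e | e
    · obtain ⟨k, hk⟩ := key Cp (hp.trans e.symm)
      exact ⟨k, Or.inr (Or.inr (Or.inr (Or.inl ⟨hk, ne_of_conj D hF hg⟩)))⟩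
    · obtain ⟨k, hk⟩ := key Cm (hm.trans e.symm)
      exact ⟨k, Or.inr (Or.inr (Or.inr (Or.inr ⟨hk, ne_of_conj D hF hg⟩)))⟩
  · obtain ⟨k₀, hk₀⟩ := transitive D p
    have hkp : k₀⁻¹ • p = oI D := by rw [← hk₀, inv_smul_smul]
    have hQ : k₀⁻¹ * g * k₀⁻¹⁻¹ ∈ Q D := by
      rw [conj_Q D hF hkp]; exact Or.inr ⟨hp', hu⟩
    obtain ⟨a, b, hab⟩ := hQ
    by_cases ha : a = 0
    · subst ha
      have hb : b ≠ 0 := fun e => ne_of_conj D hF hg (k := k₀⁻¹) (by rw [hab, e, gT_zero])
      obtain ⟨k, hk⟩ := invol_conj D hF (invol_gT D hF hb) (invol_gT D hF (one_ne_zero (α := F)))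
      refine ⟨k * k₀⁻¹, Or.inl ?_⟩
      rw [← hk, ← hab]; group
    · obtain ⟨s, hs⟩ := (Finite.injective_iff_surjective.1 fun x y e => D.sq_inj e :
        Function.Surjective fun x : F => x ^ 2) a⁻¹
      simp only at hs
      have hs0 : s ≠ 0 := fun e => inv_ne_zero ha (by rw [← hs, e]; ring)
      have h1 := gH_scale D (Units.mk0 s hs0) a b
      rw [Units.val_mk0, hs, inv_mul_cancel₀ ha] at h1
      set b' := (kap D (Units.mk0 s hs0) : F) * b
      -- move the second coordinate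
      obtain ⟨c, hc⟩ : ∃ c, b' + cform D 1 c = 0 ∨ b' + cform D 1 c = 1 := by
        by_cases hb : b' ∈ (cform D 1).range
        · obtain ⟨c, hc⟩ := hb; exact ⟨c, Or.inl (by rw [hc, D.add_self])⟩
        · obtain ⟨c, hc⟩ := mem_range_succ D hF hb
          exact ⟨c, Or.inr (by rw [hc]; linear_combination b' * D.two)⟩
      have h2 : gT D c 0 * gT D 1 b' * (gT D c 0)⁻¹ = gT D 1 (b' + cform D 1 c) := by
        rw [gT_inv, gT_mul, gT_mul]
        congr 1
        · linear_combination c * D.two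
        · simp only [cform, AddMonoidHom.coe_mk, ZeroHom.coe_mk, map_add, map_one]
          linear_combination (D.θ c * c) * D.two
      refine ⟨gT D c 0 * gH D (Units.mk0 s hs0) * k₀⁻¹, Or.inr (Or.inl ?_)⟩
      have e : gT D c 0 * gH D (Units.mk0 s hs0) * k₀⁻¹ * g * (gT D c 0 * gH D (Units.mk0 s hs0) * k₀⁻¹)⁻¹ =
          gT D c 0 * (gH D (Units.mk0 s hs0) * (k₀⁻¹ * g * k₀⁻¹⁻¹) * (gH D (Units.mk0 s hs0))⁻¹) * (gT D c 0)⁻¹ := by group
      rw [e, hab, h1, h2]
      rcases hc with e' | e' <;> rw [e']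
      exacts [Or.inl rfl, Or.inr rfl]
  · obtain ⟨k, hka, hkb⟩ := exists_conj_pair D hab
    have h1 : (k * g * k⁻¹) • oI D = oI D := by rw [← hka]; exact (conj_fix k g).2 ha
    have h2 : (k * g * k⁻¹) • oP D 0 0 = oP D 0 0 := by rw [← hkb]; exact (conj_fix k g).2 hb
    obtain ⟨u, hu⟩ := fix_pair_of_gfix D hF h1 h2
    exact ⟨k, Or.inr (Or.inr (Or.inl ⟨u, fun e => ne_of_conj D hF hg (k := k) (by rw [hu, e, gH_one]), hu⟩))⟩

/-- Characters are real on the tori. -/
theorem real_torus {C : OddCls (Cfsg.Sz F m)} (hν : Nat.card (NC C) = 4 * Nat.card C.1) {f : Cfsg.Sz F m → ℂ}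
    (hf : IsCharacter (Cfsg.Sz F m) f) {a : Cfsg.Sz F m} (ha : a ∈ C.1) : conj (f a) = f a := by
  haveI := Fact.mk Nat.prime_two
  obtain ⟨⟨i, hiN⟩, hi⟩ := exists_prime_orderOf_dvd_card' (G := NC C) 2 (by
    rw [hν]; exact (by norm_num : 2 ∣ 4).mul_right _)
  rw [← Subgroup.orderOf_coe] at hi
  have h := cls_inverts (szLike D hF) C hi hiN ha
  have hi2 : i⁻¹ = i := inv_eq_of_mul_eq_one_right (by rw [← pow_two]; exact (orderOf_two_iff.1 hi).2)
  rw [← char_inv_eq_conj hf, ← h, show i * a * i = i * a * i⁻¹ by rw [hi2]]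
  exact isClassFunction_of_isCharacter hf _ _

/-- The values on the Sylow subgroup at infinity of a character outside the principal series. -/
theorem q_values {χ : IrrCharacter (Cfsg.Sz F m)} (hχ : Cusp D hF (χ : Cfsg.Sz F m → ℂ)) {x : ℤ}
    (hx : (deg (χ : Cfsg.Sz F m → ℂ) : ℤ) = ((Fintype.card F : ℤ) - 1) * x) :
    ∃ e : ℤ, 0 ≤ e ∧ (χ : Cfsg.Sz F m → ℂ) (gT D 0 1) = (((Fintype.card F : ℤ) * e - x : ℤ) : ℂ) ∧
      ((χ : Cfsg.Sz F m → ℂ) (gT D 1 0)).re = -(e : ℝ) ∧
      (χ : Cfsg.Sz F m → ℂ) (gT D 1 1) = conj ((χ : Cfsg.Sz F m → ℂ) (gT D 1 0)) := by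
  haveI := Fintype.ofFinite (Bo D)
  haveI : Finite (Fˣ →* ℂˣ) := Nat.finite_of_card_ne_zero (by
    rw [card_hom hF, ← Fintype.card_units]; exact Fintype.card_ne_zero)
  haveI := Fintype.ofFinite (Fˣ →* ℂˣ)
  have hq : 2 ≤ Fintype.card F := Fintype.one_lt_card
  set f := (χ : Cfsg.Sz F m → ℂ) with hf
  have hcf : IsClassFunction (Cfsg.Sz F m) f := isClassFunction_of_isIrr χ.2
  have hinv : f (gT D 1 1) = conj (f (gT D 1 0)) := by
    rw [← char_inv_eq_conj (isCharacter_of_isIrr χ.2), gT_inv]; simp [hf]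
  -- the centre
  set α := f (gT D 0 1) with hα
  have hz : ∀ c : F, c ≠ 0 → f (gT D 0 c) = α := fun c hc => by
    obtain ⟨k, hk⟩ := invol_conj D hF (invol_gT D hF (one_ne_zero (α := F))) (invol_gT D hF hc)
    rw [← hk, hcf]
  have hd : f 1 = (((Fintype.card F : ℤ) - 1) * x : ℤ) := by
    rw [hf, deg_eq (isCharacter_of_isIrr χ.2), ← Int.cast_natCast, hx]
  let φ : Multiplicative F →* Cfsg.Sz F m :=
    MonoidHom.mk' (fun c => gT D 0 c.toAdd) fun a b => by rw [toAdd_mul]; exact (gT_zadd D _ _).symm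
  haveI : Fintype (Multiplicative F) := Fintype.ofFinite _
  have hsum : ∀ l : AddChar F ℂ, ∃ n : ℕ, f 1 + α * (∑ c : F, l c - 1) = (Fintype.card F : ℂ) * n := by
    intro l
    let L : Multiplicative F →* ℂˣ := l.toMonoidHom.toHomUnits
    obtain ⟨n, hn⟩ := classInner_character_nat (isCharacter_comp φ (isCharacter_of_isIrr χ.2))
      (isCharacter_of_isIrr (isIrrCharacter_lin L))
    refine ⟨n, ?_⟩
    rw [classInner, inv_mul_eq_iff_eq_mul₀ (Nat.cast_ne_zero.mpr Nat.card_pos.ne'),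
      Nat.card_congr Multiplicative.toAdd, Nat.card_eq_fintype_card] at hn
    have hs : ∑ c : F, f (gT D 0 c) * conj (l c) = f 1 + α * (∑ c : F, l c - 1) := by
      rw [← Finset.add_sum_erase _ _ (Finset.mem_univ (0 : F)),
        Finset.sum_congr rfl (g := fun c => α * l c) (fun c hc => by
          rw [hz c (Finset.ne_of_mem_erase hc)]
          rcases addChar_or D l c with e | e <;> rw [e] <;> simp),
        ← Finset.mul_sum, Finset.sum_erase_eq_sub (Finset.mem_univ _), AddChar.map_zero_eq_one, map_one, mul_one,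
        gT_zero]
    rw [← hn, ← hs, ← Multiplicative.ofAdd.sum_comp]
    rfl
  obtain ⟨l, hl⟩ := AddChar.exists_apply_ne_zero.2 (one_ne_zero (α := F))
  obtain ⟨k, hk⟩ := hsum l
  obtain ⟨d1, hd1⟩ := hsum 1
  rw [AddChar.sum_eq_zero_of_ne_one (AddChar.ne_one_iff.2 ⟨1, hl⟩)] at hk
  simp only [AddChar.one_apply, Finset.sum_const, Finset.card_univ, nsmul_eq_mul, mul_one] at hd1
  set e : ℤ := x - k with he
  have hαe : α = (((Fintype.card F : ℤ) * e - x : ℤ) : ℂ) := by
    rw [he]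
    rw [hd] at hk
    push_cast at hk ⊢
    linear_combination -hk
  have hd1e : (Fintype.card F : ℂ) * d1 = (Fintype.card F : ℂ) * (((Fintype.card F : ℤ) - 1) * e : ℤ) := by
    rw [← hd1, hαe, hd]; push_cast; ring
  have hd1' : (d1 : ℤ) = ((Fintype.card F : ℤ) - 1) * e := by
    have h := mul_left_cancel₀ (Nat.cast_ne_zero.mpr Fintype.card_ne_zero) hd1e
    exact_mod_cast h
  have he0 : 0 ≤ e := by
    by_contra hcon
    push_neg at hcon
    nlinarith [(Nat.cast_nonneg d1 : (0 : ℤ) ≤ d1)]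
  refine ⟨e, he0, hαe, ?_, hinv⟩
  -- the fixed vectors of the Sylow subgroup
  have hQ0 : ∑ p : F × F, f (gT D p.1 p.2) = 0 := by
    have h0 : ∀ θ : Fˣ →* ℂˣ, ∑ g : Bo D, f g * conj (lamB D hF θ g) = 0 := by
      intro θ
      have h1 := hχ θ
      rw [ps, frobenius_reciprocity' _ hcf, classInner] at h1
      exact (mul_eq_zero.1 h1).resolve_left (inv_ne_zero (Nat.cast_ne_zero.mpr Nat.card_pos.ne'))
    have h2 : ∑ g : Bo D, f g * ∑ θ : Fˣ →* ℂˣ, conj (lamB D hF θ g) = 0 := by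
      rw [Finset.sum_congr rfl fun g _ => Finset.mul_sum _ _ _, Finset.sum_comm]
      exact Finset.sum_eq_zero fun θ _ => h0 θ
    have hz' : ∀ g : Bo D, ∑ θ : Fˣ →* ℂˣ, conj (lamB D hF θ g) =
        if torHom D hF g = 1 then ((Fintype.card F - 1 : ℕ) : ℂ) else 0 := by
      intro g
      split_ifs with hw
      · simp [lamB, hw, ← card_hom hF]
      · rw [← map_sum]
        obtain ⟨θ₀, hθ₀⟩ := CommGroup.exists_apply_ne_one_of_hasEnoughRootsOfUnity Fˣ ℂ hw
        have e : (θ₀ (torHom D hF g) : ℂ) * ∑ θ : Fˣ →* ℂˣ, lamB D hF θ g = ∑ θ : Fˣ →* ℂˣ, lamB D hF θ g := by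
          rw [Finset.mul_sum]
          exact Fintype.sum_equiv (Equiv.mulLeft θ₀) _ _ fun θ => by simp [lamB]
        rw [(mul_left_eq_self₀.1 e).resolve_left fun e1 => hθ₀ (Units.ext e1), map_zero]
    simp only [hz', mul_ite, mul_zero] at h2
    let T : F × F ↪ Bo D := ⟨fun p => ⟨gT D p.1 p.2, by rw [mem_Bo, gT_oI]⟩, fun p p' h => by
      obtain ⟨a, b⟩ := gT_inj D (congrArg Subtype.val h); exact Prod.ext a b⟩
    rw [← Finset.sum_subset (Finset.subset_univ (Finset.univ.map T)), Finset.sum_map,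
      Finset.sum_congr rfl (g := fun p : F × F => f (gT D p.1 p.2) * ((Fintype.card F - 1 : ℕ) : ℂ))
        (fun p _ => by
          rw [if_pos (show torHom D hF (T p) = 1 from
            torPart_eq D hF _ (a := p.1) (b := p.2) (by
              show gT D p.1 p.2 = gT D p.1 p.2 * gH D 1
              rw [gH_one, mul_one]))]
          rfl), ← Finset.sum_mul] at h2
    · refine (mul_eq_zero.1 h2).resolve_right ?_
      exact Nat.cast_ne_zero.mpr (by omega)
    · intro g _ hg
      rw [if_neg]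
      intro h1
      apply hg
      obtain ⟨v, a, b, hab⟩ := exists_tor D hF g
      have hv : v = 1 := (torPart_eq D hF g hab).symm.trans h1
      rw [hv, gH_one, mul_one] at hab
      exact Finset.mem_map.2 ⟨(a, b), Finset.mem_univ _, Subtype.ext hab.symm⟩
  have hrow : ∀ a : F, a ≠ 0 → ∑ b, f (gT D a b) = ∑ b, f (gT D 1 b) := by
    intro a ha
    obtain ⟨s, hs⟩ := (Finite.injective_iff_surjective.1 fun x y e => D.sq_inj e :
      Function.Surjective fun x : F => x ^ 2) a
    simp only at hs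
    have hs0 : s ≠ 0 := fun e => ha (by rw [← hs, e]; ring)
    refine (Fintype.sum_equiv (Equiv.mulLeft₀ (kap D (Units.mk0 s hs0) : F) (Units.ne_zero _)) _ _ fun b => ?_).symm
    have h1 := gH_scale D (Units.mk0 s hs0) 1 b
    rw [Units.val_mk0, hs, mul_one] at h1
    rw [← hcf (gT D 1 b) (gH D (Units.mk0 s hs0)), h1]
    rfl
  rw [Fintype.sum_prod_type, ← Finset.add_sum_erase _ _ (Finset.mem_univ (0 : F))] at hQ0
  simp only at hQ0
  rw [Finset.sum_congr rfl fun a ha => hrow a (Finset.ne_of_mem_erase ha), Finset.sum_const,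
    Finset.card_erase_of_mem (Finset.mem_univ _), Finset.card_univ, nsmul_eq_mul, Nat.cast_sub (by omega),
    Nat.cast_one, ← Finset.add_sum_erase _ _ (Finset.mem_univ (0 : F)), gT_zero,
    Finset.sum_congr rfl fun c hc => hz c (Finset.ne_of_mem_erase hc), Finset.sum_const,
    Finset.card_erase_of_mem (Finset.mem_univ _), Finset.card_univ, nsmul_eq_mul, Nat.cast_sub (by omega),
    Nat.cast_one] at hQ0
  -- the two classes of a row
  have hone : (1 : F) ∉ (cform D 1).range := one_not_mem_range D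
  have hhalf := card_range_one D hF
  have hsplit : ∑ b, f (gT D 1 b) = (Nat.card (cform D 1).range : ℂ) * (f (gT D 1 0) + f (gT D 1 1)) := by
    have hshift : ∀ b c : F, f (gT D 1 (b + cform D 1 c)) = f (gT D 1 b) := fun b c => by
      rw [← hcf (gT D 1 b) (gT D c 0), gT_inv, gT_mul, gT_mul]
      congr 2
      · linear_combination (-c) * D.two
      · simp only [cform, AddMonoidHom.coe_mk, ZeroHom.coe_mk, map_add, map_one]
        linear_combination (-(D.θ c * c)) * D.two
    rw [← Finset.sum_filter_add_sum_filter_not Finset.univ (fun b => b ∈ (cform D 1).range),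
      Finset.sum_congr rfl (g := fun _ => f (gT D 1 0)) (fun b hb => by
        obtain ⟨c, hc⟩ := (Finset.mem_filter.1 hb).2
        rw [← hshift 0 c, zero_add, hc]),
      Finset.sum_congr rfl (g := fun _ => f (gT D 1 1))
        (s₁ := Finset.univ.filter fun b => b ∉ (cform D 1).range) (fun b hb => by
        obtain ⟨c, hc⟩ := mem_range_succ D hF (Finset.mem_filter.1 hb).2
        rw [← hshift 1 c, hc, show (1 : F) + (1 + b) = b by linear_combination D.two]),
      Finset.sum_const, Finset.sum_const, nsmul_eq_mul, nsmul_eq_mul]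
    have h1 : (Finset.univ.filter fun b => b ∈ (cform D 1).range).card = Nat.card (cform D 1).range := by
      rw [Nat.card_eq_fintype_card, ← Fintype.card_subtype]
    have h2 := Finset.card_filter_add_card_filter_not (s := Finset.univ) (fun b => b ∈ (cform D 1).range)
    rw [h1, Finset.card_univ] at h2
    rw [h1, show (Finset.univ.filter fun b => b ∉ (cform D 1).range).card = Nat.card (cform D 1).range by omega]
    ring
  have hq1 : ((Fintype.card F : ℂ) - 1) ≠ 0 := sub_ne_zero.2 (by exact_mod_cast (show Fintype.card F ≠ 1 by omega))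
  rw [hsplit, hinv, hd, hαe, Complex.add_conj] at hQ0
  have hhalf' : (2 : ℂ) * (Nat.card (cform D 1).range : ℂ) = (Fintype.card F : ℂ) := by exact_mod_cast hhalf
  push_cast at hQ0
  have h3 : ((Fintype.card F : ℂ) - 1) * (Fintype.card F : ℂ) * (((f (gT D 1 0)).re : ℂ) + (e : ℂ)) = 0 := by
    linear_combination hQ0 - (((Fintype.card F : ℂ) - 1) * ((f (gT D 1 0)).re : ℂ)) * hhalf'
  have h4 := (mul_eq_zero.1 h3).resolve_left (mul_ne_zero hq1 (Nat.cast_ne_zero.mpr Fintype.card_ne_zero))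
  have h5 := congrArg Complex.re h4
  simp only [Complex.add_re, Complex.ofReal_re, Complex.intCast_re, Complex.zero_re] at h5
  linarith

end Cfsg.Agent.Suzuki
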