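/-
The character table of a Suzuki group, as far as the class squares need it.
-/
import Cfsg.Agent.Lib.Suzuki.CharVals

set_option autoImplicit false

namespace Cfsg.Agent.Suzuki

open scoped ComplexConjugate
open Cfsg.Agent.CT
open scoped Classical

universe u

variable {F : Type u} [Field F] [Fintype F] {m : ℕ} (D : Dat F m) (hF : Fintype.card F = 2 ^ (2 * m + 1))
  [Fintype (Cfsg.Sz F m)]

include D hF

/-- The data attached to a torus. -/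
structure TData (C : OddCls (Cfsg.Sz F m)) (S : Finset (IrrCharacter (Cfsg.Sz F m))) : Prop where
  card : 4 * S.card + 1 = Nat.card C.1
  col : ∀ a ∈ C.1, a ≠ 1 → ∑ χ ∈ S, ‖(χ : Cfsg.Sz F m → ℂ) a‖ ^ 2 = (Nat.card C.1 : ℝ) - 4
  bound : ∀ χ ∈ S, ∀ a ∈ C.1, a ≠ 1 → ‖(χ : Cfsg.Sz F m → ℂ) a‖ ≤ 4
  sep : ∀ χ ∈ S, ∀ ψ ∈ S, (∀ a ∈ C.1, a ≠ 1 → (χ : Cfsg.Sz F m → ℂ) a = (ψ : Cfsg.Sz F m → ℂ) a) → χ = ψ
  off : ∀ χ ∈ S, ∀ ψ ∈ S, ∀ x : Cfsg.Sz F m, (∀ k, k⁻¹ * x * k ∈ C.1 → k⁻¹ * x * k = 1) →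
    (χ : Cfsg.Sz F m → ℂ) x = (ψ : Cfsg.Sz F m → ℂ) x
  other : ∀ χ, χ ∉ S → Cusp D hF (χ : Cfsg.Sz F m → ℂ) → ∀ c₀ : ℤ, c₀ ^ 2 ≤ 1 →
    (Nat.card C.1 : ℤ) ∣ (deg (χ : Cfsg.Sz F m → ℂ) : ℤ) - c₀ →
    ∀ a ∈ C.1, a ≠ 1 → (χ : Cfsg.Sz F m → ℂ) a = c₀

theorem small_eq {ν c c₀ : ℤ} (hν : 3 ≤ ν) (h : ν ∣ c - c₀) (hc : c ^ 2 ≤ 2) (hc₀ : c₀ ^ 2 ≤ 1) : c = c₀ := by
  have : c ≤ 1 := by nlinarith
  have : -1 ≤ c := by nlinarith
  have : c₀ ≤ 1 := by nlinarith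
  have : -1 ≤ c₀ := by nlinarith
  have h2 := Int.eq_zero_of_abs_lt_dvd h (by rw [abs_lt]; constructor <;> omega)
  omega

theorem tdata_of_tfam {C : OddCls (Cfsg.Sz F m)} {n : ℕ} (P : TFam D hF C n) (hbig : 13 ≤ Nat.card C.1) (d : ℕ)
    (h4 : (Nat.card C.1 : ℤ) ∣ (d : ℤ) + 4)
    (hdeg : ∀ χ : IrrCharacter (Cfsg.Sz F m), Cusp D hF (χ : Cfsg.Sz F m → ℂ) → deg (χ : Cfsg.Sz F m → ℂ) ≠ d →
      ∃ c₀ : ℤ, c₀ ^ 2 ≤ 1 ∧ (Nat.card C.1 : ℤ) ∣ (deg (χ : Cfsg.Sz F m → ℂ) : ℤ) - c₀) :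
    TData D hF C (Finset.univ.filter fun χ : IrrCharacter (Cfsg.Sz F m) =>
      Cusp D hF (χ : Cfsg.Sz F m → ℂ) ∧ deg (χ : Cfsg.Sz F m → ℂ) = d) := by
  have hν : (13 : ℤ) ≤ (Nat.card C.1 : ℤ) := by exact_mod_cast hbig
  have hfam : ∀ i, deg (P.fam i : Cfsg.Sz F m → ℂ) = d := by
    intro i
    by_contra hne
    obtain ⟨c₀, hc₀, hd⟩ := hdeg _ (P.cusp i) hne
    have hdv := dvd_sub (P.congr_deg i) hd
    have : c₀ ≤ 1 := by nlinarith
    have : -1 ≤ c₀ := by nlinarith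
    have h2 := Int.eq_zero_of_abs_lt_dvd hdv (by rcases P.hε with e | e <;> rw [e, abs_lt] <;> constructor <;> omega)
    rcases P.hε with e | e <;> omega
  have hS : (Finset.univ.filter fun χ : IrrCharacter (Cfsg.Sz F m) =>
      Cusp D hF (χ : Cfsg.Sz F m → ℂ) ∧ deg (χ : Cfsg.Sz F m → ℂ) = d) = Finset.univ.image P.fam := by
    ext χ
    simp only [Finset.mem_filter, Finset.mem_univ, true_and, Finset.mem_image]
    constructor
    · rintro ⟨hc, hd⟩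
      by_contra hno
      push_neg at hno
      have hr : χ ∉ Set.range P.fam := fun ⟨i, hi⟩ => hno i hi
      obtain ⟨c, hc', hcd⟩ := P.other χ hr
      obtain ⟨a, ha, -, -, ha1, -⟩ := P.nonconst ⟨0, by have := P.hn; omega⟩
      have h2 := P.other_le χ hr hc a ha ha1
      rw [hc' a ha ha1, Complex.norm_intCast, sq_abs] at h2
      have hc2 : c ^ 2 ≤ 2 := by exact_mod_cast h2
      have : c ≤ 1 := by nlinarith
      have : -1 ≤ c := by nlinarith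
      rw [hd] at hcd
      have h3 := Int.eq_zero_of_abs_lt_dvd (dvd_sub h4 hcd) (by rw [abs_lt]; constructor <;> omega)
      omega
    · rintro ⟨i, rfl⟩
      exact ⟨P.cusp i, hfam i⟩
  rw [hS]
  constructor
  · rw [Finset.card_image_of_injective _ P.inj, Finset.card_univ, Fintype.card_fin]; exact P.hn
  · intro a ha ha1
    rw [Finset.sum_image fun i _ j _ h => P.inj h]
    have h := congrArg Complex.re (P.col a ha ha1)
    rw [Complex.re_sum, Finset.sum_congr rfl fun i _ => by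
      rw [Complex.mul_conj', ← Complex.ofReal_pow, Complex.ofReal_re]] at h
    rw [h]; simp
  · intro χ hχ a ha ha1
    obtain ⟨i, -, rfl⟩ := Finset.mem_image.1 hχ
    exact P.bound i a ha ha1
  · intro χ hχ ψ hψ h
    obtain ⟨i, -, rfl⟩ := Finset.mem_image.1 hχ
    obtain ⟨j, -, rfl⟩ := Finset.mem_image.1 hψ
    by_contra hne
    obtain ⟨a, ha, ha1, hv⟩ := P.distinct i j fun e => hne (e ▸ rfl)
    exact hv (h a ha ha1)
  · intro χ hχ ψ hψ x hx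
    obtain ⟨i, -, rfl⟩ := Finset.mem_image.1 hχ
    obtain ⟨j, -, rfl⟩ := Finset.mem_image.1 hψ
    exact P.off i j x hx
  · intro χ hχ hc c₀ hc₀ hd a ha ha1
    have hr : χ ∉ Set.range P.fam := fun ⟨i, hi⟩ => hχ (Finset.mem_image.2 ⟨i, Finset.mem_univ _, hi⟩)
    obtain ⟨c, hc', hcd⟩ := P.other χ hr
    have h2 := P.other_le χ hr hc a ha ha1
    rw [hc' a ha ha1, Complex.norm_intCast, sq_abs] at h2
    rw [hc' a ha ha1, small_eq D hF (by omega) (by have := dvd_sub hd hcd; rwa [sub_sub_sub_cancel_left] at this :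
      (Nat.card C.1 : ℤ) ∣ c - c₀) (by exact_mod_cast h2) hc₀]

/-- The table. -/
structure Table (Cp Cm : OddCls (Cfsg.Sz F m)) (P M W : Finset (IrrCharacter (Cfsg.Sz F m))) : Prop where
  split : ∀ f : IrrCharacter (Cfsg.Sz F m) → ℂ,
    ∑ χ ∈ Finset.univ.filter (fun χ : IrrCharacter (Cfsg.Sz F m) => Cusp D hF (χ : Cfsg.Sz F m → ℂ)), f χ =
      ∑ χ ∈ P, f χ + ∑ χ ∈ M, f χ + ∑ χ ∈ W, f χ
  cusp : ∀ χ, χ ∈ P ∨ χ ∈ M ∨ χ ∈ W → Cusp D hF (χ : Cfsg.Sz F m → ℂ)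
  tp : TData D hF Cp P
  tm : TData D hF Cm M
  cardW : W.card = 2
  degP : ∀ χ ∈ P, (χ : Cfsg.Sz F m → ℂ) 1 = (((Fintype.card F : ℝ) - 1) * ((Fintype.card F : ℝ) - 2 * 2 ^ m + 1) : ℝ)
  degM : ∀ χ ∈ M, (χ : Cfsg.Sz F m → ℂ) 1 = (((Fintype.card F : ℝ) - 1) * ((Fintype.card F : ℝ) + 2 * 2 ^ m + 1) : ℝ)
  degW : ∀ χ ∈ W, (χ : Cfsg.Sz F m → ℂ) 1 = (((Fintype.card F : ℝ) - 1) * 2 ^ m : ℝ)
  zP : ∀ χ ∈ P, (χ : Cfsg.Sz F m → ℂ) (gT D 0 1) = ((2 * 2 ^ m - 1 : ℝ) : ℂ)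
  zM : ∀ χ ∈ M, (χ : Cfsg.Sz F m → ℂ) (gT D 0 1) = ((-(2 * 2 ^ m) - 1 : ℝ) : ℂ)
  zW : ∀ χ ∈ W, (χ : Cfsg.Sz F m → ℂ) (gT D 0 1) = ((-(2 ^ m) : ℝ) : ℂ)
  yP : ∀ χ ∈ P, ∀ y, (y = gT D 1 0 ∨ y = gT D 1 1) → (χ : Cfsg.Sz F m → ℂ) y = -1
  yM : ∀ χ ∈ M, ∀ y, (y = gT D 1 0 ∨ y = gT D 1 1) → (χ : Cfsg.Sz F m → ℂ) y = -1
  yW : ∀ χ ∈ W, ∀ y, (y = gT D 1 0 ∨ y = gT D 1 1) → ((χ : Cfsg.Sz F m → ℂ) y).re = 0
  yWsum : ∀ y, (y = gT D 1 0 ∨ y = gT D 1 1) → ∑ χ ∈ W, ‖(χ : Cfsg.Sz F m → ℂ) y‖ ^ 2 = (Fintype.card F : ℝ)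
  mP : ∀ χ ∈ P, ∀ a ∈ Cm.1, a ≠ 1 → (χ : Cfsg.Sz F m → ℂ) a = 0
  pM : ∀ χ ∈ M, ∀ a ∈ Cp.1, a ≠ 1 → (χ : Cfsg.Sz F m → ℂ) a = 0
  pW : ∀ χ ∈ W, ∀ a ∈ Cp.1, a ≠ 1 → (χ : Cfsg.Sz F m → ℂ) a = 1
  mW : ∀ χ ∈ W, ∀ a ∈ Cm.1, a ≠ 1 → (χ : Cfsg.Sz F m → ℂ) a = -1

theorem ps_Q (θ : Fˣ →* ℂˣ) {a b : F} (h : a ≠ 0 ∨ b ≠ 0) : ps D hF θ (gT D a b) = 1 := by
  rw [ps_apply, Fintype.sum_option, Finset.sum_eq_zero, add_zero]
  · rw [show (ptK D none)⁻¹ * gT D a b * ptK D none = gT D a b by simp [ptK],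
      extendByZero_mem _ _ (show gT D a b ∈ Bo D by rw [mem_Bo, gT_oI])]
    show ((θ (torPart D hF ⟨gT D a b, _⟩) : ℂˣ) : ℂ) = 1
    rw [torPart_eq D hF _ (a := a) (b := b) (u := 1) (by show gT D a b = _; rw [gH_one, mul_one]), map_one, Units.val_one]
  · intro p _
    refine extendByZero_not_mem _ _ fun hm => ?_
    rw [mem_Bo, mul_smul, mul_smul, inv_smul_eq_iff] at hm
    have h1 := unique_fix D hF h hm
    rw [ptK, mul_smul, gw_oI, gT_oP] at h1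
    exact oI_ne_oP D _ _ h1.symm

theorem stb_Q {a b : F} (h : a ≠ 0 ∨ b ≠ 0) : stb D hF (gT D a b) = 0 := by
  simp [stb, ps_Q D hF _ h]

theorem card_centralizer_y : Nat.card (Subgroup.centralizer {gT D 1 0}) = 2 * Fintype.card F := by
  have hle : ∀ g ∈ Subgroup.centralizer {gT D 1 0}, ∃ a b, g = gT D a b ∧ (a = 0 ∨ a = 1) := by
    intro g hg
    have hz : gT D 1 0 * gT D 1 0 = gT D 0 1 := by rw [gT_mul]; simp [D.add_self]
    have h1 : g ∈ Subgroup.centralizer {gT D 0 1} := by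
      rw [← hz]
      exact mem_centralizer_one.2 ((mem_centralizer_one.1 hg).mul_right (mem_centralizer_one.1 hg))
    rw [centralizer_invol' D hF (invol_gT D hF one_ne_zero) (gT_oI D 0 1) (K := 1) (one_smul _ _)] at h1
    obtain ⟨a, b, hab⟩ := h1
    rw [one_mul, inv_one, mul_one] at hab
    refine ⟨a, b, hab, ?_⟩
    have h2 := (mem_centralizer_one.1 hg).eq
    rw [hab, gT_mul, gT_mul] at h2
    have h3 := (gT_inj D h2).2
    simp only [map_one, mul_one, one_mul, zero_add, add_zero] at h3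
    exact D.theta_fixed (add_left_cancel h3)
  have hf : ∀ p : Bool × F, gT D (if p.1 then 1 else 0) p.2 ∈ Subgroup.centralizer {gT D 1 0} := by
    intro p
    rw [mem_centralizer_one]
    show _ * _ = _ * _
    rw [gT_mul, gT_mul]
    cases p.1 <;> simp [D.add_self]
  rw [show 2 * Fintype.card F = Nat.card (Bool × F) by simp]
  symm
  refine Nat.card_eq_of_bijective (fun p => ⟨_, hf p⟩) ⟨fun p p' e => ?_, fun g => ?_⟩
  · obtain ⟨e1, e2⟩ := gT_inj D (congrArg Subtype.val e)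
    refine Prod.ext ?_ e2
    cases hp : p.1 <;> cases hp' : p'.1 <;> simp_all
  · obtain ⟨a, b, e, ha | ha⟩ := hle g g.2
    · exact ⟨(false, b), Subtype.ext (by rw [e, ha]; rfl)⟩
    · exact ⟨(true, b), Subtype.ext (by rw [e, ha]; rfl)⟩

theorem sum_ps_const (f : (Cfsg.Sz F m → ℂ) → ℂ) (c : ℂ) [Fintype (Fˣ →* ℂˣ)]
    (h : ∀ θ : Fˣ →* ℂˣ, θ ≠ 1 → f (ps D hF θ) = c) :
    ∑ θ ∈ Finset.univ.erase (1 : Fˣ →* ℂˣ), f (ps D hF θ) = ((Fintype.card F : ℂ) - 2) * c := by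
  rw [Finset.sum_congr rfl fun θ hθ => h θ (Finset.ne_of_mem_erase hθ), Finset.sum_const,
    Finset.card_erase_of_mem (Finset.mem_univ _), Finset.card_univ, ← Nat.card_eq_fintype_card (α := Fˣ →* ℂˣ),
    card_hom hF, nsmul_eq_mul, Nat.sub_sub, Nat.cast_sub (Fintype.one_lt_card (α := F))]
  norm_num

theorem cusp_conj {f : Cfsg.Sz F m → ℂ} (hc : Cusp D hF f) : Cusp D hF (fun g => conj (f g)) := by
  intro θ
  have h := congrArg conj (hc θ⁻¹)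
  rw [map_zero] at h
  rw [← h]
  have hps : ∀ g, conj (ps D hF θ⁻¹ g) = ps D hF θ g := by
    intro g
    rw [ps_apply, ps_apply, map_sum]
    refine Finset.sum_congr rfl fun o _ => ?_
    by_cases hm : (ptK D o)⁻¹ * g * ptK D o ∈ Bo D
    · rw [extendByZero_mem _ _ hm, extendByZero_mem _ _ hm]
      show conj (((θ⁻¹) (torHom D hF ⟨_, hm⟩) : ℂˣ) : ℂ) = _
      rw [conj_hom]; simp only [MonoidHom.inv_apply, inv_inv]; rfl
    · rw [extendByZero_not_mem _ _ hm, extendByZero_not_mem _ _ hm, map_zero]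
  rw [classInner, classInner, map_mul, map_inv₀, map_natCast, map_sum]
  refine congrArg _ (Finset.sum_congr rfl fun g _ => ?_)
  rw [map_mul, Complex.conj_conj, ← hps g, Complex.conj_conj]

/-- The members of the data of a torus are real. -/
theorem real_of_tdata {C : OddCls (Cfsg.Sz F m)} {S : Finset (IrrCharacter (Cfsg.Sz F m))} (T : TData D hF C S)
    (hN : Nat.card (NC C) = 4 * Nat.card C.1) {d : ℕ}
    (hS : ∀ ψ, ψ ∈ S ↔ Cusp D hF (ψ : Cfsg.Sz F m → ℂ) ∧ deg (ψ : Cfsg.Sz F m → ℂ) = d)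
    {χ : IrrCharacter (Cfsg.Sz F m)} (h : χ ∈ S) (g : Cfsg.Sz F m) :
    conj ((χ : Cfsg.Sz F m → ℂ) g) = (χ : Cfsg.Sz F m → ℂ) g := by
  have hirr : IsIrrCharacter (Cfsg.Sz F m) (fun g => conj ((χ : Cfsg.Sz F m → ℂ) g)) := by
    refine isIrr_of_inner_self (isCharacter_conj (isCharacter_of_isIrr χ.2)) ?_
    have h1 := congrArg conj (irr_inner_self χ.2)
    rw [map_one, classInner, map_mul, map_inv₀, map_natCast, map_sum] at h1
    rw [← h1, classInner]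
    refine congrArg _ (Finset.sum_congr rfl fun g _ => ?_)
    rw [map_mul]
  have hd : deg (fun g => conj ((χ : Cfsg.Sz F m → ℂ) g)) = d := by
    rw [← ((hS χ).1 h).2]; simp only [deg, Complex.conj_re]
  have heq : (⟨_, hirr⟩ : IrrCharacter (Cfsg.Sz F m)) = χ :=
    T.sep ⟨_, hirr⟩ ((hS _).2 ⟨cusp_conj D hF ((hS χ).1 h).1, hd⟩) χ h fun a ha _ =>
      real_torus D hF hN (isCharacter_of_isIrr χ.2) ha
  exact congrFun (congrArg Subtype.val heq) g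

theorem q_two_mul : ∃ t : ℤ, t = 2 ^ m ∧ 2 ≤ t ∧ (Fintype.card F : ℤ) = 2 * t * t := by
  obtain ⟨a, ha, ha2, hq, -⟩ := q_facts D hF
  exact ⟨a, by exact_mod_cast ha.symm, by exact_mod_cast ha2, by exact_mod_cast hq⟩

omit [Field F] [Fintype F] [Fintype (Cfsg.Sz F m)] D hF in
theorem e_one_of_bound {q v n e : ℤ} (hq : 32 ≤ q) (hn : 6 ≤ n) (hv : q + 2 ≤ 2 * v) (hv' : 2 * v ≤ 3 * q)
    (he : 0 ≤ e) (h : n * ((q * e - v) ^ 2 * 2) ≤ 2 * q ^ 2) : e = 1 := by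
  have h1 : 12 * (q * e - v) ^ 2 ≤ 2 * q ^ 2 := by nlinarith [sq_nonneg (q * e - v)]
  have : e ≤ 1 := by
    by_contra hc
    push_neg at hc
    have h2 : q ≤ 2 * (q * e - v) := by nlinarith
    nlinarith [pow_le_pow_left₀ (by omega : (0 : ℤ) ≤ q) h2 2]
  have : e ≠ 0 := fun h0 => by rw [h0] at h1; nlinarith
  omega

omit [Field F] [Fintype F] [Fintype (Cfsg.Sz F m)] D hF in
theorem e_values {q t n k a b s z : ℤ} (hq : q = 2 * t * t) (ht : t = 2 ∨ 4 ≤ t) (hn : 4 * n = q + 2 * t)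
    (hk : 4 * k = q - 2 * t) (hn0 : 0 ≤ n) (hk0 : 0 ≤ k) (ha : 0 ≤ a) (hb : 0 ≤ b)
    (h1 : n * ((q - 2 * t + 1) * a * 2) + k * ((q + 2 * t + 1) * b * 2) + s = q * (q - 1)) (hs' : 2 * t ∣ s)
    (hs : 0 ≤ s)
    (h2 : n * ((q * a - (q - 2 * t + 1)) ^ 2 * 2) + k * ((q * b - (q + 2 * t + 1)) ^ 2 * 2) + z = 2 * q ^ 2 - q)
    (hz : 0 ≤ z) : a = 1 ∧ b = 1 := by
  rcases ht with rfl | ht
  · obtain rfl : q = 8 := by omega
    obtain rfl : n = 3 := by omega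
    obtain rfl : k = 1 := by omega
    obtain ⟨u, rfl⟩ := hs'
    have h3 : 3 * (8 * a - 5) ^ 2 ≤ 60 := by nlinarith [sq_nonneg (8 * b - 13)]
    have ha1 : a ≤ 1 := by nlinarith
    have ha2 : a ≠ 0 := fun h0 => by rw [h0] at h3; norm_num at h3
    obtain rfl : a = 1 := by omega
    omega
  · have h32 : 32 ≤ q := by nlinarith
    have hb4 : 4 * (2 * t) ≤ q := by nlinarith
    have p1 : 0 ≤ n * ((q * a - (q - 2 * t + 1)) ^ 2 * 2) := by positivity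
    have p2 : 0 ≤ k * ((q * b - (q + 2 * t + 1)) ^ 2 * 2) := by positivity
    have hn6 : 6 ≤ n := by clear hq h1 h2 hs' p1 p2; omega
    have hk6 : 6 ≤ k := by clear hq h1 h2 hs' p1 p2; omega
    exact ⟨e_one_of_bound (v := q - 2 * t + 1) h32 hn6 (by clear hq h1 h2 hs' p1 p2; omega)
        (by clear hq h1 h2 hs' p1 p2; omega) ha (by linarith),
      e_one_of_bound (v := q + 2 * t + 1) h32 hk6 (by clear hq h1 h2 hs' p1 p2; omega)
        (by clear hq h1 h2 hs' p1 p2; omega) hb (by linarith)⟩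

theorem gT_pow_four : (gT D 1 0) ^ 4 = 1 := by
  rw [show (gT D 1 0) ^ 4 = gT D 1 0 * gT D 1 0 * (gT D 1 0 * gT D 1 0) by simp only [pow_succ, pow_zero, one_mul, mul_assoc], gT_mul, gT_mul]
  simp [D.add_self, gT_zero]

/-- The torus of order five of the smallest group. -/
theorem tm_eight (h : m = 1) (Cm : OddCls (Cfsg.Sz F m)) (h5 : Nat.card Cm.1 = 5)
    (hNm : Nat.card (NC Cm) = 4 * Nat.card Cm.1)
    (hfm : ∀ a ∈ Cm.1, a ≠ 1 → ∀ p : Cfsg.suzukiOvoid F m, a • p ≠ p) :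
    TData D hF Cm (Finset.univ.filter fun χ : IrrCharacter (Cfsg.Sz F m) =>
      Cusp D hF (χ : Cfsg.Sz F m → ℂ) ∧ deg (χ : Cfsg.Sz F m → ℂ) = 91) := by
  haveI := Fintype.ofFinite (NC Cm)
  have hq : Fintype.card F = 8 := by rw [hF, h]; norm_num
  have hlist : ∀ χ : IrrCharacter (Cfsg.Sz F m), Cusp D hF (χ : Cfsg.Sz F m → ℂ) →
      deg (χ : Cfsg.Sz F m → ℂ) = 35 ∨ deg (χ : Cfsg.Sz F m → ℂ) = 91 ∨ deg (χ : Cfsg.Sz F m → ℂ) = 14 :=
    fun χ hχ => by simpa [hq, h] using (degrees_eight D hF h).1 χ hχ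
  have hcount := nt_count D hF Cm hNm
  rw [h5] at hcount
  have hint : ∀ χ : IrrCharacter (Cfsg.Sz F m), ∃ c : ℤ,
      (∀ a ∈ Cm.1, a ≠ 1 → (χ : Cfsg.Sz F m → ℂ) a = c) ∧ (5 : ℤ) ∣ (deg (χ : Cfsg.Sz F m → ℂ) : ℤ) - c := by
    intro χ
    obtain ⟨c, hc, hd⟩ := const_int D hF Cm hNm (isGen_restrict (NC Cm) (isGen_of_isIrr χ.2)) (fun ψ ψ' g g' => by
      have := Finset.card_le_one.1 (show (Finset.univ.filter fun χ : IrrCharacter (NC Cm) =>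
        FrobKernel.NT (KC Cm) (χ : NC Cm → ℂ)).card ≤ 1 by omega) ψ (Finset.mem_filter.2 ⟨Finset.mem_univ _, g⟩) ψ'
        (Finset.mem_filter.2 ⟨Finset.mem_univ _, g'⟩)
      rw [this]) (by omega)
    refine ⟨c, fun a ha ha1 => hc ⟨a, Subgroup.le_normalizer ha⟩ ha fun e => ha1 (congrArg Subtype.val e), ?_⟩
    have := hd (deg (χ : Cfsg.Sz F m → ℂ)) (by
      show (χ : Cfsg.Sz F m → ℂ) 1 = _
      rw [deg_eq (isCharacter_of_isIrr χ.2)]; simp)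
    rwa [h5] at this
  choose c hc hcd using hint
  obtain ⟨a₀, ha₀, ha₀1⟩ : ∃ a ∈ Cm.1, a ≠ 1 := by
    haveI : Nontrivial Cm.1 := Finite.one_lt_card_iff_nontrivial.1 (by omega)
    obtain ⟨a, ha⟩ := exists_ne (1 : Cm.1)
    exact ⟨a, a.2, fun e => ha (Subtype.ext e)⟩
  set R := Finset.univ.filter (fun χ : IrrCharacter (Cfsg.Sz F m) => Cusp D hF (χ : Cfsg.Sz F m → ℂ)) with hR
  have hc3 : ∑ χ ∈ R, c χ ^ 2 = 3 := by
    have h0 := column D hF Cm hfm ha₀ ha₀1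
    rw [Finset.sum_congr rfl fun χ _ => by rw [hc χ a₀ ha₀ ha₀1, map_intCast], h5] at h0
    have h' : ((∑ χ ∈ R, c χ ^ 2 : ℤ) : ℂ) = ((3 : ℤ) : ℂ) := by
      push_cast; simp only [pow_two]; linear_combination h0
    exact_mod_cast h'
  have hc1 : ∀ χ : IrrCharacter (Cfsg.Sz F m), Cusp D hF (χ : Cfsg.Sz F m → ℂ) → c χ ≤ 1 ∧ -1 ≤ c χ := fun χ hχ => by
    have h0 := Finset.single_le_sum (f := fun ψ => c ψ ^ 2) (fun ψ _ => sq_nonneg _)
      (Finset.mem_filter.2 ⟨Finset.mem_univ χ, hχ⟩ : χ ∈ R)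
    rw [hc3] at h0
    constructor <;> nlinarith
  obtain ⟨x, hx, hsum⟩ := exists_mult D hF
  rw [hq] at hx hsum
  set S := Finset.univ.filter fun χ : IrrCharacter (Cfsg.Sz F m) =>
    Cusp D hF (χ : Cfsg.Sz F m → ℂ) ∧ deg (χ : Cfsg.Sz F m → ℂ) = 91 with hS
  -- the values
  have hv : ∀ χ ∈ R, (deg (χ : Cfsg.Sz F m → ℂ) = 35 ∧ c χ ^ 2 = 0 ∧ x χ ^ 2 = 25) ∨
      (deg (χ : Cfsg.Sz F m → ℂ) = 91 ∧ c χ = 1 ∧ x χ ^ 2 = 169) ∨
      (deg (χ : Cfsg.Sz F m → ℂ) = 14 ∧ c χ ^ 2 = 1 ∧ x χ ^ 2 = 4) := by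
    intro χ hχ
    have hcu := (Finset.mem_filter.1 hχ).2
    obtain ⟨u1, u2⟩ := hc1 χ hcu
    have h1 := hcd χ
    have h2 := (hx χ hcu).1
    rcases hlist χ hcu with e | e | e <;> rw [e] at h1 h2 <;> norm_num at h1 h2
    · exact Or.inl ⟨e, by rw [show c χ = 0 by omega]; rfl, by rw [show x χ = 5 by omega]; rfl⟩
    · exact Or.inr (Or.inl ⟨e, by omega, by rw [show x χ = 13 by omega]; rfl⟩)
    · exact Or.inr (Or.inr ⟨e, by rw [show c χ = -1 by omega]; rfl, by rw [show x χ = 2 by omega]; rfl⟩)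
  have hcard : S.card = 1 := by
    set A := R.filter fun χ : IrrCharacter (Cfsg.Sz F m) => deg (χ : Cfsg.Sz F m → ℂ) = 35 with hA
    set B := R.filter fun χ : IrrCharacter (Cfsg.Sz F m) => deg (χ : Cfsg.Sz F m → ℂ) = 14 with hB
    have hsplit : ∀ f : IrrCharacter (Cfsg.Sz F m) → ℤ, ∀ a b d : ℤ, (∀ χ ∈ A, f χ = a) → (∀ χ ∈ S, f χ = b) →
        (∀ χ ∈ B, f χ = d) → ∑ χ ∈ R, f χ = A.card * a + S.card * b + B.card * d := by
      intro f a b d ha hb hd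
      have hSR : S = R.filter fun χ : IrrCharacter (Cfsg.Sz F m) => deg (χ : Cfsg.Sz F m → ℂ) = 91 := by rw [hS, hR, Finset.filter_filter]
      rw [Finset.sum_congr rfl (g := fun χ : IrrCharacter (Cfsg.Sz F m) => (if deg (χ : Cfsg.Sz F m → ℂ) = 35 then a else 0) +
          (if deg (χ : Cfsg.Sz F m → ℂ) = 91 then b else 0) + (if deg (χ : Cfsg.Sz F m → ℂ) = 14 then d else 0))
          fun χ hχ => by
            rcases hv χ hχ with ⟨e, -⟩ | ⟨e, -⟩ | ⟨e, -⟩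
            · simp [e, ha χ (Finset.mem_filter.2 ⟨hχ, e⟩)]
            · simp [e, hb χ (hSR ▸ Finset.mem_filter.2 ⟨hχ, e⟩)]
            · simp [e, hd χ (Finset.mem_filter.2 ⟨hχ, e⟩)],
        Finset.sum_add_distrib, Finset.sum_add_distrib, ← Finset.sum_filter, ← Finset.sum_filter, ← Finset.sum_filter,
        Finset.sum_const, Finset.sum_const, Finset.sum_const, ← hA, ← hB, ← hSR]
      simp only [nsmul_eq_mul]
    have hmR : ∀ χ ∈ S, χ ∈ R ∧ deg (χ : Cfsg.Sz F m → ℂ) = 91 := fun χ hχ => by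
      simpa [hR] using (Finset.mem_filter.1 hχ).2
    have k1 := hsplit (fun χ => c χ ^ 2) 0 1 1 (fun χ hχ => ?_) (fun χ hχ => ?_) (fun χ hχ => ?_)
    have k2 := hsplit (fun χ => x χ ^ 2) 25 169 4 (fun χ hχ => ?_) (fun χ hχ => ?_) (fun χ hχ => ?_)
    · rw [hc3] at k1
      rw [k2] at hsum
      norm_num at hsum k1
      omega
    · obtain ⟨hχR, e⟩ := Finset.mem_filter.1 hχ
      rcases hv χ hχR with ⟨e', h1, h2⟩ | ⟨e', h1, h2⟩ | ⟨e', h1, h2⟩ <;> first | omega | assumption | (rw [h1]; rfl)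
    · obtain ⟨hχR, e⟩ := hmR χ hχ
      rcases hv χ hχR with ⟨e', h1, h2⟩ | ⟨e', h1, h2⟩ | ⟨e', h1, h2⟩ <;> first | omega | assumption | (rw [h1]; rfl)
    · obtain ⟨hχR, e⟩ := Finset.mem_filter.1 hχ
      rcases hv χ hχR with ⟨e', h1, h2⟩ | ⟨e', h1, h2⟩ | ⟨e', h1, h2⟩ <;> first | omega | assumption | (rw [h1]; rfl)
    · obtain ⟨hχR, e⟩ := Finset.mem_filter.1 hχ
      rcases hv χ hχR with ⟨e', h1, h2⟩ | ⟨e', h1, h2⟩ | ⟨e', h1, h2⟩ <;> first | omega | assumption | (rw [h1]; rfl)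
    · obtain ⟨hχR, e⟩ := hmR χ hχ
      rcases hv χ hχR with ⟨e', h1, h2⟩ | ⟨e', h1, h2⟩ | ⟨e', h1, h2⟩ <;> first | omega | assumption | (rw [h1]; rfl)
    · obtain ⟨hχR, e⟩ := Finset.mem_filter.1 hχ
      rcases hv χ hχR with ⟨e', h1, h2⟩ | ⟨e', h1, h2⟩ | ⟨e', h1, h2⟩ <;> first | omega | assumption | (rw [h1]; rfl)
  have hval : ∀ χ ∈ S, c χ = 1 := fun χ hχ => by
    obtain ⟨h1, e⟩ := (Finset.mem_filter.1 hχ).2
    rcases hv χ (Finset.mem_filter.2 ⟨Finset.mem_univ _, h1⟩) with ⟨e', -⟩ | ⟨-, h2, -⟩ | ⟨e', -⟩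
    · omega
    · exact h2
    · omega
  constructor
  · rw [hcard, h5]
  · intro a ha ha1
    rw [Finset.sum_congr rfl (g := fun _ => (1 : ℝ)) (fun χ hχ => by rw [hc χ a ha ha1, hval χ hχ]; norm_num),
      Finset.sum_const, hcard, h5]
    norm_num
  · intro χ hχ a ha ha1
    rw [hc χ a ha ha1, hval χ hχ]; norm_num
  · intro χ hχ ψ hψ _
    exact Finset.card_le_one.1 hcard.le χ hχ ψ hψ
  · intro χ hχ ψ hψ y _
    rw [Finset.card_le_one.1 hcard.le χ hχ ψ hψ]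
  · intro χ hχ hcu c₀ hc₀ hd a ha ha1
    obtain ⟨u1, u2⟩ := hc1 χ hcu
    have hdv : (5 : ℤ) ∣ c χ - c₀ := by
      rw [h5] at hd
      have := dvd_sub hd (hcd χ)
      rwa [sub_sub_sub_cancel_left] at this
    rw [hc χ a ha ha1, small_eq D hF (ν := 5) (by norm_num) hdv (by nlinarith) hc₀]

/-- The column of the unit and an element of order four. -/
theorem col_one {x e : IrrCharacter (Cfsg.Sz F m) → ℤ}
    (hx : ∀ χ : IrrCharacter (Cfsg.Sz F m), Cusp D hF (χ : Cfsg.Sz F m → ℂ) →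
      (deg (χ : Cfsg.Sz F m → ℂ) : ℤ) = ((Fintype.card F : ℤ) - 1) * x χ)
    (hey : ∀ χ : IrrCharacter (Cfsg.Sz F m), Cusp D hF (χ : Cfsg.Sz F m → ℂ) →
      ((χ : Cfsg.Sz F m → ℂ) (gT D 1 0)).re = -(e χ : ℝ)) :
    ∑ χ ∈ Finset.univ.filter (fun χ : IrrCharacter (Cfsg.Sz F m) => Cusp D hF (χ : Cfsg.Sz F m → ℂ)), x χ * e χ * 2 =
      (Fintype.card F : ℤ) * ((Fintype.card F : ℤ) - 1) := by
  haveI : Finite (Fˣ →* ℂˣ) := Nat.finite_of_card_ne_zero (by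
    rw [card_hom hF, ← Fintype.card_units]; exact Fintype.card_ne_zero)
  haveI := Fintype.ofFinite (Fˣ →* ℂˣ)
  set q := Fintype.card F with hqdef
  set R := Finset.univ.filter (fun χ : IrrCharacter (Cfsg.Sz F m) => Cusp D hF (χ : Cfsg.Sz F m → ℂ)) with hR
  have h := column_orthogonality (gT D 1 0) 1
  rw [if_neg (fun hc => one_ne_zero (gT_inj D ((isConj_one_left.mp hc).trans (gT_zero D).symm)).1),
    sum_split D hF fun f => f (gT D 1 0) * conj (f 1), stb_Q D hF (Or.inl one_ne_zero),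
    sum_ps_const D hF (fun f => f (gT D 1 0) * conj (f 1)) (((q : ℝ) ^ 2 + 1 : ℝ) : ℂ) (fun θ _ => by
      simp only [ps_Q D hF θ (Or.inl one_ne_zero), ps_one, map_natCast]; push_cast; rw [one_mul]),
    Finset.sum_congr rfl (g := fun χ : IrrCharacter (Cfsg.Sz F m) =>
      (χ : Cfsg.Sz F m → ℂ) (gT D 1 0) * ((((q : ℝ) - 1) * (x χ : ℝ) : ℝ) : ℂ))
      fun χ hχ => by
        have hd : (deg (χ : Cfsg.Sz F m → ℂ) : ℂ) = ((((q : ℤ) - 1) * x χ : ℤ) : ℂ) := by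
          rw [← hx χ (Finset.mem_filter.1 hχ).2, Int.cast_natCast]
        rw [deg_eq (isCharacter_of_isIrr χ.2), map_natCast, hd]; push_cast; rfl] at h
  have h1 := congrArg Complex.re h
  simp only [map_one, mul_one, zero_mul, add_zero, Complex.add_re, Complex.one_re, Complex.re_sum,
    Complex.re_mul_ofReal, Complex.zero_re] at h1
  rw [show ((q : ℂ) - 2) * (((q : ℝ) ^ 2 + 1 : ℝ) : ℂ) = ((((q : ℝ) - 2) * ((q : ℝ) ^ 2 + 1) : ℝ) : ℂ) by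
      push_cast; rfl, show (2 : ℂ)⁻¹ = ((2⁻¹ : ℝ) : ℂ) by simp, Complex.re_ofReal_mul, Complex.ofReal_re,
    Finset.sum_congr rfl (g := fun χ => -(((q : ℝ) - 1) * ((x χ : ℝ) * (e χ : ℝ)))) fun χ hχ => by
      rw [hey χ (Finset.mem_filter.1 hχ).2]; ring, Finset.sum_neg_distrib, ← Finset.mul_sum] at h1
  have h2 : ((((q : ℤ) - 1) * ∑ χ ∈ R, x χ * e χ * 2 : ℤ) : ℝ) =
      ((((q : ℤ) - 1) * ((q : ℤ) * ((q : ℤ) - 1)) : ℤ) : ℝ) := by
    push_cast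
    rw [← Finset.sum_mul]
    linear_combination -2 * h1
  refine mul_left_cancel₀ ?_ (Int.cast_injective h2)
  have : 2 ≤ q := Fintype.one_lt_card
  omega

/-- The column of an involution. -/
theorem col_invol {x e : IrrCharacter (Cfsg.Sz F m) → ℤ}
    (hez : ∀ χ : IrrCharacter (Cfsg.Sz F m), Cusp D hF (χ : Cfsg.Sz F m → ℂ) →
      (χ : Cfsg.Sz F m → ℂ) (gT D 0 1) = (((Fintype.card F : ℤ) * e χ - x χ : ℤ) : ℂ)) :
    ∑ χ ∈ Finset.univ.filter (fun χ : IrrCharacter (Cfsg.Sz F m) => Cusp D hF (χ : Cfsg.Sz F m → ℂ)),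
        ((Fintype.card F : ℤ) * e χ - x χ) ^ 2 * 2 =
      2 * (Fintype.card F : ℤ) ^ 2 - (Fintype.card F : ℤ) := by
  haveI : Finite (Fˣ →* ℂˣ) := Nat.finite_of_card_ne_zero (by
    rw [card_hom hF, ← Fintype.card_units]; exact Fintype.card_ne_zero)
  haveI := Fintype.ofFinite (Fˣ →* ℂˣ)
  set q := Fintype.card F with hqdef
  set R := Finset.univ.filter (fun χ : IrrCharacter (Cfsg.Sz F m) => Cusp D hF (χ : Cfsg.Sz F m → ℂ)) with hR
  have h := column_orthogonality (gT D 0 1) (gT D 0 1)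
  rw [if_pos (IsConj.refl _), card_centralizer_invol D hF (invol_gT D hF one_ne_zero),
    sum_split D hF fun f => f (gT D 0 1) * conj (f (gT D 0 1)), stb_Q D hF (Or.inr one_ne_zero),
    sum_ps_const D hF (fun f => f (gT D 0 1) * conj (f (gT D 0 1))) 1 (fun θ _ => by
      simp only [ps_Q D hF θ (Or.inr one_ne_zero)]; simp),
    Finset.sum_congr rfl (g := fun χ : IrrCharacter (Cfsg.Sz F m) => ((((q : ℤ) * e χ - x χ) ^ 2 : ℤ) : ℂ))
      fun χ hχ => by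
        rw [hez χ (Finset.mem_filter.1 hχ).2, map_intCast]; push_cast; ring] at h
  simp only [map_zero, mul_zero, map_one, mul_one, Nat.cast_pow, ← hR] at h
  have h2 : (((∑ χ ∈ R, ((q : ℤ) * e χ - x χ) ^ 2) * 2 : ℤ) : ℂ) = ((2 * (q : ℤ) ^ 2 - (q : ℤ) : ℤ) : ℂ) := by
    push_cast at h ⊢; linear_combination 2 * h
  rw [← Finset.sum_mul]
  exact Int.cast_injective h2

/-- The column of an element of order four. -/
theorem col_four :
    ∑ χ ∈ Finset.univ.filter (fun χ : IrrCharacter (Cfsg.Sz F m) => Cusp D hF (χ : Cfsg.Sz F m → ℂ)),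
        ‖(χ : Cfsg.Sz F m → ℂ) (gT D 1 0)‖ ^ 2 = 3 * (Fintype.card F : ℝ) / 2 := by
  haveI : Finite (Fˣ →* ℂˣ) := Nat.finite_of_card_ne_zero (by
    rw [card_hom hF, ← Fintype.card_units]; exact Fintype.card_ne_zero)
  haveI := Fintype.ofFinite (Fˣ →* ℂˣ)
  set q := Fintype.card F with hqdef
  have h := column_orthogonality (gT D 1 0) (gT D 1 0)
  rw [if_pos (IsConj.refl _), card_centralizer_y D hF,
    sum_split D hF fun f => f (gT D 1 0) * conj (f (gT D 1 0)), stb_Q D hF (Or.inl one_ne_zero),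
    sum_ps_const D hF (fun f => f (gT D 1 0) * conj (f (gT D 1 0))) 1 (fun θ _ => by
      simp only [ps_Q D hF θ (Or.inl one_ne_zero)]; simp),
    Finset.sum_congr rfl (g := fun χ : IrrCharacter (Cfsg.Sz F m) =>
      ((‖(χ : Cfsg.Sz F m → ℂ) (gT D 1 0)‖ ^ 2 : ℝ) : ℂ))
      (fun χ _ => by rw [Complex.mul_conj']; push_cast; rfl)] at h
  simp only [map_zero, mul_zero, map_one, mul_one] at h
  rw [← Complex.ofReal_sum] at h
  apply Complex.ofReal_injective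
  push_cast at h ⊢
  linear_combination h

/-- The table exists. -/
theorem exists_table : ∃ (Cp Cm : OddCls (Cfsg.Sz F m)) (P M W : Finset (IrrCharacter (Cfsg.Sz F m))),
    Nat.card Cp.1 = Fintype.card F + 2 ^ (m + 1) + 1 ∧ Nat.card (NC Cp) = 4 * Nat.card Cp.1 ∧
    (∀ a ∈ Cp.1, a ≠ 1 → ∀ p : Cfsg.suzukiOvoid F m, a • p ≠ p) ∧
    Nat.card Cm.1 = Fintype.card F - 2 ^ (m + 1) + 1 ∧ Nat.card (NC Cm) = 4 * Nat.card Cm.1 ∧
    (∀ a ∈ Cm.1, a ≠ 1 → ∀ p : Cfsg.suzukiOvoid F m, a • p ≠ p) ∧ Table D hF Cp Cm P M W := by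
  haveI : Finite (Fˣ →* ℂˣ) := Nat.finite_of_card_ne_zero (by
    rw [card_hom hF, ← Fintype.card_units]; exact Fintype.card_ne_zero)
  haveI := Fintype.ofFinite (Fˣ →* ℂˣ)
  obtain ⟨Cp, hCp, hNp, hfp⟩ := exists_free_cls D hF _ (Or.inl rfl)
  obtain ⟨Cm, hCm, hNm, hfm⟩ := exists_free_cls D hF _ (Or.inr rfl)
  obtain ⟨t, ht, ht2, hq⟩ := q_two_mul D hF
  set q := Fintype.card F with hqdef
  obtain ⟨ta, hta, -, hqn, hr⟩ := q_facts D hF
  have hta' : (ta : ℤ) = t := by rw [ht, ← hta]; push_cast; rfl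
  have hle : 2 ^ (m + 1) ≤ q := by rw [hF]; exact Nat.pow_le_pow_right two_pos (by omega)
  have ep : (Nat.card Cp.1 : ℤ) = (q : ℤ) + 2 * t + 1 := by rw [hCp, hr]; push_cast; rw [hta']
  have em : (Nat.card Cm.1 : ℤ) = (q : ℤ) - 2 * t + 1 := by
    rw [hCm, hr, Nat.cast_add, Nat.cast_sub (hr ▸ hle)]; push_cast; rw [hta']
  set dP := (q - 1) * (q - 2 ^ (m + 1) + 1) with hdP
  set dM := (q - 1) * (q + 2 ^ (m + 1) + 1) with hdM
  set dW := (q - 1) * 2 ^ m with hdW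
  have hq8 : (8 : ℤ) ≤ q := by nlinarith
  have hq1 : ((q - 1 : ℕ) : ℤ) = (q : ℤ) - 1 := by omega
  have eP : (dP : ℤ) = ((q : ℤ) - 1) * ((q : ℤ) - 2 * t + 1) := by rw [hdP, Nat.cast_mul, hq1, ← hCm, em]
  have eM : (dM : ℤ) = ((q : ℤ) - 1) * ((q : ℤ) + 2 * t + 1) := by rw [hdM, Nat.cast_mul, hq1, ← hCp, ep]
  have eW : (dW : ℤ) = ((q : ℤ) - 1) * t := by rw [hdW, Nat.cast_mul, hq1, ht]; push_cast; rfl
  have hlist : ∀ χ : IrrCharacter (Cfsg.Sz F m), Cusp D hF (χ : Cfsg.Sz F m → ℂ) →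
      deg (χ : Cfsg.Sz F m → ℂ) = dP ∨ deg (χ : Cfsg.Sz F m → ℂ) = dM ∨ deg (χ : Cfsg.Sz F m → ℂ) = dW := by
    by_cases h : m = 1
    · exact (degrees_eight D hF h).1
    · exact (degrees_big D hF (by have := D.one_le; omega)).1
  -- congruences
  have cpP : (Nat.card Cp.1 : ℤ) ∣ (dP : ℤ) + 4 := ⟨(q : ℤ) - 4 * t + 3, by rw [eP, ep]; linear_combination (-4 : ℤ) * hq⟩
  have cpM : (Nat.card Cp.1 : ℤ) ∣ (dM : ℤ) - 0 := ⟨(q : ℤ) - 1, by rw [eM, ep]; ring⟩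
  have cpW : (Nat.card Cp.1 : ℤ) ∣ (dW : ℤ) - 1 := ⟨t - 1, by rw [eW, ep]; linear_combination hq⟩
  have cmM : (Nat.card Cm.1 : ℤ) ∣ (dM : ℤ) + 4 := ⟨(q : ℤ) + 4 * t + 3, by rw [eM, em]; linear_combination (-4 : ℤ) * hq⟩
  have cmP : (Nat.card Cm.1 : ℤ) ∣ (dP : ℤ) - 0 := ⟨(q : ℤ) - 1, by rw [eP, em]; ring⟩
  have cmW : (Nat.card Cm.1 : ℤ) ∣ (dW : ℤ) - (-1) := ⟨t + 1, by rw [eW, em]; linear_combination -hq⟩
  set P := Finset.univ.filter fun χ : IrrCharacter (Cfsg.Sz F m) =>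
    Cusp D hF (χ : Cfsg.Sz F m → ℂ) ∧ deg (χ : Cfsg.Sz F m → ℂ) = dP with hP
  set M := Finset.univ.filter fun χ : IrrCharacter (Cfsg.Sz F m) =>
    Cusp D hF (χ : Cfsg.Sz F m → ℂ) ∧ deg (χ : Cfsg.Sz F m → ℂ) = dM with hM
  set W := Finset.univ.filter fun χ : IrrCharacter (Cfsg.Sz F m) =>
    Cusp D hF (χ : Cfsg.Sz F m → ℂ) ∧ deg (χ : Cfsg.Sz F m → ℂ) = dW with hW
  have memP : ∀ χ, χ ∈ P ↔ Cusp D hF (χ : Cfsg.Sz F m → ℂ) ∧ deg (χ : Cfsg.Sz F m → ℂ) = dP := fun χ => by simp [hP]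
  have memM : ∀ χ, χ ∈ M ↔ Cusp D hF (χ : Cfsg.Sz F m → ℂ) ∧ deg (χ : Cfsg.Sz F m → ℂ) = dM := fun χ => by simp [hM]
  have memW : ∀ χ, χ ∈ W ↔ Cusp D hF (χ : Cfsg.Sz F m → ℂ) ∧ deg (χ : Cfsg.Sz F m → ℂ) = dW := fun χ => by simp [hW]
  have hPM : dP ≠ dM := fun e => by
    have h : ((dP : ℕ) : ℤ) = dM := by rw [e]
    rw [eP, eM] at h; nlinarith
  have hPW : dP ≠ dW := fun e => by
    have h : ((dP : ℕ) : ℤ) = dW := by rw [e]
    rw [eP, eW] at h; nlinarith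
  have hMW : dM ≠ dW := fun e => by
    have h : ((dM : ℕ) : ℤ) = dW := by rw [e]
    rw [eM, eW] at h; nlinarith
  have d1 : Disjoint P M := Finset.disjoint_left.2 fun χ h1 h2 => hPM (((memP χ).1 h1).2.symm.trans ((memM χ).1 h2).2)
  have d2 : Disjoint (P ∪ M) W := Finset.disjoint_left.2 fun χ h1 h2 => by
    rcases Finset.mem_union.1 h1 with h | h
    · exact hPW (((memP χ).1 h).2.symm.trans ((memW χ).1 h2).2)
    · exact hMW (((memM χ).1 h).2.symm.trans ((memW χ).1 h2).2)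
  have hR : Finset.univ.filter (fun χ : IrrCharacter (Cfsg.Sz F m) => Cusp D hF (χ : Cfsg.Sz F m → ℂ)) = P ∪ M ∪ W := by
    ext χ
    simp only [Finset.mem_filter, Finset.mem_univ, true_and, Finset.mem_union, memP, memM, memW]
    exact ⟨fun h => by rcases hlist χ h with e | e | e <;> simp [h, e], fun h => by tauto⟩
  have hcusp : ∀ χ : IrrCharacter (Cfsg.Sz F m), χ ∈ P ∨ χ ∈ M ∨ χ ∈ W → Cusp D hF (χ : Cfsg.Sz F m → ℂ) := by
    rintro χ (h | h | h)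
    exacts [((memP χ).1 h).1, ((memM χ).1 h).1, ((memW χ).1 h).1]
  have hmemR : ∀ χ : IrrCharacter (Cfsg.Sz F m), χ ∈ P ∪ M ∪ W → Cusp D hF (χ : Cfsg.Sz F m → ℂ) := fun χ hχ => by
    rw [← hR] at hχ; exact (Finset.mem_filter.1 hχ).2
  obtain ⟨x, hx, hsum⟩ := exists_mult D hF
  have hxv : ∀ χ : IrrCharacter (Cfsg.Sz F m), Cusp D hF (χ : Cfsg.Sz F m → ℂ) → ∀ (d : ℕ) (v : ℤ), deg (χ : Cfsg.Sz F m → ℂ) = d →
      (d : ℤ) = ((q : ℤ) - 1) * v → x χ = v := fun χ hc d v h1 h2 => by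
    have h := (hx χ hc).1
    rw [h1, h2] at h
    exact (mul_left_cancel₀ (by omega) h).symm
  have xP : ∀ χ ∈ P, x χ = (q : ℤ) - 2 * t + 1 := fun χ h => hxv χ ((memP χ).1 h).1 _ _ ((memP χ).1 h).2 eP
  have xM : ∀ χ ∈ M, x χ = (q : ℤ) + 2 * t + 1 := fun χ h => hxv χ ((memM χ).1 h).1 _ _ ((memM χ).1 h).2 eM
  have xW : ∀ χ ∈ W, x χ = t := fun χ h => hxv χ ((memW χ).1 h).1 _ _ ((memW χ).1 h).2 eW
  -- the torus of order q + r + 1
  have tp : TData D hF Cp P := by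
    have hex : 21 ≤ Nat.card Cp.1 ∨ ∀ χ : IrrCharacter (Cfsg.Sz F m), Cusp D hF (χ : Cfsg.Sz F m → ℂ) →
        ¬ (Nat.card Cp.1 : ℤ) ∣ (deg (χ : Cfsg.Sz F m → ℂ) : ℤ) - 5 ∧
          ¬ (Nat.card Cp.1 : ℤ) ∣ (deg (χ : Cfsg.Sz F m → ℂ) : ℤ) + 5 := by
      by_cases h : m = 1
      · right
        intro χ hχ
        have ht' : t = 2 := by rw [ht, h]; norm_num
        have hq' : (q : ℤ) = 8 := by rw [hq, ht']; norm_num
        have hcp : (Nat.card Cp.1 : ℤ) = 13 := by rw [ep, hq', ht']; norm_num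
        rw [hcp]
        rcases hlist χ hχ with e | e | e <;> rw [e]
        · rw [eP, hq', ht']; decide
        · rw [eM, hq', ht']; decide
        · rw [eW, hq', ht']; decide
      · left
        have h4 : (4 : ℤ) ≤ t := by
          rw [ht]; exact le_trans (by norm_num) (pow_le_pow_right₀ (by norm_num) (show 2 ≤ m by have := D.one_le; omega))
        have : (21 : ℤ) ≤ (Nat.card Cp.1 : ℤ) := by rw [ep]; nlinarith
        exact_mod_cast this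
    have h13 : 13 ≤ Nat.card Cp.1 := by
      have : (13 : ℤ) ≤ (Nat.card Cp.1 : ℤ) := by rw [ep]; omega
      exact_mod_cast this
    obtain ⟨n, ⟨Fp⟩⟩ := exists_tfam' D hF Cp hNp hfp h13 hex
    refine tdata_of_tfam D hF Fp h13 dP cpP fun χ hχ hne => ?_
    rcases hlist χ hχ with e | e | e
    · exact absurd e hne
    · exact ⟨0, by norm_num, by rw [e]; exact cpM⟩
    · exact ⟨1, by norm_num, by rw [e]; exact cpW⟩
  -- the torus of order q - r + 1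
  have tm : TData D hF Cm M := by
    by_cases h : m = 1
    · have ht' : t = 2 := by rw [ht, h]; norm_num
      have hq' : (q : ℤ) = 8 := by rw [hq, ht']; norm_num
      have h5 : Nat.card Cm.1 = 5 := by
        have : (Nat.card Cm.1 : ℤ) = 5 := by rw [em, hq', ht']; norm_num
        exact_mod_cast this
      have h91 : dM = 91 := by
        have : (dM : ℤ) = 91 := by rw [eM, hq', ht']; norm_num
        exact_mod_cast this
      rw [hM, h91]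
      exact tm_eight D hF h Cm h5 hNm hfm
    · have h4 : (4 : ℤ) ≤ t := by
        rw [ht]; exact le_trans (by norm_num) (pow_le_pow_right₀ (by norm_num) (show 2 ≤ m by have := D.one_le; omega))
      have h21 : 21 ≤ Nat.card Cm.1 := by
        have : (21 : ℤ) ≤ (Nat.card Cm.1 : ℤ) := by rw [em]; nlinarith
        exact_mod_cast this
      obtain ⟨n, ⟨Fm⟩⟩ := exists_tfam D hF Cm hNm hfm h21
      refine tdata_of_tfam D hF Fm (by omega) dM cmM fun χ hχ hne => ?_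
      rcases hlist χ hχ with e | e | e
      · exact ⟨0, by norm_num, by rw [e]; exact cmP⟩
      · exact absurd e hne
      · exact ⟨-1, by norm_num, by rw [e]; exact cmW⟩
  have np : 4 * (P.card : ℤ) = (q : ℤ) + 2 * t := by
    have h : (4 * P.card + 1 : ℤ) = Nat.card Cp.1 := by exact_mod_cast tp.card
    rw [ep] at h; linarith
  have nm : 4 * (M.card : ℤ) = (q : ℤ) - 2 * t := by
    have h : (4 * M.card + 1 : ℤ) = Nat.card Cm.1 := by exact_mod_cast tm.card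
    rw [em] at h; linarith
  have hW2 : W.card = 2 := by
    have h := hsum
    rw [hR, Finset.sum_union d2, Finset.sum_union d1,
      Finset.sum_congr rfl (g := fun _ => ((q : ℤ) - 2 * t + 1) ^ 2) (fun χ hχ => by rw [xP χ hχ]),
      Finset.sum_congr rfl (g := fun _ => ((q : ℤ) + 2 * t + 1) ^ 2) (s₁ := M) (fun χ hχ => by rw [xM χ hχ]),
      Finset.sum_congr rfl (g := fun _ => t ^ 2) (s₁ := W) (fun χ hχ => by rw [xW χ hχ])] at h
    simp only [Finset.sum_const, nsmul_eq_mul] at h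
    have h2 : t ^ 2 * ((W.card : ℤ) - 2) * 8 = 0 := by
      linear_combination 4 * h - 2 * ((q : ℤ) - 2 * t + 1) ^ 2 * np - 2 * ((q : ℤ) + 2 * t + 1) ^ 2 * nm -
        8 * ((q : ℤ) + 1) * hq
    have h3 := (mul_eq_zero.1 h2).resolve_right (by norm_num)
    have h4 := (mul_eq_zero.1 h3).resolve_left (pow_ne_zero 2 (by omega))
    omega
  -- the values on the Sylow subgroup
  have hQv : ∀ χ : IrrCharacter (Cfsg.Sz F m), Cusp D hF (χ : Cfsg.Sz F m → ℂ) → ∃ e : ℤ, 0 ≤ e ∧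
      (χ : Cfsg.Sz F m → ℂ) (gT D 0 1) = (((q : ℤ) * e - x χ : ℤ) : ℂ) ∧
      ((χ : Cfsg.Sz F m → ℂ) (gT D 1 0)).re = -(e : ℝ) ∧
      (χ : Cfsg.Sz F m → ℂ) (gT D 1 1) = conj ((χ : Cfsg.Sz F m → ℂ) (gT D 1 0)) :=
    fun χ hχ => q_values D hF hχ (hx χ hχ).1
  choose! e he0 hez hey hey' using hQv
  have hconj_one : ∀ (C : OddCls (Cfsg.Sz F m)) (g : Cfsg.Sz F m), g ^ 4 = 1 →
      ∀ k, k⁻¹ * g * k ∈ C.1 → k⁻¹ * g * k = 1 := fun C g hg k hk =>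
    (szLike D hF).odd_two_disjoint (Odd.of_dvd_nat (cls_odd (szLike D hF) C) (Subgroup.orderOf_dvd_natCard _ hk))
      (by rw [show k⁻¹ * g * k = k⁻¹ * g * k⁻¹⁻¹ by group, conj_pow, hg, mul_one, mul_inv_cancel])
  have hsame : ∀ (C : OddCls (Cfsg.Sz F m)) (S : Finset (IrrCharacter (Cfsg.Sz F m))), TData D hF C S →
      (∀ χ ∈ S, Cusp D hF (χ : Cfsg.Sz F m → ℂ)) → ∀ χ ∈ S, ∀ ψ ∈ S, e χ = e ψ := by
    intro C S T hS χ hχ ψ hψ
    have h1 := congrArg Complex.re (T.off χ hχ ψ hψ (gT D 1 0) (hconj_one C _ (gT_pow_four D hF)))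
    rw [hey χ (hS χ hχ), hey ψ (hS ψ hψ), neg_inj] at h1
    exact_mod_cast h1
  have sP : ∀ χ ∈ P, Cusp D hF (χ : Cfsg.Sz F m → ℂ) := fun χ h => hcusp χ (Or.inl h)
  have sM : ∀ χ ∈ M, Cusp D hF (χ : Cfsg.Sz F m → ℂ) := fun χ h => hcusp χ (Or.inr (Or.inl h))
  have sW : ∀ χ ∈ W, Cusp D hF (χ : Cfsg.Sz F m → ℂ) := fun χ h => hcusp χ (Or.inr (Or.inr h))
  obtain ⟨χP, hχP⟩ : P.Nonempty := Finset.card_pos.1 (by omega)
  obtain ⟨χM, hχM⟩ : M.Nonempty := Finset.card_pos.1 (by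
    have : 0 < 4 * (M.card : ℤ) := by rw [nm]; nlinarith
    omega)
  set a := e χP
  set b := e χM
  have haP : ∀ χ ∈ P, e χ = a := fun χ h => hsame Cp P tp sP χ h χP hχP
  have hbM : ∀ χ ∈ M, e χ = b := fun χ h => hsame Cm M tm sM χ h χM hχM
  have hqC : ((q : ℕ) : ℂ) = ((q : ℤ) : ℂ) := by push_cast; rfl
  have col1 := col_one D hF (fun χ h => (hx χ h).1) hey
  have col2 := col_invol D hF hez
  rw [hR] at col1 col2
  rw [Finset.sum_union d2, Finset.sum_union d1] at col1 col2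
  rw [Finset.sum_congr rfl (g := fun _ => ((q : ℤ) - 2 * t + 1) * a * 2) (fun χ hχ => by rw [xP χ hχ, haP χ hχ]),
    Finset.sum_congr rfl (g := fun _ => ((q : ℤ) + 2 * t + 1) * b * 2) (s₁ := M) (fun χ hχ => by rw [xM χ hχ, hbM χ hχ]),
    Finset.sum_congr rfl (g := fun χ => t * e χ * 2) (s₁ := W) (fun χ hχ => by rw [xW χ hχ])] at col1
  rw [Finset.sum_congr rfl (g := fun _ => ((q : ℤ) * a - ((q : ℤ) - 2 * t + 1)) ^ 2 * 2)
      (fun χ hχ => by rw [xP χ hχ, haP χ hχ]),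
    Finset.sum_congr rfl (g := fun _ => ((q : ℤ) * b - ((q : ℤ) + 2 * t + 1)) ^ 2 * 2) (s₁ := M)
      (fun χ hχ => by rw [xM χ hχ, hbM χ hχ])] at col2
  simp only [Finset.sum_const, nsmul_eq_mul] at col1 col2
  have ha0 : 0 ≤ a := he0 χP (sP χP hχP)
  have hb0 : 0 ≤ b := he0 χM (sM χM hχM)
  have hsW0 : 0 ≤ ∑ χ ∈ W, t * e χ * 2 := Finset.sum_nonneg fun χ hχ => by
    have := he0 χ (sW χ hχ); positivity
  have hW0' : 0 ≤ ∑ χ ∈ W, ((q : ℤ) * e χ - x χ) ^ 2 * 2 := Finset.sum_nonneg fun χ _ => by positivity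
  have hab : a = 1 ∧ b = 1 := by
    have hm1 : t = 2 ∨ 4 ≤ t := by
      rcases Nat.lt_or_ge m 2 with h | h
      · left; rw [ht, show m = 1 by have := D.one_le; omega]; norm_num
      · right; rw [ht]; exact le_trans (by norm_num) (pow_le_pow_right₀ (by norm_num) h)
    have hpar : (2 * t : ℤ) ∣ ∑ χ ∈ W, t * e χ * 2 := Finset.dvd_sum fun χ _ => ⟨e χ, by ring⟩
    exact e_values hq hm1 np nm (Int.natCast_nonneg _) (Int.natCast_nonneg _) ha0 hb0 col1 hpar hsW0 col2 hW0'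
  obtain ⟨ha, hb⟩ := hab
  have heW : ∀ χ ∈ W, e χ = 0 := by
    have hz : ∑ χ ∈ W, t * e χ * 2 = 0 := by
      rw [ha, hb] at col1
      have h4 : 4 * ∑ χ ∈ W, t * e χ * 2 = 0 := by
        linear_combination 4 * col1 - 2 * ((q : ℤ) - 2 * t + 1) * np - 2 * ((q : ℤ) + 2 * t + 1) * nm -
          8 * hq
      linarith
    intro χ hχ
    have h := (Finset.sum_eq_zero_iff_of_nonneg (fun ψ hψ => by have := he0 ψ (sW ψ hψ); positivity)).1 hz χ hχ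
    nlinarith
  have yre : ∀ χ, χ ∈ P ∨ χ ∈ M → ((χ : Cfsg.Sz F m → ℂ) (gT D 1 0)) = -1 := by
    intro χ hχ
    have hreal : conj ((χ : Cfsg.Sz F m → ℂ) (gT D 1 0)) = (χ : Cfsg.Sz F m → ℂ) (gT D 1 0) := by
      rcases hχ with h | h
      · exact real_of_tdata D hF tp hNp (fun ψ => memP ψ) h _
      · exact real_of_tdata D hF tm hNm (fun ψ => memM ψ) h _
    refine Complex.ext ?_ ?_
    · rw [hey χ (hcusp χ (by tauto))]
      rcases hχ with h | h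
      · rw [haP χ h, ha]; simp
      · rw [hbM χ h, hb]; simp
    · rw [Complex.conj_eq_iff_im] at hreal
      rw [hreal]; simp
  have hWy : ∑ χ ∈ W, ‖(χ : Cfsg.Sz F m → ℂ) (gT D 1 0)‖ ^ 2 = (q : ℝ) := by
    have h := col_four D hF
    rw [hR, Finset.sum_union d2, Finset.sum_union d1,
      Finset.sum_congr rfl (g := fun _ => (1 : ℝ)) (fun χ hχ => by rw [yre χ (Or.inl hχ)]; simp),
      Finset.sum_congr rfl (g := fun _ => (1 : ℝ)) (s₁ := M) (fun χ hχ => by rw [yre χ (Or.inr hχ)]; simp)] at h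
    simp only [Finset.sum_const, nsmul_eq_mul, mul_one] at h
    have np' : 4 * (P.card : ℝ) = (q : ℝ) + 2 * (t : ℝ) := by exact_mod_cast congrArg (fun z : ℤ => (z : ℝ)) np
    have nm' : 4 * (M.card : ℝ) = (q : ℝ) - 2 * (t : ℝ) := by exact_mod_cast congrArg (fun z : ℤ => (z : ℝ)) nm
    rw [← hqdef] at h
    linarith
  refine ⟨Cp, Cm, P, M, W, hCp, hNp, hfp, hCm, hNm, hfm,
    ⟨fun f => by rw [hR, Finset.sum_union d2, Finset.sum_union d1], hcusp, tp, tm, hW2,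
      fun χ h => ?_, fun χ h => ?_, fun χ h => ?_, fun χ h => ?_, fun χ h => ?_, fun χ h => ?_,
      fun χ h y hy => ?_, fun χ h y hy => ?_, fun χ h y hy => ?_, fun y hy => ?_,
      fun χ h g hg hg1 => ?_, fun χ h g hg hg1 => ?_, fun χ h g hg hg1 => ?_, fun χ h g hg hg1 => ?_⟩⟩
  · rw [deg_eq (isCharacter_of_isIrr χ.2), ((memP χ).1 h).2, ← Int.cast_natCast, eP, ht]; push_cast; ring
  · rw [deg_eq (isCharacter_of_isIrr χ.2), ((memM χ).1 h).2, ← Int.cast_natCast, eM, ht]; push_cast; ring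
  · rw [deg_eq (isCharacter_of_isIrr χ.2), ((memW χ).1 h).2, ← Int.cast_natCast, eW, ht]; push_cast; ring
  · rw [hez χ (sP χ h), haP χ h, ha, xP χ h, ht]; push_cast; ring
  · rw [hez χ (sM χ h), hbM χ h, hb, xM χ h, ht]; push_cast; ring
  · rw [hez χ (sW χ h), heW χ h, xW χ h, ht]; push_cast; ring
  · rcases hy with rfl | rfl
    · exact yre χ (Or.inl h)
    · rw [hey' χ (sP χ h), yre χ (Or.inl h)]; simp
  · rcases hy with rfl | rfl
    · exact yre χ (Or.inr h)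
    · rw [hey' χ (sM χ h), yre χ (Or.inr h)]; simp
  · rcases hy with rfl | rfl
    · rw [hey χ (sW χ h), heW χ h]; simp
    · rw [hey' χ (sW χ h), Complex.conj_re, hey χ (sW χ h), heW χ h]; simp
  · rcases hy with rfl | rfl
    · exact hWy
    · rw [← hWy]
      refine Finset.sum_congr rfl fun χ h => ?_
      rw [hey' χ (sW χ h), Complex.norm_conj]
  · rw [tm.other χ (fun hM' => hPM (((memP χ).1 h).2.symm.trans ((memM χ).1 hM').2)) (sP χ h) 0 (by norm_num)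
      (by rw [((memP χ).1 h).2]; exact cmP) g hg hg1]
    simp
  · rw [tp.other χ (fun hP' => hPM (((memP χ).1 hP').2.symm.trans ((memM χ).1 h).2)) (sM χ h) 0 (by norm_num)
      (by rw [((memM χ).1 h).2]; exact cpM) g hg hg1]
    simp
  · rw [tp.other χ (fun hP' => hPW (((memP χ).1 hP').2.symm.trans ((memW χ).1 h).2)) (sW χ h) 1 (by norm_num)
      (by rw [((memW χ).1 h).2]; exact cpW) g hg hg1]
    simp
  · rw [tm.other χ (fun hM' => hMW (((memM χ).1 hM').2.symm.trans ((memW χ).1 h).2)) (sW χ h) (-1) (by norm_num)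
      (by rw [((memW χ).1 h).2]; exact cmW) g hg hg1]
    simp

end Cfsg.Agent.Suzuki
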