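/-
Actions of a Suzuki group in which every non-identity element fixes at most two points.
-/
import Cfsg.Agent.Lib.Suzuki.SubField

set_option autoImplicit false

namespace Cfsg.Agent.Suzuki

open scoped Pointwise

variable {F : Type*} [Field F] [Fintype F] {m : ℕ} (D : Dat F m) (hF : Fintype.card F = 2 ^ (2 * m + 1))
variable {Ω : Type*} [Fintype Ω] [MulAction (Cfsg.Sz F m) Ω]
variable (hfix : ∀ g : Cfsg.Sz F m, g ≠ 1 → Nat.card (MulAction.fixedBy Ω g) ≤ 2)
include D hF hfix

omit D hF in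
theorem card_le_of_fix {g : Cfsg.Sz F m} (hg : g ≠ 1) (α : Ω) (S : Set (Cfsg.Sz F m))
    (hS : ∀ x ∈ S, g • (x • α) = x • α) :
    Nat.card S ≤ 2 * Nat.card (MulAction.stabilizer (Cfsg.Sz F m) α) := by
  classical
  have h0 : Nat.card S ≤ Nat.card (MulAction.fixedBy Ω g) * Nat.card (MulAction.stabilizer (Cfsg.Sz F m) α) := by
    rw [← Nat.card_prod]
    have hrep : ∀ ω : MulAction.fixedBy Ω g, ∃ r : Cfsg.Sz F m, (∃ x : Cfsg.Sz F m, x • α = ω.1) → r • α = ω.1 := by
      intro ω
      by_cases h : ∃ x : Cfsg.Sz F m, x • α = ω.1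
      · obtain ⟨x, hx⟩ := h; exact ⟨x, fun _ => hx⟩
      · exact ⟨1, fun h' => absurd h' h⟩
    choose r hr using hrep
    let f : S → MulAction.fixedBy Ω g × MulAction.stabilizer (Cfsg.Sz F m) α := fun x =>
      (⟨x.1 • α, hS x x.2⟩, ⟨(r ⟨x.1 • α, hS x x.2⟩)⁻¹ * x.1, by
        rw [MulAction.mem_stabilizer_iff, mul_smul, inv_smul_eq_iff]
        exact (hr ⟨x.1 • α, hS x x.2⟩ ⟨x.1, rfl⟩).symm⟩)
    refine Nat.card_le_card_of_injective f fun x y e => ?_
    have e1 : (⟨x.1 • α, hS x x.2⟩ : MulAction.fixedBy Ω g) = ⟨y.1 • α, hS y y.2⟩ := congrArg Prod.fst e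
    have e2 : (r ⟨x.1 • α, hS x x.2⟩)⁻¹ * x.1 = (r ⟨y.1 • α, hS y y.2⟩)⁻¹ * y.1 :=
      congrArg (fun q => (q.2 : Cfsg.Sz F m)) e
    rw [e1] at e2
    exact Subtype.ext (mul_left_cancel e2)
  exact h0.trans (Nat.mul_le_mul_right _ (hfix g hg))

omit D hF in
theorem card_sub_le {g : Cfsg.Sz F m} (hg : g ≠ 1) (α : Ω) (K : Subgroup (Cfsg.Sz F m))
    (hK : ∀ x ∈ K, g • (x • α) = x • α) :
    Nat.card K ≤ 2 * Nat.card (K ⊓ MulAction.stabilizer (Cfsg.Sz F m) α : Subgroup (Cfsg.Sz F m)) := by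
  have h1 : Nat.card (MulAction.orbit K α) * Nat.card (MulAction.stabilizer K α) = Nat.card K := by
    rw [Nat.card_congr (MulAction.orbitEquivQuotientStabilizer K α)]
    exact (Subgroup.card_eq_card_quotient_mul_card_subgroup _).symm
  have h2 : Nat.card (MulAction.orbit K α) ≤ 2 := by
    refine le_trans (Nat.card_le_card_of_injective (fun ω => (⟨ω.1, ?_⟩ : MulAction.fixedBy Ω g)) fun ω ω' e => ?_)
      (hfix g hg)
    · obtain ⟨k, hk⟩ := ω.2
      show g • ω.1 = ω.1
      rw [← hk]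
      exact hK k k.2
    · exact Subtype.ext (congrArg Subtype.val e :)
  have h3 : Nat.card (MulAction.stabilizer K α) =
      Nat.card (K ⊓ MulAction.stabilizer (Cfsg.Sz F m) α : Subgroup (Cfsg.Sz F m)) :=
    Nat.card_congr
      { toFun := fun x => ⟨x.1.1, x.1.2, x.2⟩
        invFun := fun x => ⟨⟨x.1, x.2.1⟩, x.2.2⟩
        left_inv := fun x => rfl
        right_inv := fun x => rfl }
  rw [← h1, ← h3]
  exact Nat.mul_le_mul_right _ h2

omit D hF in
theorem centralizer_le_stab {g : Cfsg.Sz F m} (hg : g ≠ 1) (α : Ω) (hgα : g • α = α) :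
    Nat.card (Subgroup.centralizer {g}) ≤
      2 * Nat.card (Subgroup.centralizer {g} ⊓ MulAction.stabilizer (Cfsg.Sz F m) α : Subgroup (Cfsg.Sz F m)) :=
  card_sub_le hfix hg α _ fun x hx => by
    rw [← mul_smul, ← (mem_centralizer_one.1 hx).eq, mul_smul, hgα]

theorem odd_centralizer_le {g : Cfsg.Sz F m} (hg : g ≠ 1) (ho : Odd (orderOf g)) (α : Ω) (hgα : g • α = α) :
    Subgroup.centralizer {g} ≤ MulAction.stabilizer (Cfsg.Sz F m) α := by
  have h1 := centralizer_le_stab hfix hg α hgα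
  set C := Subgroup.centralizer {g}
  set H := MulAction.stabilizer (Cfsg.Sz F m) α
  obtain ⟨c, hc⟩ := Subgroup.card_dvd_of_le (inf_le_left : C ⊓ H ≤ C)
  have hodd : Odd c := Odd.of_dvd_nat (((szLike D hF).odd_cyc g hg ho).2.1) ⟨_, by rw [hc, mul_comm]⟩
  have hc1 : c = 1 := by
    rw [hc, mul_comm] at h1
    have := Nat.le_of_mul_le_mul_right h1 Nat.card_pos
    obtain ⟨r, rfl⟩ := hodd
    omega
  rw [hc1, mul_one] at hc
  exact inf_eq_left.1 (Subgroup.eq_of_le_of_card_ge inf_le_left hc.le)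

variable (α : Ω)

omit hfix in
theorem exists_odd_or_invol {H : Subgroup (Cfsg.Sz F m)} {g : Cfsg.Sz F m} (hg : g ∈ H) (hg1 : g ≠ 1) :
    (∃ t ∈ H, orderOf t = 2) ∨ Odd (orderOf g) := by
  by_cases h : Odd (orderOf g)
  · exact Or.inr h
  · obtain ⟨n, hn⟩ := (szLike D hF).exists_invol_pow h
    exact Or.inl ⟨_, pow_mem hg n, hn⟩

/-- A stabiliser with an involution fixes a point of the ovoid. -/
theorem le_stab_of_invol (hne : MulAction.stabilizer (Cfsg.Sz F m) α ≠ ⊤) {t : Cfsg.Sz F m}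
    (ht : orderOf t = 2) (htα : t • α = α) :
    ∃ p : Cfsg.suzukiOvoid F m, MulAction.stabilizer (Cfsg.Sz F m) α ≤ MulAction.stabilizer (Cfsg.Sz F m) p := by
  classical
  set H := MulAction.stabilizer (Cfsg.Sz F m) α with hH
  have hbig := centralizer_le_stab hfix (orderOf_two_iff.1 ht).1 α htα
  obtain ⟨a, k, hta, hka, hC⟩ := centralizer_invol D hF ht
  have hCcard : Nat.card (Subgroup.centralizer {t}) = Fintype.card F ^ 2 := by
    rw [← card_Q D]
    exact Nat.card_congr ((MulAut.conj k).toEquiv.subtypeEquiv fun g => hC g)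
  rw [hCcard] at hbig
  set S := (Subgroup.centralizer {t} ⊓ H : Subgroup (Cfsg.Sz F m))
  obtain ⟨i, hi⟩ : ∃ i, Nat.card S = 2 ^ i :=
    IsPGroup.iff_card.1 (((szLike D hF).invol t ht).1.to_le inf_le_left)
  have hHne : H ≠ ⊥ := fun e => (orderOf_two_iff.1 ht).1 (Subgroup.mem_bot.1 (e ▸ (htα : t ∈ H)))
  have hi5 : 2 ^ (4 * m + 1) ≤ 2 ^ i := by
    rw [← hi]
    rw [hF, ← pow_mul] at hbig
    have : 2 ^ (4 * m + 1) * 2 = 2 ^ ((2 * m + 1) * 2) := by rw [← pow_succ]; congr 1; ring
    omega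
  have hi5' := (Nat.pow_le_pow_iff_right (le_refl 2)).1 hi5
  have hm := D.one_le
  by_cases hA : ∀ A : Subgroup (Cfsg.Sz F m), A ≤ H → H ≤ Subgroup.normalizer (A : Set (Cfsg.Sz F m)) →
      (∀ a ∈ A, ∀ b ∈ A, Commute a b) → A = ⊥
  · exfalso
    obtain ⟨d, g, hd, hdvd, hcard, -⟩ := classify D hF H hHne hA
    have hle : d ≤ m := by have := Nat.le_of_dvd (by omega) hdvd; omega
    have hlt : d ≠ m := by
      rintro rfl
      refine hne (Subgroup.eq_top_of_card_eq H ?_)
      rw [hcard, card_sz D hF, hF]; ring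
    have hdiv : 2 ^ i ∣ (2 ^ (2 * d + 1)) ^ 2 * ((((2 ^ (2 * d + 1)) ^ 2 + 1)) * (2 ^ (2 * d + 1) - 1)) := by
      rw [← hi]
      refine (Subgroup.card_dvd_of_le (inf_le_right : S ≤ H)).trans (dvd_of_eq ?_)
      rw [hcard]; ring
    have hodd : Odd (((2 ^ (2 * d + 1)) ^ 2 + 1) * (2 ^ (2 * d + 1) - 1)) := by
      refine Odd.mul (Even.add_one (Nat.even_pow.2 ⟨Nat.even_pow.2 ⟨even_two, by omega⟩, two_ne_zero⟩)) ?_
      exact Nat.Even.sub_odd Nat.one_le_two_pow (Nat.even_pow.2 ⟨even_two, by omega⟩) odd_one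
    have h2 := (Nat.Coprime.pow_left i (Nat.coprime_two_left.2 hodd)).dvd_of_dvd_mul_right hdiv
    rw [← pow_mul] at h2
    have := (Nat.pow_dvd_pow_iff_le_right (le_refl 2)).1 h2
    omega
  · push_neg at hA
    obtain ⟨A, -, hMA, hAc, hA⟩ := hA
    rcases local_cases D hF H A hMA hAc hA with ⟨p, hp⟩ | ⟨U, hU, hMU⟩
    · exact ⟨p, hp⟩
    · exfalso
      obtain ⟨x, hxU, hx1, hxo, hCx⟩ : ∃ x ∈ U, x ≠ 1 ∧ Odd (orderOf x) ∧ Subgroup.centralizer {x} = U := by
        have h1 : 1 < Nat.card U ∧ Odd (Nat.card U) := by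
          rcases hU with ⟨p, p', hpp, rfl⟩ | hU
          · rw [card_pairStab D hF hpp]
            have := D.card_big hF
            have := Nat.one_le_two_pow (n := m)
            refine ⟨by omega, ?_⟩
            rw [hF]
            exact Nat.Even.sub_odd Nat.one_le_two_pow (Nat.even_pow.2 ⟨even_two, by omega⟩) odd_one
          · refine ⟨hU.one_lt, Odd.of_dvd_nat ?_ (hU.card_dvd D hF)⟩
            exact Even.add_one (Nat.even_pow.2 ⟨hF ▸ Nat.even_pow.2 ⟨even_two, by omega⟩, two_ne_zero⟩)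
        haveI : Nontrivial U := Finite.one_lt_card_iff_nontrivial.1 h1.1
        obtain ⟨x, hx⟩ := exists_ne (1 : U)
        have hx' : (x : Cfsg.Sz F m) ≠ 1 := fun e => hx (Subtype.ext e)
        refine ⟨x, x.2, hx', Odd.of_dvd_nat h1.2 (Subgroup.orderOf_dvd_natCard U x.2), ?_⟩
        rcases hU with ⟨p, p', hpp, rfl⟩ | hU
        · exact centralizer_twoFix D hF hx' hpp x.2.1 x.2.2
        · exact hU.centralizer_eq D hF x.2 hx'
      obtain ⟨-, hodd, -, hdvd⟩ := (szLike D hF).odd_cyc x hx1 hxo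
      rw [hCx] at hdvd hodd
      have h2 := (Subgroup.card_dvd_of_le ((inf_le_right : S ≤ H).trans hMU)).trans hdvd
      rw [hi, mul_comm 4] at h2
      have h3 : 2 ^ i ∣ 2 ^ 2 := (Nat.Coprime.pow_left i (Nat.coprime_two_left.2 hodd)).dvd_of_dvd_mul_left h2
      have := (Nat.pow_dvd_pow_iff_le_right (le_refl 2)).1 h3
      omega

/-- A stabiliser inside the Borel subgroup containing the torus is the whole Borel subgroup. -/
theorem borel_of_torus {t : Cfsg.Sz F m} (ht : orderOf t = 2) (htα : t • α = α)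
    (hle : MulAction.stabilizer (Cfsg.Sz F m) α ≤ MulAction.stabilizer (Cfsg.Sz F m) (oI D))
    (hH : ∀ u : Fˣ, gH D u • α = α) :
    MulAction.stabilizer (Cfsg.Sz F m) α = MulAction.stabilizer (Cfsg.Sz F m) (oI D) := by
  classical
  haveI := D.char2
  set H := MulAction.stabilizer (Cfsg.Sz F m) α
  have hbig := centralizer_le_stab hfix (orderOf_two_iff.1 ht).1 α htα
  have htI : t • oI D = oI D := hle htα
  have hC : ∀ g, g ∈ Subgroup.centralizer {t} ↔ g ∈ Q D := fun g => by
    rw [centralizer_invol' D hF ht htI (one_smul _ _) g, one_mul, inv_one, mul_one]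
  have hCcard : Nat.card (Subgroup.centralizer {t}) = Fintype.card F ^ 2 := by
    rw [← card_Q D]; exact Nat.card_congr (Equiv.subtypeEquivRight hC)
  rw [hCcard] at hbig
  have hscale : ∀ (u : Fˣ) (p r : F), gT D p r ∈ H → gT D ((u : F) ^ 2 * p) ((kap D u : F) * r) ∈ H := by
    intro u p r h
    rw [← gH_scale]
    exact mul_mem (mul_mem (hH u : gH D u ∈ H) h) (inv_mem (hH u : gH D u ∈ H))
  obtain ⟨p, r, hp, hpr⟩ : ∃ p r, p ≠ 0 ∧ gT D p r ∈ H := by
    by_contra hcon
    push_neg at hcon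
    have : Nat.card (Subgroup.centralizer {t} ⊓ H : Subgroup (Cfsg.Sz F m)) ≤ Fintype.card F := by
      rw [← Nat.card_eq_fintype_card]
      refine Nat.card_le_card_of_injective (fun g => qB D ⟨g.1, (hC _).1 g.2.1⟩) fun g g' e => ?_
      have hA : ∀ (g : (Subgroup.centralizer {t} ⊓ H : Subgroup (Cfsg.Sz F m))), qA D ⟨g.1, (hC _).1 g.2.1⟩ = 0 := by
        intro g
        by_contra hne
        refine hcon _ (qB D ⟨g.1, (hC _).1 g.2.1⟩) hne ?_
        rw [show gT D _ _ = g.1 from congrArg Subtype.val (qT_coords D ⟨g.1, (hC _).1 g.2.1⟩)]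
        exact g.2.2
      apply Subtype.ext
      rw [← congrArg Subtype.val (qT_coords D ⟨g.1, (hC _).1 g.2.1⟩),
        ← congrArg Subtype.val (qT_coords D ⟨g'.1, (hC _).1 g'.2.1⟩)]
      simp only [] at e
      rw [hA g, hA g', e]
    have h8 : 2 < Fintype.card F := by
      have := D.card_big hF
      have := Nat.one_le_two_pow (n := m)
      omega
    rw [pow_two] at hbig
    nlinarith
  have hZ : ∀ c, gT D 0 c ∈ H := by
    intro c
    by_cases hc : c = 0
    · rw [hc, gT_zero]; exact one_mem _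
    have h1 := mul_mem hpr hpr
    rw [gT_mul, D.add_self, D.add_self, zero_add] at h1
    have hne : D.θ p * p ≠ 0 := mul_ne_zero ((map_ne_zero D.θ).2 hp) hp
    obtain ⟨u, hu⟩ := (Finite.injective_iff_surjective.1 (kap_inj D hF)) (Units.mk0 c hc * (Units.mk0 _ hne)⁻¹)
    have h2 := hscale u _ _ h1
    rw [mul_zero, show (kap D u : F) * (D.θ p * p) = c by
      rw [hu, Units.val_mul, Units.val_inv_eq_inv_val, Units.val_mk0, Units.val_mk0, inv_mul_cancel_right₀ hne]] at h2
    exact h2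
  have hT : ∀ a b, gT D a b ∈ H := by
    intro a b
    by_cases ha : a = 0
    · subst ha; exact hZ b
    obtain ⟨v, hv⟩ := (Finite.injective_iff_surjective.1 fun x y e => D.sq_inj e :
      Function.Surjective fun x : F => x ^ 2) (a / p)
    simp only at hv
    have hv0 : v ≠ 0 := fun e => div_ne_zero ha hp (by rw [← hv, e]; simp)
    have h2 := hscale (Units.mk0 v hv0) p r hpr
    rw [Units.val_mk0, hv, div_mul_cancel₀ a hp] at h2
    have h3 := mul_mem h2 (hZ (b + (kap D (Units.mk0 v hv0) : F) * r))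
    rw [gT_mul, add_zero, mul_zero, add_zero, add_left_comm, D.add_self, add_zero] at h3
    exact h3
  refine le_antisymm hle fun g hg => ?_
  obtain ⟨a, b, u, rfl⟩ := gfix_inf D hF hg
  exact mul_mem (hT a b) (hH u)

/-- The two possibilities, up to moving the point. -/
theorem stab_cases [MulAction.IsPretransitive (Cfsg.Sz F m) Ω] (hne : MulAction.stabilizer (Cfsg.Sz F m) α ≠ ⊤)
    (hbot : MulAction.stabilizer (Cfsg.Sz F m) α ≠ ⊥) :
    (∃ β : Ω, MulAction.stabilizer (Cfsg.Sz F m) β = MulAction.stabilizer (Cfsg.Sz F m) (oI D)) ∨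
      Nat.card (MulAction.stabilizer (Cfsg.Sz F m) α) = Fintype.card F - 1 := by
  classical
  haveI := D.char2
  have hm := D.one_le
  set H := MulAction.stabilizer (Cfsg.Sz F m) α with hHdef
  by_cases hinv : ∃ t ∈ H, orderOf t = 2
  · left
    obtain ⟨t, htH, ht⟩ := hinv
    obtain ⟨p, hp⟩ := le_stab_of_invol D hF hfix α hne ht htH
    obtain ⟨k, hk⟩ := transitive D p
    -- move the point to infinity
    set β := k⁻¹ • α with hβ
    have hmove : ∀ g, g • β = β ↔ (k * g * k⁻¹) • α = α := fun g => by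
      rw [hβ, ← mul_smul, eq_inv_smul_iff, ← mul_smul, ← mul_assoc]
    have hle : MulAction.stabilizer (Cfsg.Sz F m) β ≤ MulAction.stabilizer (Cfsg.Sz F m) (oI D) := by
      intro g hg
      have h1 : k * g * k⁻¹ ∈ MulAction.stabilizer (Cfsg.Sz F m) p := hp ((hmove g).1 hg)
      rw [MulAction.mem_stabilizer_iff] at h1 ⊢
      rw [← hk, conj_fix] at h1
      exact h1
    set t' := k⁻¹ * t * k with ht'
    have ht'β : t' • β = β := (hmove _).2 (by
      rw [show k * t' * k⁻¹ = t by rw [ht']; group]; exact htH)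
    have ht'2 : orderOf t' = 2 := by
      rw [ht', show k⁻¹ * t * k = MulAut.conj k⁻¹ t by simp, MulEquiv.orderOf_eq, ht]
    by_cases hodd : ∃ g : Cfsg.Sz F m, g • β = β ∧ g ≠ 1 ∧ Odd (orderOf g)
    · obtain ⟨g, hgβ, hg1, hgo⟩ := hodd
      have hgI : g • oI D = oI D := hle hgβ
      obtain ⟨b, hb, hgb⟩ : ∃ b, oI D ≠ b ∧ g • b = b := by
        rcases fix_trichotomy g with h0 | h1 | ⟨c, d, hcd, hc, hd⟩
        · exact absurd hgI (h0 _)
        · exfalso
          refine hg1 (orderOf_eq_one_iff.1 (Nat.Coprime.eq_one_of_dvd ?_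
            (orderOf_dvd_of_pow_eq_one (pow_four_of_oneFix D hF h1))))
          exact Nat.Coprime.pow_right 2 (Nat.coprime_two_right.2 hgo)
        · rcases eq_pair_or D hF hg1 hcd hc hd hgI with e | e
          · exact ⟨d, e ▸ hcd, hd⟩
          · exact ⟨c, e ▸ hcd.symm, hc⟩
      obtain ⟨x, y, rfl⟩ := (o_cases D b).resolve_left fun e => hb e.symm
      have hC := odd_centralizer_le D hF hfix hg1 hgo β hgβ
      rw [centralizer_twoFix D hF hg1 hb hgI hgb] at hC
      set γ := (gT D x y)⁻¹ • β with hγ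
      have hmove' : ∀ g, g • γ = γ ↔ (gT D x y * g * (gT D x y)⁻¹) • β = β := fun g => by
        rw [hγ, ← mul_smul, eq_inv_smul_iff, ← mul_smul, ← mul_assoc]
      refine ⟨γ, borel_of_torus D hF hfix γ (t := (gT D x y)⁻¹ * t' * gT D x y) ?_ ?_ ?_ ?_⟩
      · rw [show (gT D x y)⁻¹ * t' * gT D x y = MulAut.conj (gT D x y)⁻¹ t' by simp, MulEquiv.orderOf_eq, ht'2]
      · rw [hmove']
        rwa [show gT D x y * ((gT D x y)⁻¹ * t' * gT D x y) * (gT D x y)⁻¹ = t' by group]
      · intro g hg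
        have h1 := hle ((hmove' g).1 hg)
        rw [MulAction.mem_stabilizer_iff] at h1 ⊢
        rw [← gT_oI D x y, conj_fix] at h1
        exact h1
      · intro u
        rw [hmove']
        refine hC (mem_pairStab.2 ⟨?_, ?_⟩)
        · rw [mul_smul, mul_smul, inv_smul_eq_iff.2 (gT_oI D x y).symm, gH_oI, gT_oI]
        · have e1 : (gT D x y)⁻¹ • oP D x y = oP D 0 0 := by rw [inv_smul_eq_iff, gT_oP]; simp
          rw [mul_smul, mul_smul, e1, gH_oP, mul_zero, mul_zero, gT_oP]; simp
    · exfalso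
      push_neg at hodd
      have hQ : ∀ g, g • β = β → g ∈ Q D := by
        intro g hg
        obtain ⟨a, b, u, rfl⟩ := gfix_inf D hF (hle hg)
        by_cases hu : u = 1
        · rw [hu, gH_one, mul_one]; exact ⟨a, b, rfl⟩
        obtain ⟨X, Y, hXY⟩ := second_fix D hF (x := a) (y := b) hu
        have hne1 : gT D a b * gH D u ≠ 1 := fun e => hu (gH_inj D (by
          rw [gH_one, eq_inv_of_mul_eq_one_right e, gT_inv]
          obtain ⟨ea, eb⟩ : a = 0 ∧ b + D.θ a * a = 0 := by
            have h1 : gH D u • oP D 0 0 = oP D 0 0 := by rw [gH_oP, mul_zero, mul_zero]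
            rw [eq_inv_of_mul_eq_one_right e, gT_inv, gT_oP] at h1
            obtain ⟨f1, f2⟩ := pP_inj D (congrArg Subtype.val h1)
            exact ⟨by linear_combination f1, by linear_combination f2⟩
          subst ea
          rw [eb, gT_zero]))
        exact absurd (odd_orderOf_of_twoFix D hF ⟨oI D, _, oI_ne_oP D X Y, hle hg, hXY⟩)
          (hodd _ hg hne1)
      obtain ⟨c₀, c, hc⟩ : t' ∈ Q D := hQ _ ht'β
      have hc0 : c₀ = 0 := by
        have h2 : t' ^ 2 = 1 := (orderOf_two_iff.1 ht'2).2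
        rw [hc, pow_two, gT_mul, ← gT_zero D, D.add_self, D.add_self, zero_add] at h2
        exact (square_zero_iff D hF).1 (gT_inj D h2).2
      subst hc0
      have hcne : c ≠ 0 := fun e => (orderOf_two_iff.1 ht'2).1 (by rw [hc, e, gT_zero])
      set Hβ := MulAction.stabilizer (Cfsg.Sz F m) β
      set B := {e : F // gT D 0 e • β = β}
      have hHq : Nat.card Hβ ≤ Fintype.card F * Nat.card B := by
        rw [← Nat.card_eq_fintype_card, ← Nat.card_prod]
        have hrep : ∀ p : F, ∃ r : F, (∃ r', gT D p r' • β = β) → gT D p r • β = β := by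
          intro p
          by_cases h : ∃ r', gT D p r' • β = β
          · obtain ⟨r, hr⟩ := h; exact ⟨r, fun _ => hr⟩
          · exact ⟨0, fun h' => absurd h' h⟩
        choose r hr using hrep
        have hcoord : ∀ g : Hβ, gT D (qA D ⟨g.1, hQ _ g.2⟩) (qB D ⟨g.1, hQ _ g.2⟩) = g.1 := fun g =>
          congrArg Subtype.val (qT_coords D ⟨g.1, hQ _ g.2⟩)
        refine Nat.card_le_card_of_injective (fun g => (qA D ⟨g.1, hQ _ g.2⟩,
          (⟨qB D ⟨g.1, hQ _ g.2⟩ + r (qA D ⟨g.1, hQ _ g.2⟩), ?_⟩ : B))) fun g g' e => ?_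
        · set p := qA D ⟨g.1, hQ _ g.2⟩
          set q := qB D ⟨g.1, hQ _ g.2⟩
          have h1 : gT D p q • β = β := by rw [hcoord]; exact g.2
          have h2 := hr p ⟨q, h1⟩
          have h3 : gT D 0 (q + r p) = (gT D p (r p))⁻¹ * gT D p q := by
            rw [gT_inv, gT_mul, D.add_self]
            congr 1
            linear_combination (-1 : F) * D.θ p * p * D.two
          rw [h3, mul_smul, h1, inv_smul_eq_iff, h2]
        · have e1 : qA D ⟨g.1, hQ _ g.2⟩ = qA D ⟨g'.1, hQ _ g'.2⟩ := congrArg Prod.fst e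
          have e2 := congrArg (fun q => (q.2 : F)) e
          simp only [e1, add_left_inj] at e2
          apply Subtype.ext
          rw [← hcoord g, ← hcoord g', e1, e2]
      have hbig := centralizer_le_stab hfix (orderOf_two_iff.1 ht'2).1 β ht'β
      have hC : ∀ g, g ∈ Subgroup.centralizer {t'} ↔ g ∈ Q D := fun g => by
        rw [centralizer_invol' D hF ht'2 (hle ht'β) (one_smul _ _) g, one_mul, inv_one, mul_one]
      rw [Nat.card_congr (Equiv.subtypeEquivRight hC), card_Q D] at hbig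
      have hHle : Nat.card Hβ ≤ Fintype.card F ^ 2 := by
        rw [← card_Q D]
        exact Subgroup.card_le_of_le fun g hg => hQ g hg
      have hBbig : Fintype.card F ≤ 2 * Nat.card B := by
        have h1 := Subgroup.card_le_of_le (inf_le_right : Subgroup.centralizer {t'} ⊓ Hβ ≤ Hβ)
        rw [pow_two] at hbig
        have : Fintype.card F * Fintype.card F ≤ Fintype.card F * (2 * Nat.card B) := by nlinarith
        exact Nat.le_of_mul_le_mul_left this Fintype.card_pos
      -- the elements moving the point into the fixed set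
      set S : Set (Cfsg.Sz F m) := {x | t' • (x • β) = x • β}
      have hS := card_le_of_fix hfix (orderOf_two_iff.1 ht'2).1 β S fun x hx => hx
      have hlow : Fintype.card F ^ 2 * (Nat.card B - 1) ≤ Nat.card S := by
        have hB1 : Nat.card {e : B // (e : F) ≠ 0} = Nat.card B - 1 := by
          have h0 : (⟨0, by rw [gT_zero, one_smul]⟩ : B) = (⟨0, by rw [gT_zero, one_smul]⟩ : B) := rfl
          rw [Nat.card_congr (Equiv.subtypeEquivRight (q := fun e : B => ¬ e = ⟨0, by rw [gT_zero, one_smul]⟩)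
            fun e => by rw [Subtype.ext_iff]), Nat.card_eq_fintype_card, Nat.card_eq_fintype_card,
            Fintype.card_subtype_compl, Fintype.card_subtype_eq]
        rw [← card_Q D, ← hB1, ← Nat.card_prod]
        have hu : ∀ e : {e : B // (e : F) ≠ 0}, ∃ u : Fˣ, (kap D u : F) * (e.1 : F) = c := by
          intro e
          obtain ⟨u, hu⟩ := (Finite.injective_iff_surjective.1 (kap_inj D hF)) (Units.mk0 c hcne * (Units.mk0 _ e.2)⁻¹)
          exact ⟨u, by rw [hu, Units.val_mul, Units.val_inv_eq_inv_val, Units.val_mk0, Units.val_mk0, inv_mul_cancel_right₀ e.2]⟩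
        choose u hu using hu
        refine Nat.card_le_card_of_injective (fun qe : Q D × {e : B // (e : F) ≠ 0} =>
          (⟨(qe.1 : Cfsg.Sz F m) * gH D (u qe.2), ?_⟩ : S)) fun qe qe' e => ?_
        · show t' • (((qe.1 : Cfsg.Sz F m) * gH D (u qe.2)) • β) = ((qe.1 : Cfsg.Sz F m) * gH D (u qe.2)) • β
          have h1 : t' * ((qe.1 : Cfsg.Sz F m) * gH D (u qe.2)) =
              ((qe.1 : Cfsg.Sz F m) * gH D (u qe.2)) * gT D 0 (qe.2.1 : F) := by
            rw [hc, ← mul_assoc, (commute_central D hF qe.1).eq, mul_assoc, mul_assoc]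
            congr 1
            have := gH_scale D (u qe.2) 0 (qe.2.1 : F)
            rw [mul_zero, hu, mul_inv_eq_iff_eq_mul] at this
            exact this.symm
          rw [← mul_smul, h1, mul_smul, qe.2.1.2]
        · have e' : (qe.1 : Cfsg.Sz F m) * gH D (u qe.2) = (qe'.1 : Cfsg.Sz F m) * gH D (u qe'.2) :=
            congrArg Subtype.val e
          obtain ⟨a, b, ea⟩ := qe.1.2
          obtain ⟨a', b', ea'⟩ := qe'.1.2
          have hu' : u qe.2 = u qe'.2 := by
            have h1 : ((qe'.1 : Cfsg.Sz F m))⁻¹ * qe.1 = gH D (u qe'.2 * (u qe.2)⁻¹) := by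
              rw [← gH_mul, ← gH_inv, eq_mul_inv_iff_mul_eq, mul_assoc, e', inv_mul_cancel_left]
            have h2 : gH D (u qe'.2 * (u qe.2)⁻¹) ∈ Q D := h1 ▸ mul_mem (inv_mem qe'.1.2) qe.1.2
            by_contra hne2
            have hw : u qe'.2 * (u qe.2)⁻¹ ≠ 1 := fun h => hne2 (mul_inv_eq_one.1 h).symm
            have h3 : gH D (u qe'.2 * (u qe.2)⁻¹) ≠ 1 := fun h => hw (gH_inj D (h.trans (gH_one D).symm))
            exact oI_ne_oP D 0 0 (fix_oI_eq D hF h2 h3 (by rw [gH_oP, mul_zero, mul_zero])).symm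
          have hq : qe.1 = qe'.1 := Subtype.ext (by rw [hu'] at e'; exact mul_right_cancel e')
          refine Prod.ext hq (Subtype.ext (Subtype.ext ?_))
          have h4 := hu qe.2
          rw [hu', ← hu qe'.2] at h4
          exact mul_left_cancel₀ (Units.ne_zero _) h4
      have h8 : 8 ≤ Fintype.card F := by
        rw [hF]; exact le_trans (by norm_num) (Nat.pow_le_pow_right (by norm_num) (show 3 ≤ 2 * m + 1 by omega))
      have : Fintype.card F ^ 2 * (Nat.card B - 1) ≤ Fintype.card F ^ 2 * 2 := by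
        calc _ ≤ Nat.card S := hlow
          _ ≤ 2 * Nat.card Hβ := hS
          _ ≤ 2 * Fintype.card F ^ 2 := Nat.mul_le_mul_left 2 hHle
          _ = _ := mul_comm _ _
      have := Nat.le_of_mul_le_mul_left this (by positivity)
      omega
  · right
    push_neg at hinv
    have hHodd : ∀ g ∈ H, g ≠ 1 → Odd (orderOf g) := fun g hg hg1 =>
      (exists_odd_or_invol D hF hg hg1).resolve_left fun ⟨t, htH, ht⟩ => hinv t htH ht
    by_cases hA : ∀ A : Subgroup (Cfsg.Sz F m), A ≤ H → H ≤ Subgroup.normalizer (A : Set (Cfsg.Sz F m)) →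
        (∀ a ∈ A, ∀ b ∈ A, Commute a b) → A = ⊥
    · exfalso
      haveI : Nontrivial H := (Subgroup.nontrivial_iff_ne_bot _).2 hbot
      obtain ⟨z, t, x, i, -, -, ht, -⟩ :=
        ((szLike D hF).subgroup H).shape fun A hAn hAc => normal_abelian_map H A hAn hA hAc
      exact hinv t t.2 (by rw [Subgroup.orderOf_coe, ht])
    · push_neg at hA
      obtain ⟨A, hAH, hMA, hAc, hA⟩ := hA
      haveI : Nontrivial A := (Subgroup.nontrivial_iff_ne_bot A).2 hA
      obtain ⟨⟨a, haA⟩, ha⟩ := exists_ne (1 : A)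
      have ha1 : a ≠ 1 := fun e => ha (Subtype.ext e)
      have hao := hHodd a (hAH haA) ha1
      have hC := odd_centralizer_le D hF hfix ha1 hao α (hAH haA)
      obtain ⟨-, hCodd, hT, hdvd⟩ := (szLike D hF).odd_cyc a ha1 hao
      set C := Subgroup.centralizer {a} with hCdef
      have hHN : H ≤ Subgroup.normalizer (C : Set (Cfsg.Sz F m)) := by
        intro g hg
        have h1 := (Subgroup.mem_normalizer_iff.1 (hMA hg) a).1 haA
        have h2 := hT _ (mem_centralizer_one.2 (hAc _ h1 _ haA)) fun e => ha1 (conj_eq_one_iff.1 e)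
        rw [Subgroup.mem_normalizer_iff]
        intro y
        conv_rhs => rw [← h2]
        exact conj_mem_centralizer.symm
      have hNH := card_sub_le hfix ha1 α (Subgroup.normalizer (C : Set (Cfsg.Sz F m))) fun x hx => by
        have h1 : x⁻¹ * a * x ∈ C := by
          have := (Subgroup.mem_normalizer_iff.1 (inv_mem hx) a).1 (self_mem_centralizer a)
          rwa [inv_inv] at this
        rw [← mul_smul, show a * x = x * (x⁻¹ * a * x) by group, mul_smul]
        congr 1
        exact hC h1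
      rw [inf_eq_right.2 hHN] at hNH
      -- the stabiliser is the centraliser
      have hHC : H = C := by
        refine le_antisymm ?_ hC
        obtain ⟨c, hc⟩ := Subgroup.card_dvd_of_le hC
        have hHo : Odd (Nat.card H) := by
          by_contra he
          haveI := Fact.mk Nat.prime_two
          obtain ⟨⟨t, htH⟩, ht⟩ := exists_prime_orderOf_dvd_card' 2
            (Nat.not_odd_iff_even.1 he |>.two_dvd)
          rw [← Subgroup.orderOf_coe] at ht
          exact hinv t htH ht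
        have h1 := (Subgroup.card_dvd_of_le hHN).trans hdvd
        rw [hc, mul_comm 4] at h1
        have h2 : c ∣ 2 ^ 2 := Nat.dvd_of_mul_dvd_mul_left Nat.card_pos h1
        have hc1 : c = 1 := Nat.Coprime.eq_one_of_dvd
          (Nat.Coprime.pow_right 2 (Nat.coprime_two_right.2 (Odd.of_dvd_nat hHo ⟨_, by rw [hc, mul_comm]⟩))) h2
        rw [hc1, mul_one] at hc
        exact (Subgroup.eq_of_le_of_card_ge hC hc.le).ge
      rcases fix_trichotomy a with h0 | h1 | ⟨b, c, hbc, hb, hc⟩
      · exfalso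
        obtain ⟨U, hU, haU⟩ := exists_torus_mem D hF ha1 h0
        have hCU : C = U := hU.centralizer_eq D hF haU ha1
        obtain ⟨w, hw, e⟩ := hU.exists_index_eq D hF
        have h4 : 4 * Nat.card C ≤ Nat.card (Subgroup.normalizer (C : Set (Cfsg.Sz F m))) := by
          obtain ⟨U', hU', hU'n⟩ : ∃ U' : Subgroup (Cfsg.Sz F m), IsTorus U' ∧
              Nat.card (Subgroup.normalizer (U' : Set (Cfsg.Sz F m))) = 4 * Nat.card U' ∧ Nat.card U' = Nat.card U := by
            obtain ⟨U₁, hU₁, h1', hn1⟩ := exists_tori D hF _ (Or.inl rfl)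
            obtain ⟨U₂, hU₂, h2', hn2⟩ := exists_tori D hF _ (Or.inr rfl)
            rcases torus_card D hF hU with e1 | e1
            · refine ⟨U₁, hU₁, ?_, ?_⟩
              · rw [hn1, h1']
              · rw [h1', e1]
            · refine ⟨U₂, hU₂, ?_, ?_⟩
              · rw [hn2, h2']
              · rw [h2', e1]
          obtain ⟨hU'n, hU'c⟩ := hU'n
          obtain ⟨p, hp, hpd⟩ := Nat.exists_prime_and_dvd hU.one_lt.ne'
          haveI := Fact.mk hp
          obtain ⟨k, hk⟩ := hU'.conj_of_dvd D hF hU (hU'c ▸ hpd) hpd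
          rw [hCU, ← hk, card_conj_smul, ← hU'n]
          refine Nat.card_le_card_of_injective
            (fun x => (⟨k * (x : Cfsg.Sz F m) * k⁻¹, ?_⟩ : Subgroup.normalizer ((MulAut.conj k • U' : Subgroup (Cfsg.Sz F m)) : Set (Cfsg.Sz F m))))
            fun x y e => Subtype.ext (mul_left_cancel (mul_right_cancel (congrArg Subtype.val e)))
          rw [Subgroup.mem_normalizer_iff]
          intro y
          rw [Subgroup.mem_pointwise_smul_iff_inv_smul_mem, Subgroup.mem_pointwise_smul_iff_inv_smul_mem, ← map_inv,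
            MulAut.smul_def, MulAut.smul_def, MulAut.conj_apply, MulAut.conj_apply]
          rw [show k⁻¹ * (k * (x : Cfsg.Sz F m) * k⁻¹ * y * (k * (x : Cfsg.Sz F m) * k⁻¹)⁻¹) * k⁻¹⁻¹ =
            (x : Cfsg.Sz F m) * (k⁻¹ * y * k⁻¹⁻¹) * (x : Cfsg.Sz F m)⁻¹ by group]
          exact Subgroup.mem_normalizer_iff.1 x.2 _
        rw [hHC] at hNH
        have : 0 < Nat.card C := Nat.card_pos
        omega
      · exfalso
        refine ha1 (orderOf_eq_one_iff.1 (Nat.Coprime.eq_one_of_dvd ?_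
          (orderOf_dvd_of_pow_eq_one (pow_four_of_oneFix D hF h1))))
        exact Nat.Coprime.pow_right 2 (Nat.coprime_two_right.2 hao)
      · rw [hHC, hCdef, centralizer_twoFix D hF ha1 hbc hb hc, card_pairStab D hF hbc]

end Cfsg.Agent.Suzuki
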