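/-
In a Suzuki group the square of a class of elements of order above two covers everything but the unit.
-/
import Cfsg.Agent.Lib.Suzuki.CharTable
import Cfsg.Agent.Lib.CT.Tables

set_option autoImplicit false

namespace Cfsg.Agent.Suzuki

open scoped ComplexConjugate
open Cfsg.Agent.CT
open scoped Classical

universe u

/-- `g` is a product of two conjugates of `x`. -/
def SqCov {G : Type*} [Group G] (x g : G) : Prop := ∃ u v : G, g = (u * x * u⁻¹) * (v * x * v⁻¹)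

theorem sqCov_conj {G : Type*} [Group G] {x g : G} (k l : G) (h : SqCov (k * x * k⁻¹) (l * g * l⁻¹)) : SqCov x g := by
  obtain ⟨u, v, h⟩ := h
  refine ⟨l⁻¹ * u * k, l⁻¹ * v * k, ?_⟩
  rw [show g = l⁻¹ * (l * g * l⁻¹) * l by group, h]
  group

theorem sqCov_of_sum {G : Type*} [Group G] [Fintype G] {x g : G}
    (h : ∑ χ : IrrCharacter G, (χ : G → ℂ) x * (χ : G → ℂ) x * conj ((χ : G → ℂ) g) / (χ : G → ℂ) 1 ≠ 0) :
    SqCov x g := by
  have hc := class_mul_formula x x g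
  rcases isEmpty_or_nonempty {p : G × G // IsConj x p.1 ∧ IsConj x p.2 ∧ p.1 * p.2 = g} with he | ⟨⟨p, h1, h2, h3⟩⟩
  · rw [Nat.card_of_isEmpty, Nat.cast_zero, eq_comm, mul_eq_zero, div_eq_zero_iff, mul_eq_zero] at hc
    haveI : Nonempty {y : G // IsConj x y} := ⟨⟨x, IsConj.refl x⟩⟩
    exact absurd ((hc.resolve_left (by simp [Nat.card_pos.ne'])) ) h
  · obtain ⟨u, hu⟩ := isConj_iff.1 h1
    obtain ⟨v, hv⟩ := isConj_iff.1 h2
    exact ⟨u, v, by rw [hu, hv, h3]⟩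

/-- A lower bound for a part of the sum. -/
theorem part_norm {ι : Type*} {S : Finset ι} {f g d : ι → ℂ} {B R δ : ℝ} (hδ : 0 < δ) (hd : ∀ i ∈ S, d i = (δ : ℂ))
    (hg : ∀ i ∈ S, ‖g i‖ ≤ B) (hB : 0 ≤ B) (hR : ∑ i ∈ S, ‖f i‖ ^ 2 ≤ R) :
    -(R * B / δ) ≤ (∑ i ∈ S, f i * f i * conj (g i) / d i).re := by
  rw [Complex.re_sum]
  calc -(R * B / δ) ≤ -((∑ i ∈ S, ‖f i‖ ^ 2) * B / δ) :=
        neg_le_neg (div_le_div_of_nonneg_right (mul_le_mul_of_nonneg_right hR hB) hδ.le)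
    _ = ∑ i ∈ S, -(‖f i‖ ^ 2 * B / δ) := by rw [Finset.sum_neg_distrib, Finset.sum_mul, Finset.sum_div]
    _ ≤ ∑ i ∈ S, (f i * f i * conj (g i) / d i).re := Finset.sum_le_sum fun i hi => by
        rw [hd i hi, Complex.div_ofReal_re]
        have h1 := (Complex.abs_re_le_norm (f i * f i * conj (g i)))
        rw [norm_mul, norm_mul, Complex.norm_conj] at h1
        have h2 : ‖f i‖ * ‖f i‖ * ‖g i‖ ≤ ‖f i‖ ^ 2 * B := by
          rw [pow_two]; exact mul_le_mul_of_nonneg_left (hg i hi) (mul_nonneg (norm_nonneg _) (norm_nonneg _))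
        rw [neg_le, ← neg_div]
        exact div_le_div_of_nonneg_right (by linarith [(abs_le.1 h1).1]) hδ.le

/-- A part of the sum with non-negative real parts. -/
theorem part_nonneg {ι : Type*} {S : Finset ι} {f g d : ι → ℂ} {δ : ℝ} (hδ : 0 < δ) (hd : ∀ i ∈ S, d i = (δ : ℂ))
    (h : ∀ i ∈ S, 0 ≤ (f i * f i * conj (g i)).re) : 0 ≤ (∑ i ∈ S, f i * f i * conj (g i) / d i).re := by
  rw [Complex.re_sum]
  refine Finset.sum_nonneg fun i hi => ?_
  rw [hd i hi, Complex.div_ofReal_re]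
  exact div_nonneg (h i hi) hδ.le

variable {F : Type u} [Field F] [Fintype F] {m : ℕ} (D : Dat F m) (hF : Fintype.card F = 2 ^ (2 * m + 1))
  [Fintype (Cfsg.Sz F m)]

include D hF

theorem norm_hom (θ : Fˣ →* ℂˣ) (u : Fˣ) : ‖(θ u : ℂ)‖ = 1 := by
  refine Complex.norm_eq_one_of_pow_eq_one (n := Fintype.card Fˣ) ?_ Fintype.card_ne_zero
  rw [← Units.val_pow_eq_pow_val, ← map_pow, pow_card_eq_one, map_one, Units.val_one]

theorem ps_gH_le (θ : Fˣ →* ℂˣ) {u : Fˣ} (hu : u ≠ 1) : ‖ps D hF θ (gH D u)‖ ≤ 2 := by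
  rw [ps_apply]
  set f : Option (F × F) → ℂ := fun o => extendByZero (Bo D) (lamB D hF θ) ((ptK D o)⁻¹ * gH D u * ptK D o)
  have hfix : ∀ o, f o ≠ 0 → o = none ∨ o = some (0, 0) := by
    intro o ho
    have hm : (ptK D o)⁻¹ * gH D u * ptK D o ∈ Bo D := by
      by_contra hc
      exact ho (extendByZero_not_mem _ _ hc)
    rw [mem_Bo, mul_smul, mul_smul, inv_smul_eq_iff] at hm
    rcases o_cases D (ptK D o • oI D) with e | ⟨x, y, e⟩
    · exact Or.inl ((ptK_bij D).1 (by show ptK D o • oI D = ptK D none • oI D; rw [e]; simp [ptK]))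
    · rw [e, gH_oP] at hm
      obtain ⟨h1, h2⟩ := pP_inj D (congrArg Subtype.val hm)
      have hx : x = 0 := by
        by_contra hx
        have : (u : F) ^ 2 = 1 := mul_right_cancel₀ hx (h1.trans (one_mul x).symm)
        exact hu (Units.ext (D.sq_inj (this.trans (one_pow 2).symm)))
      have hy : y = 0 := by
        by_contra hy
        have h3 : D.θ (u : F) ^ 2 * (u : F) ^ 2 = 1 := mul_right_cancel₀ hy (h2.trans (one_mul y).symm)
        exact hu (kap_inj D hF (Units.ext (by rw [kap_val, h3, kap_val]; simp)))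
      subst hx; subst hy
      exact Or.inr ((ptK_bij D).1 (by
        show ptK D o • oI D = ptK D (some (0, 0)) • oI D
        rw [e]; simp [ptK, mul_smul, gw_oI, gT_oP]))
  have hn : ∀ o, ‖f o‖ ≤ 1 := by
    intro o
    by_cases hm : (ptK D o)⁻¹ * gH D u * ptK D o ∈ Bo D
    · simp only [f, extendByZero_mem _ _ hm]
      exact le_of_eq (norm_hom D hF θ _)
    · simp only [f, extendByZero_not_mem _ _ hm, norm_zero, zero_le_one]
  calc ‖∑ o, f o‖ = ‖∑ o ∈ ({none, some (0, 0)} : Finset (Option (F × F))), f o‖ := by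
        congr 1
        refine (Finset.sum_subset (Finset.subset_univ _) fun o _ ho => ?_).symm
        by_contra hc
        exact ho (by simpa using hfix o hc)
    _ ≤ ∑ o ∈ ({none, some (0, 0)} : Finset (Option (F × F))), ‖f o‖ := norm_sum_le _ _
    _ ≤ ∑ o ∈ ({none, some (0, 0)} : Finset (Option (F × F))), (1 : ℝ) := Finset.sum_le_sum fun o _ => hn o
    _ ≤ 2 := by rw [Finset.sum_pair (by simp)]; norm_num

theorem stb_gH_le {u : Fˣ} (hu : u ≠ 1) : ‖stb D hF (gH D u)‖ ≤ 3 := by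
  have h := ps_gH_le D hF 1 hu
  have h2 := norm_sub_le (ps D hF 1 (gH D u)) 1
  rw [norm_one] at h2
  show ‖ps D hF 1 (gH D u) - 1‖ ≤ 3
  linarith

theorem stb_fpf {a : Cfsg.Sz F m} (ha : ∀ p : Cfsg.suzukiOvoid F m, a • p ≠ p) : stb D hF a = -1 := by
  simp [stb, ps_fpf D hF _ ha]

/-- The sum is not zero when the bounds add up to less than one. -/
theorem cov_aux {Cp Cm : OddCls (Cfsg.Sz F m)} {P M W : Finset (IrrCharacter (Cfsg.Sz F m))}
    (T : Table D hF Cp Cm P M W) {x g : Cfsg.Sz F m} (a b s s' LP LM LW : ℝ)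
    (hpx : ∀ θ : Fˣ →* ℂˣ, ‖ps D hF θ x‖ ≤ a) (hpg : ∀ θ : Fˣ →* ℂˣ, ‖ps D hF θ g‖ ≤ b)
    (hsx : ‖stb D hF x‖ ≤ s) (hsg : ‖stb D hF g‖ ≤ s')
    (hP : -LP ≤ (∑ χ ∈ P, (χ : Cfsg.Sz F m → ℂ) x * (χ : Cfsg.Sz F m → ℂ) x * conj ((χ : Cfsg.Sz F m → ℂ) g) /
      (χ : Cfsg.Sz F m → ℂ) 1).re)
    (hM : -LM ≤ (∑ χ ∈ M, (χ : Cfsg.Sz F m → ℂ) x * (χ : Cfsg.Sz F m → ℂ) x * conj ((χ : Cfsg.Sz F m → ℂ) g) /
      (χ : Cfsg.Sz F m → ℂ) 1).re)
    (hW : -LW ≤ (∑ χ ∈ W, (χ : Cfsg.Sz F m → ℂ) x * (χ : Cfsg.Sz F m → ℂ) x * conj ((χ : Cfsg.Sz F m → ℂ) g) /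
      (χ : Cfsg.Sz F m → ℂ) 1).re)
    (hsum : s ^ 2 * s' / (Fintype.card F : ℝ) ^ 2 +
      a ^ 2 * b * ((Fintype.card F : ℝ) - 2) / (2 * ((Fintype.card F : ℝ) ^ 2 + 1)) + LP + LM + LW < 1) :
    SqCov x g := by
  haveI : Finite (Fˣ →* ℂˣ) := Nat.finite_of_card_ne_zero (by
    rw [card_hom hF, ← Fintype.card_units]; exact Fintype.card_ne_zero)
  haveI := Fintype.ofFinite (Fˣ →* ℂˣ)
  refine sqCov_of_sum fun h => ?_
  rw [sum_split D hF fun f => f x * f x * conj (f g) / f 1, T.split] at h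
  have h' := congrArg Complex.re h
  rw [Complex.add_re, Complex.add_re, Complex.add_re, Complex.add_re, Complex.add_re, Complex.zero_re] at h'
  have hq : (2 : ℝ) ≤ (Fintype.card F : ℝ) := by exact_mod_cast Fintype.one_lt_card
  have h1 : ((1 : ℂ) * 1 * conj (1 : ℂ) / 1).re = 1 := by simp
  have ha : 0 ≤ a := le_trans (norm_nonneg _) (hpx 1)
  have hb : 0 ≤ b := le_trans (norm_nonneg _) (hpg 1)
  have hs : 0 ≤ s := le_trans (norm_nonneg _) hsx
  have hst : stb D hF 1 = (((Fintype.card F : ℝ) ^ 2 : ℝ) : ℂ) := by simp [stb, ps_one]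
  have h2 : -(s ^ 2 * s' / (Fintype.card F : ℝ) ^ 2) ≤
      (stb D hF x * stb D hF x * conj (stb D hF g) / stb D hF 1).re := by
    have := part_norm (S := ({()} : Finset Unit)) (f := fun _ => stb D hF x) (g := fun _ => stb D hF g)
      (d := fun _ => stb D hF 1) (δ := (Fintype.card F : ℝ) ^ 2) (R := s ^ 2) (by positivity) (fun _ _ => hst)
      (fun _ _ => hsg) (le_trans (norm_nonneg _) hsg) (by simpa using pow_le_pow_left₀ (norm_nonneg _) hsx 2)
    simpa using this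
  have h3 : -(a ^ 2 * b * ((Fintype.card F : ℝ) - 2) / (2 * ((Fintype.card F : ℝ) ^ 2 + 1))) ≤
      ((2 : ℂ)⁻¹ * ∑ θ ∈ Finset.univ.erase (1 : Fˣ →* ℂˣ),
        ps D hF θ x * ps D hF θ x * conj (ps D hF θ g) / ps D hF θ 1).re := by
    have hp := part_norm (S := Finset.univ.erase (1 : Fˣ →* ℂˣ)) (f := fun θ => ps D hF θ x)
      (g := fun θ => ps D hF θ g) (d := fun θ => ps D hF θ 1) (δ := (Fintype.card F : ℝ) ^ 2 + 1)
      (R := ((Fintype.card F : ℝ) - 2) * a ^ 2) (by positivity) (fun θ _ => by rw [ps_one]; push_cast; rfl)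
      (fun θ _ => hpg θ) hb (by
        refine (Finset.sum_le_card_nsmul _ _ (a ^ 2) fun θ _ => pow_le_pow_left₀ (norm_nonneg _) (hpx θ) 2).trans
          (le_of_eq ?_)
        rw [Finset.card_erase_of_mem (Finset.mem_univ _), Finset.card_univ, ← Nat.card_eq_fintype_card (α := Fˣ →* ℂˣ),
          card_hom hF, nsmul_eq_mul, Nat.sub_sub, Nat.cast_sub (Fintype.one_lt_card (α := F))]
        norm_num)
    rw [show (2 : ℂ)⁻¹ = ((2⁻¹ : ℝ) : ℂ) by simp, Complex.re_ofReal_mul]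
    have := mul_le_mul_of_nonneg_left hp (show (0 : ℝ) ≤ 2⁻¹ by norm_num)
    refine le_trans (le_of_eq ?_) this
    field_simp
  simp only [h1] at h'
  linarith

omit [Field F] [Fintype F] [Fintype (Cfsg.Sz F m)] D hF in
/-- The numerical bounds. -/
theorem sq_bounds {q t n k : ℝ} (hq : q = 2 * t * t) (ht : t = 2 ∨ 4 ≤ t) (hn : 4 * n = q + 2 * t)
    (hk : 4 * k = q - 2 * t) :
    8 ≤ q ∧ 2 ≤ t ∧ (q - 2) / (q ^ 2 + 1) ≤ 6 / 65 ∧ 1 / q ^ 2 ≤ 1 / 64 ∧ q / ((q - 1) * t) ≤ 4 / 7 ∧ 2 / (q - 1) ≤ 2 / 7 ∧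
    n * 4 / ((q - 1) * (q - 2 * t + 1)) ≤ 12 / 35 ∧ n * (2 * t - 1) / ((q - 1) * (q - 2 * t + 1)) ≤ 12 / 35 ∧
    k * 4 / ((q - 1) * (q + 2 * t + 1)) ≤ 12 / 35 ∧ k * (2 * t + 1) / ((q - 1) * (q + 2 * t + 1)) ≤ 12 / 35 ∧
    (q + 2 * t + 1 - 4) * (if t = 2 then 3 else 4) / ((q - 1) * (q - 2 * t + 1)) ≤ 27 / 35 ∧
    (q - 2 * t + 1 - 4) * 4 / ((q - 1) * (q + 2 * t + 1)) ≤ 5 / 13 ∧
    (q - 2 * t + 1 - 4) * (2 * t + 1) / ((q - 1) * (q + 2 * t + 1)) ≤ 5 / 13 := by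
  rcases ht with rfl | ht
  · obtain rfl : q = 8 := by rw [hq]; norm_num
    obtain rfl : n = 3 := by linarith
    obtain rfl : k = 1 := by linarith
    norm_num
  · obtain rfl : n = (q + 2 * t) / 4 := by linarith
    obtain rfl : k = (q - 2 * t) / 4 := by linarith
    have h32 : 32 ≤ q := by nlinarith
    have h8 : 8 * t ≤ q := by nlinarith
    have d0 : 0 < (q - 1) * (q - 2 * t + 1) := by nlinarith
    have d1 : 0 < (q - 1) * (q + 2 * t + 1) := by nlinarith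
    have e0 : (q - 1) * (q * 3 / 4) ≤ (q - 1) * (q - 2 * t + 1) := mul_le_mul_of_nonneg_left (by linarith) (by linarith)
    have e1 : (q - 1) * q ≤ (q - 1) * (q + 2 * t + 1) := mul_le_mul_of_nonneg_left (by linarith) (by linarith)
    have e2 : (q + 2 * t) * t ≤ (5 * q / 4) * (q / 8) := mul_le_mul (by linarith) (by linarith) (by linarith) (by linarith)
    refine ⟨by linarith, by linarith, ?_, ?_, ?_, ?_, ?_, ?_, ?_, ?_, ?_, ?_, ?_⟩
    · rw [div_le_div_iff₀ (by positivity) (by norm_num)]; nlinarith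
    · exact one_div_le_one_div_of_le (by norm_num) (by nlinarith)
    · rw [div_le_div_iff₀ (by nlinarith) (by norm_num)]; nlinarith
    · exact div_le_div_of_nonneg_left (by norm_num) (by norm_num) (by linarith)
    · rw [div_le_iff₀ d0]; nlinarith
    · rw [div_le_iff₀ d0]; nlinarith
    · rw [div_le_iff₀ d1]; nlinarith
    · rw [div_le_iff₀ d1]; nlinarith
    · rw [if_neg (by linarith), div_le_iff₀ d0]; nlinarith
    · rw [div_le_iff₀ d1]; nlinarith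
    · rw [div_le_iff₀ d1]; nlinarith

omit [Fintype F] [Fintype (Cfsg.Sz F m)] D hF in
theorem re_sq_of_re_zero {z w : ℂ} (hz : z.re = 0) : (z * z * conj w).re = -(z.im ^ 2 * w.re) := by
  simp only [Complex.mul_re, Complex.mul_im, Complex.conj_re, Complex.conj_im, hz]; ring

/-- The square of a class of elements of order above two covers every element but the unit. -/
theorem sq_cover {x g : Cfsg.Sz F m} (hx : 2 < orderOf x) (hg : g ≠ 1) : SqCov x g := by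
  obtain ⟨Cp, Cm, P, M, W, hCp, hNp, hfp, hCm, hNm, hfm, T⟩ := exists_table D hF
  obtain ⟨tn, htm, -, hqn, hr⟩ := q_facts D hF
  set q : ℝ := (Fintype.card F : ℝ) with hqdef
  set t : ℝ := (2 : ℝ) ^ m with htdef
  have hq : q = 2 * t * t := by
    rw [hqdef, htdef, hF]; push_cast; rw [pow_succ, two_mul m, pow_add]; ring
  have ht : t = 2 ∨ 4 ≤ t := by
    rcases Nat.lt_or_ge m 2 with h | h
    · left; rw [htdef, show m = 1 by have := D.one_le; omega, pow_one]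
    · right; rw [htdef]; exact le_trans (by norm_num) (pow_le_pow_right₀ (by norm_num) h)
  have hle : 2 ^ (m + 1) ≤ Fintype.card F := by rw [hF]; exact Nat.pow_le_pow_right two_pos (by omega)
  have ep : (Nat.card Cp.1 : ℝ) = q + 2 * t + 1 := by rw [hCp, hqdef, htdef]; push_cast; ring
  have em : (Nat.card Cm.1 : ℝ) = q - 2 * t + 1 := by
    rw [hCm, Nat.cast_add, Nat.cast_sub hle, hqdef, htdef]; push_cast; ring
  have hnP : 4 * (P.card : ℝ) = q + 2 * t := by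
    have h : (4 * P.card + 1 : ℝ) = Nat.card Cp.1 := by exact_mod_cast T.tp.card
    rw [ep] at h; linarith
  have hnM : 4 * (M.card : ℝ) = q - 2 * t := by
    have h : (4 * M.card + 1 : ℝ) = Nat.card Cm.1 := by exact_mod_cast T.tm.card
    rw [em] at h; linarith
  obtain ⟨hq8, ht2, b1, b2, b3, b4, c1, c2, c3, c4, c5, c6, c7⟩ := sq_bounds hq ht hnP hnM
  have dP : 0 < (q - 1) * (q - 2 * t + 1) := by
    refine mul_pos (by linarith) ?_
    nlinarith
  have dM : 0 < (q - 1) * (q + 2 * t + 1) := by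
    refine mul_pos (by linarith) ?_
    linarith
  have dW : 0 < (q - 1) * t := mul_pos (by linarith) (by linarith)
  have hW2 : ∑ χ ∈ W, (1 : ℝ) = 2 := by rw [Finset.sum_const, T.cardW]; norm_num
  have hcu : ∀ χ ∈ P ∪ M ∪ W, ∀ u : Fˣ, u ≠ 1 → (χ : Cfsg.Sz F m → ℂ) (gH D u) = 0 := fun χ hχ u hu =>
    (cusp_torus D hF (T.cusp χ (by simpa [or_assoc] using hχ))).1 u hu
  have sQ : ∀ {a b : F}, a ≠ 0 ∨ b ≠ 0 → ‖stb D hF (gT D a b)‖ ≤ 0 ∧ ∀ θ : Fˣ →* ℂˣ, ‖ps D hF θ (gT D a b)‖ ≤ 1 :=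
    fun h => ⟨by rw [stb_Q D hF h, norm_zero], fun θ => by rw [ps_Q D hF θ h, norm_one]⟩
  have sT : ∀ {a : Cfsg.Sz F m}, (∀ p : Cfsg.suzukiOvoid F m, a • p ≠ p) →
      ‖stb D hF a‖ ≤ 1 ∧ ∀ θ : Fˣ →* ℂˣ, ‖ps D hF θ a‖ ≤ 0 :=
    fun h => ⟨by rw [stb_fpf D hF h, norm_neg, norm_one], fun θ => by rw [ps_fpf D hF θ h, norm_zero]⟩
  have hy : ∀ y, (y = gT D 1 0 ∨ y = gT D 1 1) → ‖stb D hF y‖ ≤ 0 ∧ ∀ θ : Fˣ →* ℂˣ, ‖ps D hF θ y‖ ≤ 1 := by
    rintro y (rfl | rfl) <;> exact sQ (Or.inl one_ne_zero)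
  have nPz : ∀ χ ∈ P, ‖(χ : Cfsg.Sz F m → ℂ) (gT D 0 1)‖ ≤ 2 * t - 1 := fun χ h => by
    rw [T.zP χ h, Complex.norm_real, Real.norm_eq_abs, abs_le]; constructor <;> linarith
  have nMz : ∀ χ ∈ M, ‖(χ : Cfsg.Sz F m → ℂ) (gT D 0 1)‖ ≤ 2 * t + 1 := fun χ h => by
    rw [T.zM χ h, Complex.norm_real, Real.norm_eq_abs, abs_le]; constructor <;> linarith
  have nPy : ∀ χ ∈ P, ∀ y, (y = gT D 1 0 ∨ y = gT D 1 1) → ‖(χ : Cfsg.Sz F m → ℂ) y‖ ≤ 4 := fun χ h y e => by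
    rw [T.yP χ h y e, norm_neg, norm_one]; norm_num
  have nMy : ∀ χ ∈ M, ∀ y, (y = gT D 1 0 ∨ y = gT D 1 1) → ‖(χ : Cfsg.Sz F m → ℂ) y‖ ≤ 4 := fun χ h y e => by
    rw [T.yM χ h y e, norm_neg, norm_one]; norm_num
  have nPp : ∀ χ ∈ P, ∀ a ∈ Cp.1, a ≠ 1 → ‖(χ : Cfsg.Sz F m → ℂ) a‖ ≤ (if t = 2 then 3 else 4 : ℝ) := by
    intro χ h a ha ha1
    split_ifs with h2
    · have hle := Finset.single_le_sum (f := fun ψ : IrrCharacter (Cfsg.Sz F m) => ‖(ψ : Cfsg.Sz F m → ℂ) a‖ ^ 2)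
        (fun ψ _ => sq_nonneg _) h
      rw [T.tp.col a ha ha1, ep, hq, h2] at hle
      norm_num at hle
      nlinarith [norm_nonneg ((χ : Cfsg.Sz F m → ℂ) a)]
    · exact T.tp.bound χ h a ha ha1
  have b3' : (0 : ℝ) ≤ if t = 2 then 3 else 4 := by split_ifs <;> norm_num
  have hPp4 : ∀ χ ∈ P, ∀ a ∈ Cp.1, a ≠ 1 → ‖(χ : Cfsg.Sz F m → ℂ) a‖ ≤ 4 := fun χ h a ha ha1 => T.tp.bound χ h a ha ha1
  have hw1 : (2 : ℝ) * 1 / ((q - 1) * t) ≤ 2 / 7 := by
    rw [mul_one]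
    refine le_trans (div_le_div_of_nonneg_left (c := q - 1) zero_le_two (by linarith) ?_) b4
    nlinarith
  -- classification
  have hxy : ∀ k : Cfsg.Sz F m, k * x * k⁻¹ ≠ gT D 0 1 := fun k e => by
    have h2 : orderOf (k * x * k⁻¹) = 2 := by rw [e]; exact invol_gT D hF one_ne_zero
    rw [show orderOf (k * x * k⁻¹) = orderOf x from orderOf_injective (MulAut.conj k).toMonoidHom
      (MulAut.conj k).injective x] at h2
    omega
  obtain ⟨k, hk⟩ := conj_cases D hF hCp hCm (fun e : x = 1 => by rw [e, orderOf_one] at hx; omega)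
  obtain ⟨l, hl⟩ := conj_cases D hF hCp hCm hg
  refine sqCov_conj k l ?_
  set x' := k * x * k⁻¹
  set g' := l * g * l⁻¹
  rcases hk with hk | hk | ⟨u, hu, hk⟩ | ⟨hk, hk1⟩ | ⟨hk, hk1⟩
  · exact absurd hk (hxy k)
  · -- elements of order four
    obtain ⟨sx, px⟩ := hy x' hk
    have RP : ∑ χ ∈ P, ‖(χ : Cfsg.Sz F m → ℂ) x'‖ ^ 2 ≤ (P.card : ℝ) := le_of_eq (by
      rw [Finset.sum_congr rfl (g := fun _ => (1 : ℝ)) (fun χ h => by rw [T.yP χ h x' hk]; norm_num),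
        Finset.sum_const, nsmul_eq_mul, mul_one])
    have RM : ∑ χ ∈ M, ‖(χ : Cfsg.Sz F m → ℂ) x'‖ ^ 2 ≤ (M.card : ℝ) := le_of_eq (by
      rw [Finset.sum_congr rfl (g := fun _ => (1 : ℝ)) (fun χ h => by rw [T.yM χ h x' hk]; norm_num),
        Finset.sum_const, nsmul_eq_mul, mul_one])
    have Wre : ∀ χ ∈ W, ((χ : Cfsg.Sz F m → ℂ) g').re ≤ 0 → 0 ≤ ((χ : Cfsg.Sz F m → ℂ) x' *
        (χ : Cfsg.Sz F m → ℂ) x' * conj ((χ : Cfsg.Sz F m → ℂ) g')).re := fun χ h hle => by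
      rw [re_sq_of_re_zero (T.yW χ h x' hk)]
      exact neg_nonneg.2 (mul_nonpos_of_nonneg_of_nonpos (sq_nonneg _) hle)
    rcases hl with hl | hl | ⟨v, hv, hl⟩ | ⟨hl, hl1⟩ | ⟨hl, hl1⟩
    · rw [hl]
      refine cov_aux D hF T 1 1 0 0 (12 / 35) (12 / 35) 0 px (sQ (Or.inr one_ne_zero)).2 sx (sQ (Or.inr one_ne_zero)).1
        (le_trans (neg_le_neg c2) (part_norm dP T.degP nPz (by linarith) RP))
        (le_trans (neg_le_neg c4) (part_norm dM T.degM nMz (by linarith) RM))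
        (by simpa using part_nonneg dW T.degW fun χ h => hl ▸ Wre χ h (by rw [hl, T.zW χ h, Complex.ofReal_re]; linarith)) ?_
      rw [← hqdef, div_mul_eq_div_div]; ring_nf; ring_nf at b1; linarith
    · refine cov_aux D hF T 1 1 0 0 (12 / 35) (12 / 35) 0 px (hy g' hl).2 sx (hy g' hl).1
        (le_trans (neg_le_neg c1) (part_norm dP T.degP (fun χ h => nPy χ h g' hl) (by norm_num) RP))
        (le_trans (neg_le_neg c3) (part_norm dM T.degM (fun χ h => nMy χ h g' hl) (by norm_num) RM))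
        (by simpa using part_nonneg dW T.degW fun χ h => Wre χ h (le_of_eq (T.yW χ h g' hl))) ?_
      rw [← hqdef, div_mul_eq_div_div]; ring_nf; ring_nf at b1; linarith
    · rw [hl]
      refine cov_aux D hF T 1 2 0 3 0 0 0 px (fun θ => ps_gH_le D hF θ hv) sx (stb_gH_le D hF hv) ?_ ?_ ?_ ?_
      · simpa using part_norm dP T.degP (fun χ h => le_of_eq (norm_eq_zero.2 (hcu χ (by simp [h]) v hv))) le_rfl RP
      · simpa using part_norm dM T.degM (fun χ h => le_of_eq (norm_eq_zero.2 (hcu χ (by simp [h]) v hv))) le_rfl RM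
      · simpa using part_norm dW T.degW (fun χ h => le_of_eq (norm_eq_zero.2 (hcu χ (by simp [h]) v hv))) le_rfl
          (T.yWsum x' hk).le
      · rw [← hqdef, div_mul_eq_div_div]; ring_nf; ring_nf at b1; linarith
    · refine cov_aux D hF T 1 0 0 1 (12 / 35) 0 (4 / 7) px (sT (hfp g' hl hl1)).2 sx (sT (hfp g' hl hl1)).1
        (le_trans (neg_le_neg c1) (part_norm dP T.degP (fun χ h => hPp4 χ h g' hl hl1) (by norm_num) RP))
        (by simpa using part_norm dM T.degM (fun χ h => le_of_eq (norm_eq_zero.2 (T.pM χ h g' hl hl1))) le_rfl RM)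
        (le_trans (neg_le_neg (by rw [mul_one]; exact b3)) (part_norm dW T.degW
          (fun χ h => le_of_eq (by rw [T.pW χ h g' hl hl1, norm_one])) zero_le_one (T.yWsum x' hk).le)) ?_
      norm_num
    · refine cov_aux D hF T 1 0 0 1 0 (12 / 35) 0 px (sT (hfm g' hl hl1)).2 sx (sT (hfm g' hl hl1)).1
        (by simpa using part_norm dP T.degP (fun χ h => le_of_eq (norm_eq_zero.2 (T.mP χ h g' hl hl1))) le_rfl RP)
        (le_trans (neg_le_neg c3) (part_norm dM T.degM (fun χ h => T.tm.bound χ h g' hl hl1) (by norm_num) RM))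
        (by simpa using part_nonneg dW T.degW fun χ h => Wre χ h (by rw [T.mW χ h g' hl hl1]; simp)) ?_
      norm_num
  · -- the split torus
    rw [hk]
    have z : ∀ (S : Finset (IrrCharacter (Cfsg.Sz F m))), S ⊆ P ∪ M ∪ W → -0 ≤ (∑ χ ∈ S,
        (χ : Cfsg.Sz F m → ℂ) (gH D u) * (χ : Cfsg.Sz F m → ℂ) (gH D u) * conj ((χ : Cfsg.Sz F m → ℂ) g') /
          (χ : Cfsg.Sz F m → ℂ) 1).re := fun S hS => by
      rw [neg_zero, Finset.sum_eq_zero fun χ h => by rw [hcu χ (hS h) u hu]; simp]; simp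
    have gb : ∀ θ : Fˣ →* ℂˣ, ‖ps D hF θ g'‖ ≤ 2 := by
      rcases hl with hl | hl | ⟨v, hv, hl⟩ | ⟨hl, hl1⟩ | ⟨hl, hl1⟩ <;> intro θ
      · rw [hl]; exact ((sQ (Or.inr one_ne_zero)).2 θ).trans (by norm_num)
      · exact ((hy g' hl).2 θ).trans (by norm_num)
      · rw [hl]; exact ps_gH_le D hF θ hv
      · exact ((sT (hfp g' hl hl1)).2 θ).trans (by norm_num)
      · exact ((sT (hfm g' hl hl1)).2 θ).trans (by norm_num)
    have gs : ‖stb D hF g'‖ ≤ 3 := by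
      rcases hl with hl | hl | ⟨v, hv, hl⟩ | ⟨hl, hl1⟩ | ⟨hl, hl1⟩
      · rw [hl]; exact (sQ (Or.inr one_ne_zero)).1.trans (by norm_num)
      · exact (hy g' hl).1.trans (by norm_num)
      · rw [hl]; exact stb_gH_le D hF hv
      · exact (sT (hfp g' hl hl1)).1.trans (by norm_num)
      · exact (sT (hfm g' hl hl1)).1.trans (by norm_num)
    refine cov_aux D hF T 2 2 3 3 0 0 0 (fun θ => ps_gH_le D hF θ hu) gb (stb_gH_le D hF hu) gs
      (z P (by intro χ; simp +contextual)) (z M (by intro χ; simp +contextual)) (z W (by intro χ; simp +contextual)) ?_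
    rw [← hqdef, div_mul_eq_div_div]; ring_nf; ring_nf at b1 b2; linarith
  · -- the torus of order q + r + 1
    obtain ⟨sx, px⟩ := sT (hfp x' hk hk1)
    have RP : ∑ χ ∈ P, ‖(χ : Cfsg.Sz F m → ℂ) x'‖ ^ 2 ≤ q + 2 * t + 1 - 4 := by rw [T.tp.col x' hk hk1, ep]
    have hM0 : ∀ χ ∈ M, (χ : Cfsg.Sz F m → ℂ) x' = 0 := fun χ h => T.pM χ h x' hk hk1
    have RM : -0 ≤ (∑ χ ∈ M, (χ : Cfsg.Sz F m → ℂ) x' * (χ : Cfsg.Sz F m → ℂ) x' *
        conj ((χ : Cfsg.Sz F m → ℂ) g') / (χ : Cfsg.Sz F m → ℂ) 1).re := by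
      rw [neg_zero, Finset.sum_eq_zero fun χ h => by rw [hM0 χ h]; simp]; simp
    have RW : ∑ χ ∈ W, ‖(χ : Cfsg.Sz F m → ℂ) x'‖ ^ 2 ≤ 2 := le_of_eq (by
      rw [← hW2]; exact Finset.sum_congr rfl fun χ h => by rw [T.pW χ h x' hk hk1]; norm_num)
    have hPx : ∀ χ ∈ P, ((χ : Cfsg.Sz F m → ℂ) x').im = 0 := fun χ _ =>
      Complex.conj_eq_iff_im.1 (real_torus D hF hNp (isCharacter_of_isIrr χ.2) hk)
    rcases hl with hl | hl | ⟨v, hv, hl⟩ | ⟨hl, hl1⟩ | ⟨hl, hl1⟩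
    · rw [hl] at RM ⊢
      have hpos := part_nonneg (f := fun χ : IrrCharacter (Cfsg.Sz F m) => (χ : Cfsg.Sz F m → ℂ) x')
        (g := fun χ : IrrCharacter (Cfsg.Sz F m) => (χ : Cfsg.Sz F m → ℂ) (gT D 0 1)) dP T.degP fun χ h => by
          rw [T.zP χ h]
          simp only [Complex.mul_re, Complex.mul_im, Complex.conj_re, Complex.conj_im, Complex.ofReal_re,
            Complex.ofReal_im, hPx χ h]
          nlinarith [mul_self_nonneg ((χ : Cfsg.Sz F m → ℂ) x').re, ht2, htdef]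
      refine cov_aux D hF T 0 1 1 0 0 0 (2 / 7) px (sQ (Or.inr one_ne_zero)).2 sx (sQ (Or.inr one_ne_zero)).1
        (by simpa using hpos) RM ?_ ?_
      · refine le_trans (neg_le_neg ?_) (part_norm dW T.degW (fun χ h => ?_) (show (0 : ℝ) ≤ t by linarith) RW)
        · rw [mul_div_mul_right _ _ (show t ≠ 0 by linarith)]; exact b4
        · rw [T.zW χ h, Complex.norm_real, Real.norm_eq_abs, abs_neg, abs_of_nonneg (by linarith)]
      · norm_num
    · refine cov_aux D hF T 0 1 1 0 (27 / 35) 0 0 px (hy g' hl).2 sx (hy g' hl).1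
        (le_trans (neg_le_neg c5) (part_norm dP T.degP (fun χ h => ?_) b3' RP)) RM ?_ ?_
      · rw [T.yP χ h g' hl, norm_neg, norm_one]; split_ifs <;> norm_num
      · refine le_trans (le_of_eq neg_zero) (part_nonneg dW T.degW fun χ h => ?_)
        rw [T.pW χ h x' hk hk1, one_mul, one_mul, Complex.conj_re, T.yW χ h g' hl]
      · norm_num
    · rw [hl] at RM ⊢
      refine cov_aux D hF T 0 2 1 3 0 0 0 px (fun θ => ps_gH_le D hF θ hv) sx (stb_gH_le D hF hv) ?_ RM ?_ ?_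
      · simpa using part_norm dP T.degP (fun χ h => le_of_eq (norm_eq_zero.2 (hcu χ (by simp [h]) v hv))) le_rfl RP
      · simpa using part_norm dW T.degW (fun χ h => le_of_eq (norm_eq_zero.2 (hcu χ (by simp [h]) v hv))) le_rfl RW
      · rw [← hqdef]; ring_nf; ring_nf at b2; linarith
    · refine cov_aux D hF T 0 0 1 1 (27 / 35) 0 0 px (sT (hfp g' hl hl1)).2 sx (sT (hfp g' hl hl1)).1
        (le_trans (neg_le_neg c5) (part_norm dP T.degP (fun χ h => nPp χ h g' hl hl1) b3' RP)) RM ?_ ?_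
      · refine le_trans (le_of_eq neg_zero) (part_nonneg dW T.degW fun χ h => ?_)
        rw [T.pW χ h x' hk hk1, T.pW χ h g' hl hl1]; simp
      · rw [← hqdef]; ring_nf; ring_nf at b2; linarith
    · refine cov_aux D hF T 0 0 1 1 0 0 (2 / 7) px (sT (hfm g' hl hl1)).2 sx (sT (hfm g' hl hl1)).1
        (by simpa using part_norm dP T.degP (fun χ h => le_of_eq (norm_eq_zero.2 (T.mP χ h g' hl hl1))) le_rfl RP) RM
        (le_trans (neg_le_neg hw1) (part_norm dW T.degW (fun χ h => le_of_eq (by rw [T.mW χ h g' hl hl1, norm_neg, norm_one]))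
          zero_le_one RW)) ?_
      rw [← hqdef]; ring_nf; ring_nf at b2; linarith
  · -- the torus of order q - r + 1
    obtain ⟨sx, px⟩ := sT (hfm x' hk hk1)
    have RM : ∑ χ ∈ M, ‖(χ : Cfsg.Sz F m → ℂ) x'‖ ^ 2 ≤ q - 2 * t + 1 - 4 := by rw [T.tm.col x' hk hk1, em]
    have RP : -0 ≤ (∑ χ ∈ P, (χ : Cfsg.Sz F m → ℂ) x' * (χ : Cfsg.Sz F m → ℂ) x' *
        conj ((χ : Cfsg.Sz F m → ℂ) g') / (χ : Cfsg.Sz F m → ℂ) 1).re := by
      rw [neg_zero, Finset.sum_eq_zero fun χ h => by rw [T.mP χ h x' hk hk1]; simp]; simp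
    have RW : ∑ χ ∈ W, ‖(χ : Cfsg.Sz F m → ℂ) x'‖ ^ 2 ≤ 2 := le_of_eq (by
      rw [← hW2]; exact Finset.sum_congr rfl fun χ h => by rw [T.mW χ h x' hk hk1]; norm_num)
    rcases hl with hl | hl | ⟨v, hv, hl⟩ | ⟨hl, hl1⟩ | ⟨hl, hl1⟩
    · rw [hl] at RP ⊢
      refine cov_aux D hF T 0 1 1 0 0 (5 / 13) (2 / 7) px (sQ (Or.inr one_ne_zero)).2 sx (sQ (Or.inr one_ne_zero)).1 RP
        (le_trans (neg_le_neg c7) (part_norm dM T.degM nMz (by linarith) RM)) ?_ ?_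
      · refine le_trans (neg_le_neg ?_) (part_norm dW T.degW (fun χ h => ?_) (show (0 : ℝ) ≤ t by linarith) RW)
        · rw [mul_div_mul_right _ _ (show t ≠ 0 by linarith)]; exact b4
        · rw [T.zW χ h, Complex.norm_real, Real.norm_eq_abs, abs_neg, abs_of_nonneg (by linarith)]
      · norm_num
    · refine cov_aux D hF T 0 1 1 0 0 (5 / 13) 0 px (hy g' hl).2 sx (hy g' hl).1 RP
        (le_trans (neg_le_neg c6) (part_norm dM T.degM (fun χ h => nMy χ h g' hl) (by norm_num) RM)) ?_ ?_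
      · refine le_trans (le_of_eq neg_zero) (part_nonneg dW T.degW fun χ h => ?_)
        rw [T.mW χ h x' hk hk1, neg_mul_neg, one_mul, one_mul, Complex.conj_re, T.yW χ h g' hl]
      · norm_num
    · rw [hl] at RP ⊢
      refine cov_aux D hF T 0 2 1 3 0 0 0 px (fun θ => ps_gH_le D hF θ hv) sx (stb_gH_le D hF hv) RP ?_ ?_ ?_
      · simpa using part_norm dM T.degM (fun χ h => le_of_eq (norm_eq_zero.2 (hcu χ (by simp [h]) v hv))) le_rfl RM
      · simpa using part_norm dW T.degW (fun χ h => le_of_eq (norm_eq_zero.2 (hcu χ (by simp [h]) v hv))) le_rfl RW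
      · rw [← hqdef]; ring_nf; ring_nf at b2; linarith
    · refine cov_aux D hF T 0 0 1 1 0 0 (2 / 7) px (sT (hfp g' hl hl1)).2 sx (sT (hfp g' hl hl1)).1 RP
        (by simpa using part_norm dM T.degM (fun χ h => le_of_eq (norm_eq_zero.2 (T.pM χ h g' hl hl1))) le_rfl RM)
        (le_trans (neg_le_neg hw1) (part_norm dW T.degW (fun χ h => le_of_eq (by rw [T.pW χ h g' hl hl1, norm_one]))
          zero_le_one RW)) ?_
      rw [← hqdef]; ring_nf; ring_nf at b2; linarith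
    · refine cov_aux D hF T 0 0 1 1 0 (5 / 13) (2 / 7) px (sT (hfm g' hl hl1)).2 sx (sT (hfm g' hl hl1)).1 RP
        (le_trans (neg_le_neg c6) (part_norm dM T.degM (fun χ h => T.tm.bound χ h g' hl hl1) (by norm_num) RM))
        (le_trans (neg_le_neg hw1) (part_norm dW T.degW (fun χ h => le_of_eq (by rw [T.mW χ h g' hl hl1, norm_neg, norm_one]))
          zero_le_one RW)) ?_
      rw [← hqdef]; ring_nf; ring_nf at b2; linarith

end Cfsg.Agent.Suzuki
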